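import Mathlib
import Cfsg.Agent.GHK.Defs
import Cfsg.Agent.GHK.TriG
import Cfsg.Agent.GHK.TriBa

/-! Lemma N, small supports, good supports. See `stubs/Cfsg/Agent/GHK/PLAN.md`. -/

set_option autoImplicit false
set_option linter.unusedSectionVars false

namespace Cfsg.Agent.GHK

open Cfsg.Agent.Inv.Fz Cfsg.Agent.NE Subgroup
open Cfsg.Agent.Loc.Mss (cmod mem_cmod le_cmod norm_cmod comm_le_left comm_le_right mem_cent cent_le_norm norm_cent
  cent_anti cent_comm conj_mem_of_norm conj_mem_of_norm' mem_sup_norm norm_inf norm_sup norm_comm le_of_le_sup_comm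
  comm_eq_bot_iff)
open Cfsg.Agent.GT TriA TriB
open scoped commutatorElement

variable {G Q : Type*} [Group G] [Finite G] [Group Q] [Finite Q] {S P R K L N T V A : Subgroup G} {x s g b : G} {n : ℕ}

/-- Lemma N. -/
theorem Tri.lemN (h : Tri R x s) (hb : s⁻¹ * b ∈ R) (hK : R ≤ normalizer (K : Set G)) (h1 : ∀ r ∈ R, ⁅b, r⁆ ∈ K)
    (h2 : ∀ r ∈ R, ⁅x * b * x⁻¹, r⁆ ∈ K) : supp R x ≤ K := by
  have xc : ∀ {g}, g ∈ normalizer (R : Set G) → ∀ r ∈ R, ⁅g, r⁆ ∈ R := fun hg r hr =>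
    mul_mem (conj_mem_of_norm hg hr) (inv_mem hr)
  have bn : b ∈ normalizer (R : Set G) := by
    simpa using mul_mem h.sn (le_normalizer hb)
  have tR : supp R x ≤ R := supp_le h.xn
  have kn : R ≤ normalizer (K ⊓ R : Subgroup G) := norm_inf hK le_normalizer
  have wR : K ⊓ R ⊔ ⁅supp R x, R⁆ ≤ R := sup_le inf_le_right ((commutator_mono tR le_rfl).trans (comm_le_left le_normalizer))
  have key : ∀ {g}, (∀ r ∈ R, ⁅g, r⁆ ∈ K ⊓ R ⊔ ⁅supp R x, R⁆) → g ∈ cmod R (K ⊓ R ⊔ ⁅supp R x, R⁆) := fun e =>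
    mem_cmod.2 ⟨norm_of wR e, fun r hr => cinv.1 (e r hr)⟩
  have cc : ∀ {g}, Cz g R → g ∈ cmod R (K ⊓ R ⊔ ⁅supp R x, R⁆) := fun e => key fun r hr => by
    rw [commutatorElement_eq_one_iff_mul_comm.2 (e r hr)]; exact one_mem _
  have b1 := key fun r hr => mem_sup_left ⟨h1 r hr, xc bn r hr⟩
  have b2 := key fun r hr => mem_sup_left ⟨h2 r hr, xc (mul_mem (mul_mem h.xn bn) (inv_mem h.xn)) r hr⟩
  have b3 := key fun r hr => mem_sup_right (commutator_mem_commutator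
    (commutator_mem_commutator (inv_mem hb) (inv_mem (mem_zpowers x))) hr)
  have b4 := cc (cz_iff.2 (conj_mem_of_norm' (norm_cent le_normalizer hb) (conj_mem_of_norm' (norm_cent le_rfl h.sn)
    (conj_mem_of_norm (norm_cent le_rfl h.xn) (cz_iff.1 h.inv)))))
  obtain ⟨m, hm, c⟩ := h.od.odd
  have b5 : x⁻¹ ∈ cmod R (K ⊓ R ⊔ ⁅supp R x, R⁆) := mem_of_sq hm (by rw [inv_pow]; exact inv_mem (cc c)) (by
    simpa [commutatorElement_def, mul_assoc] using
      mul_mem (mul_mem (inv_mem b3) (inv_mem b4)) (mul_mem (inv_mem b1) b2))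
  obtain ⟨k, hk⟩ := PG.exists_iterCommutator_eq_bot_of_isPGroup (h.two.to_le tR) h.two le_norm_supp
  exact (le_of_le_sup_comm hk kn (tR.trans kn) (le_cmod.1 (zpowers_le.2 (inv_mem_iff.1 b5))).2).trans inf_le_left

/-- An element of the coset of `s` with `|[R, b]| ≤ 2`. -/
theorem Tri.four_of (h : Tri R x s) (hb : s⁻¹ * b ∈ R) {z : G} (hz : z * z = 1) (h1 : ∀ r ∈ R, ⁅b, r⁆ ∈ zpowers z) :
    (El 4 (supp R x) ∧ supp R x = closure {z, x * z * x⁻¹}) := by
  have c1 : ∀ {y}, y ∈ zpowers z → y = 1 ∨ y = z := fun hy => by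
    rcases ((ext_elem (A := ⊥) (by simp) hz (by simp)).1 _).1 (mem_sup_right hy) with e | e
    · exact .inl e
    · exact .inr (by rw [← inv_of_sq hz, eq_inv_iff_mul_eq_one, ← mul_eq_one_comm]; exact e)
  have h2 : ∀ r ∈ R, ⁅x * b * x⁻¹, r⁆ ∈ zpowers (x * z * x⁻¹) := fun r hr => by
    rw [← cj_zpowers, mem_cj]
    simpa [commutatorElement_def, mul_assoc] using h1 _ (conj_mem_of_norm' h.xn hr)
  obtain ⟨r0, hr0, e⟩ : ∃ r ∈ R, ⁅b, r⁆ = z ∧ z ≠ 1 := by
    by_contra! n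
    have : ∀ r ∈ R, ⁅b, r⁆ = 1 := fun r hr => (c1 (h1 r hr)).elim id fun e => e.trans (n r hr e)
    refine h.supp_ne (eq_bot_iff.2 (h.lemN hb le_normalizer_of_normal this fun r hr => ?_))
    rw [show ⁅x * b * x⁻¹, r⁆ = x * ⁅b, x⁻¹ * r * x⁆ * x⁻¹ by simp [commutatorElement_def, mul_assoc],
      this _ (conj_mem_of_norm' h.xn hr)]
    simp
  have zc : ∀ r ∈ R, r * z * r⁻¹ = z := fun r hr => (c1 (by
    have := mul_mem (inv_mem (h1 r hr)) (h1 _ (mul_mem hr hr0))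
    rwa [commutatorElement_mul_right_eq_mul_conj, e.1, mul_assoc, mul_assoc, inv_mul_cancel_left,
      ← mul_assoc] at this)).resolve_left (by simpa using e.2)
  have bn : b ∈ normalizer (R : Set G) := by
    simpa using mul_mem h.sn (le_normalizer hb)
  have zR : z ∈ R := e.1 ▸ mul_mem (conj_mem_of_norm bn hr0) (inv_mem hr0)
  have zc' : ∀ r ∈ R, r * (x * z * x⁻¹) = x * z * x⁻¹ * r := fun r hr => by
    simpa [mul_assoc] using conj_comm x (comm_of_conj_eq (zc _ (conj_mem_of_norm' h.xn hr)))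
  have z2 : x * z * x⁻¹ * (x * z * x⁻¹) = 1 := by rw [← conj_mul', hz]; group
  obtain ⟨m1, m2, m3⟩ := four_aux hz z2 (zc' z zR)
  have kc : R ≤ centralizer (closure {z, x * z * x⁻¹} : Subgroup G) := cent_comm ((closure_le _).2 (by
    rintro _ (rfl | rfl)
    exacts [mem_cent.2 fun r hr => comm_of_conj_eq (zc r hr), mem_cent.2 zc']))
  have l := h.lemN hb (kc.trans (cent_le_norm _)) (fun r hr => zpowers_le.2 (subset_closure (.inl rfl)) (h1 r hr))
    fun r hr => zpowers_le.2 (subset_closure (.inr rfl)) (h2 r hr)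
  have o := h.od.mono (supp_le h.xn) mem_norm_supp
  have dj : ∀ t ∈ supp R x, x * t * x⁻¹ = t → t = 1 := fun t ht e => mem_bot.1 ((o.disj_of_comm
    fun u hu v hv => comm_of_sq m2 (l hu) (l hv)).le ⟨h.od.supp_supp.ge ht, mem_fix.2 ⟨ht, comm_of_conj_eq e⟩⟩)
  obtain ⟨⟨t, ht⟩, t1⟩ := ne_bot_iff_exists_ne_one.1 h.supp_ne
  replace t1 : t ≠ 1 := fun e => t1 (Subtype.ext e)
  have ht' := conj_mem_of_norm mem_norm_supp ht
  have zT : z ∈ supp R x := by
    rcases (m1 _).1 (l ht) with a | a | a | a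
    · exact absurd a t1
    · exact a ▸ ht
    · exact (conj_mem_norm mem_norm_supp).1 (a ▸ ht)
    rcases (m1 _).1 (l ht') with c | c | c | c
    · exact absurd c (by simpa using t1)
    · exact c ▸ ht'
    · exact (conj_mem_norm mem_norm_supp).1 (c ▸ ht')
    · exact absurd (dj t ht (c.trans a.symm)) t1
  have eq : supp R x = closure {z, x * z * x⁻¹} := le_antisymm l ((closure_le _).2 (by
    rintro _ (rfl | rfl)
    exacts [zT, conj_mem_of_norm mem_norm_supp zT]))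
  exact ⟨eq ▸ ⟨m3 e.2 fun a => (c1 a).elim (by simpa using e.2) fun a => e.2 (dj z zT a), m2⟩, eq⟩

theorem Loc.center_le (h : Loc P R x s) (hg : g ∈ P) (hc : Cz g P) : g ∈ R := by
  refine (h.ix g hg).elim id fun e => absurd (eq_bot_iff.2 (h.tri.lemN (b := g) ?_ le_normalizer_of_normal
    (fun r hr => commutatorElement_eq_one_iff_mul_comm.2 (hc r (h.le hr))) fun r hr => ?_)) h.tri.supp_ne
  · simpa [mul_assoc] using mul_mem (inv_mem h.tri.ss) e
  · rw [show ⁅x * g * x⁻¹, r⁆ = x * ⁅g, x⁻¹ * r * x⁆ * x⁻¹ by simp [commutatorElement_def, mul_assoc],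
      commutatorElement_eq_one_iff_mul_comm.2 (hc _ (h.le (conj_mem_of_norm' h.tri.xn hr)))]
    simp

/-- `[R, x]` with an abelianisation of rank two. -/
theorem Od.small (h : Od T x) (h1 : supp T x = T) (h2 : T ≠ ⊥) (h4 : Rk 4 T) :
    Q8 T ∨ ∃ t n, 1 ≤ n ∧ Hom T x t n := by
  have c4 := h4 _ _ phi_le le_rfl fun _ => mem_phi
  by_cases e : ⁅T, T⁆ = ⊥
  · obtain ⟨t, ht, nt⟩ := exists_nphi h.two h2
    refine .inr (h.hom0 (eq_bot_iff.2 fun y hy => e.le ?_) (h.gen h1 c4 ht nt).1)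
    have := h.fix_le_comm ⟨h1.ge hy.1, hy⟩
    rwa [h1] at this
  exact .inl (h.q8_of h1 c4 (phi_sub h.two h2 fun t ht nt => h.sq_mem h1 h4 e ht nt) e)

/-- `[R, x]` of order four modulo a subgroup centralised by `x`. -/
theorem Od.four_or_q8 (h : Od R x) (hN : N ≤ R) (hn : R ≤ normalizer (N : Set G)) (hc : Cz x N)
    (h4 : Nat.card (supp R x ⊔ N : Subgroup G) = 4 * Nat.card N) : El 4 (supp R x) ∨ Q8 (supp R x) := by
  have tR := supp_le h.xn
  have o := h.mono tR mem_norm_supp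
  have c1 := supp_triv h.xn hn (L := ⊥) le_normalizer_of_normal bot_le fun k hk =>
    commutatorElement_eq_one_iff_mul_comm.2 (hc k hk)
  have c2 := Loc.card_sup_mul_card_inf_of_le_normalizer (tR.trans hn)
  have l1 : supp R x ⊓ N ≤ ⁅supp R x, supp R x⁆ := fun y hy =>
    h.fix_le_comm ⟨hy.1, mem_fix.2 ⟨hN hy.2, hc y hy.2⟩⟩
  have l2 := der_le_phi (T := supp R x)
  have c3 : Nat.card (supp R x) = 4 * Nat.card ↥(supp R x ⊓ N) :=
    Nat.eq_of_mul_eq_mul_right (Nat.card_pos (α := N)) (by rw [← c2, h4]; ring)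
  have c4 : Nat.card (supp R x) ≤ 4 * Nat.card (phi (supp R x)) :=
    c3.le.trans (Nat.mul_le_mul_left _ (card_le_of_le (l1.trans l2)))
  have ne : supp R x ≠ ⊥ := fun e => by
    rw [e, bot_inf_eq, card_bot] at c3; omega
  obtain ⟨t, ht, nt⟩ := exists_nphi o.two ne
  have c5 := (o.gen h.supp_supp c4 ht nt).1
  have l3 := (eq_of_le_of_card_ge (l1.trans l2) (by omega)).ge
  by_cases e : ⁅supp R x, supp R x⁆ = ⊥
  · have e' := eq_bot_iff.2 ((l3.trans l1).trans e.le)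
    exact .inl ⟨by rw [c5, e', card_bot], fun a ha => mem_bot.1 (e'.le (mem_phi ha))⟩
  · exact .inr (o.q8_of h.supp_supp c4 (l3.trans l1) e)

/-- A two-generator group without fixed points of an automorphism of order three. -/
theorem Od.hom (h : Od T x) (hf : fix T x = ⊥) (h2 : Nat.card T = 4 * Nat.card (phi T)) : ∃ t n, 1 ≤ n ∧ Hom T x t n := h.hom0 hf h2

theorem Hom.el {t : G} (h : Hom T x t 1) : El 4 T := by
  have t2 : t * t = 1 := by rw [← pow_two, ← pow_one 2, ← h.ord, pow_orderOf_eq_one]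
  have t1 : t ≠ 1 := fun e => by simpa [e] using h.ord
  obtain ⟨-, m2, m3⟩ := four_aux t2 (show x * t * x⁻¹ * (x * t * x⁻¹) = 1 by rw [← conj_mul', t2]; group) h.comm
  exact h.eq ▸ ⟨m3 t1 fun a => t1 (by simpa using h.disj.le ⟨a, mem_zpowers _⟩), m2⟩

/-- A subgroup of a group of maximal class with an automorphism of odd order. -/
theorem Mx.supp {H : Subgroup G} {a : G} (hH : Mx H a b n) (h : Od T x) (h1 : supp T x = T) (h2 : T ≠ ⊥) (hle : T ≤ H) :
    El 4 T ∨ Q8 T := by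
  have za : zz a n ∈ zpowers a := pow_mem (mem_zpowers a) _
  have b2 : b * b ∈ zpowers a := hH.sq.elim (fun e => e ▸ one_mem _) fun e => e ▸ za
  have bn : b ∈ normalizer (zpowers a : Set G) := cj_eq_iff.1 (cj_eq_of_le (by
    rw [cj_zpowers, zpowers_le]
    rcases hH.inv with e | ⟨-, e⟩ <;> rw [e]
    exacts [inv_mem (mem_zpowers a), mul_mem (inv_mem (mem_zpowers a)) za]))
  have ix : Ix H (zpowers a) b := fun y hy => (mem_ext bn b2).1 ((closure_le _).2 (by
    rintro _ (rfl | rfl)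
    exacts [le_ext _ _ (mem_zpowers _), self_mem_ext _ _]) (hH.eq.le hy))
  have r4 : Rk 4 T := fun K L _ l2 l3 => by
    have c1 := ix.card_le (l2.trans hle)
    obtain ⟨c, hc⟩ := (Subgroup.isCyclic_iff_exists_zpowers_eq_top (L ⊓ zpowers a)).1 (isCyclic_of_le inf_le_right)
    have c2 := (card_le_of_le (zpowers_le.2 (self_mem_ext (zpowers (c * c)) c))).trans (card_ext_le
      (cent_le_norm _ (mem_cent.2 fun y hy => (comm_zpowers (mul_assoc c c c).symm hy).symm)) (mem_zpowers _))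
    have c3 := card_le_of_le (zpowers_le.2 (l3 c (hc.le (mem_zpowers c)).1))
    rw [hc] at c2
    omega
  rcases h.small h1 h2 r4 with e | ⟨t, m, m1, e⟩
  · exact .inr e
  rcases m1.eq_or_lt with rfl | m2
  · exact .inl e.el
  have k : ∀ u ∈ T, orderOf u = 2 ^ m → zz a n ∈ zpowers u := fun u hu o =>
    zpowers_le.2 (mul_mem (mem_zpowers u) (mem_zpowers u)) (zz_mem hH.ord (zpowers_le.2 ((em _).elim
      (fun l => mul_mem l l) fun l => ix.mul_mem (hle hu) (hle hu) l l)) (by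
        rw [Ne, zpowers_eq_bot, ← pow_two]
        exact pow_ne_one_of_lt_orderOf two_ne_zero (o ▸ Nat.pow_lt_pow_right one_lt_two m2)))
  have tT : t ∈ T := e.eq.ge (subset_closure (.inl rfl))
  refine absurd (mem_bot.1 (e.disj.le ⟨k t tT e.ord, k _ (conj_mem_of_norm h.xn tT) ?_⟩))
    (pow_ne_one_of_lt_orderOf (by positivity) (hH.ord ▸ Nat.pow_lt_pow_right one_lt_two (by have := hH.two; omega)))
  rw [← e.ord]
  exact (MulAut.conj x).orderOf_eq t

/-- A homocyclic support of exponent at least four gives a section of order eight above any normal `K ≤ C_R(x)`. -/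
theorem Loc.hom_rank (h : Loc P R x s) {t : G} (hT : Hom (supp R x) x t n) (h2 : 2 ≤ n) (hK : K ≤ fix R x)
    (hn : P ≤ normalizer (K : Set G)) : ∃ H M : Subgroup G, K ≤ M ∧ M ≤ H ∧ H ≤ P ∧ (∀ y ∈ H, y * y ∈ M) ∧
      Nat.card H = 8 * Nat.card M ∧ ∀ u ∈ supp R x, u * u = 1 → Cz u P → u ∈ M := by
  have tR := supp_le h.tri.xn
  have o := h.tri.od.mono tR mem_norm_supp
  have h1 := h.tri.od.supp_supp
  have kR : K ≤ R := hK.trans inf_le_left
  have nT : R ≤ normalizer (supp R x : Set G) := le_norm_supp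
  have sT := h.tri.s_supp
  have dj0 := h.tri.od.fix_le_comm
  generalize supp R x = T at *
  have tT : t ∈ T := hT.eq.ge (subset_closure (.inl rfl))
  have tT' := conj_mem_of_norm o.xn tT
  have ab : T ≤ centralizer (T : Set G) := by
    have a : ∀ u, u * t = t * u → u * (x * t * x⁻¹) = x * t * x⁻¹ * u → u ∈ centralizer (T : Set G) :=
      fun u a b => cent_comm (A := T) (B := zpowers u) (hT.eq.le.trans ((closure_le _).2 (by
        rintro _ (rfl | rfl)
        exacts [mem_cent.2 fun y hy => (comm_zpowers a.symm hy).symm,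
          mem_cent.2 fun y hy => (comm_zpowers b.symm hy).symm]))) (mem_zpowers u)
    refine hT.eq.le.trans ((closure_le _).2 ?_)
    rintro _ (rfl | rfl)
    exacts [a _ rfl hT.comm, a _ hT.comm.symm rfl]
  have cm : ∀ {u v}, u ∈ T → v ∈ T → u * v = v * u := fun hu hv => mem_cent.1 (ab hv) _ hu
  have dj : T ⊓ fix R x ≤ ⊥ := dj0.trans (comm_eq_bot_iff.2 ab).le
  have kT : K ≤ centralizer (T : Set G) := comm_eq_bot_iff.1 (eq_bot_iff.2 ((le_inf
    (comm_le_right (kR.trans nT)) ((comm_le_left ((tR.trans h.le).trans hn)).trans hK)).trans dj))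
  have np : ∀ {u}, u ∈ T → ∀ {X : Subgroup G}, phi T ≤ X → X ≤ T → u ∈ normalizer (X : Set G) :=
    fun hu X _ b => cent_le_norm _ (cent_anti b (ab hu))
  have c4 : Nat.card T ≤ 4 * Nat.card (phi T) := by
    have a1 := card_ext_le (np tT le_rfl phi_le) (mem_phi tT)
    have a2 := card_ext_le (np tT' (le_ext _ t) (ext_le.2 ⟨phi_le, tT⟩)) (le_ext _ _ (mem_phi tT'))
    have a3 := card_le_of_le (hT.eq.le.trans ((closure_le (ext (ext (phi T) t) (x * t * x⁻¹))).2 (by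
      rintro _ (rfl | rfl)
      exacts [le_ext _ _ (self_mem_ext _ _), self_mem_ext _ _])))
    omega
  have t2 : t * t ≠ 1 := by
    rw [← pow_two]
    exact pow_ne_one_of_lt_orderOf two_ne_zero (hT.ord ▸ Nat.pow_lt_pow_right one_lt_two h2)
  have om : ∀ u ∈ T, u * u = 1 → u ∈ phi T := fun u hu u2 => by_contra fun nu => t2 ((four_aux u2
    (show x * u * x⁻¹ * (x * u * x⁻¹) = 1 by rw [← conj_mul', u2]; group)
    (cm hu (conj_mem_of_norm o.xn hu))).2.1 t ((o.gen h1 c4 hu nu).2.1.le tT))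
  obtain ⟨t0, ht0, nt0⟩ := exists_nphi o.two fun e => t2 (mem_bot.1 (e.le (mul_mem tT tT)))
  have c5 := (o.gen h1 c4 ht0 nt0).1
  obtain ⟨e, eP, eT, e2, eK⟩ : ∃ e ∈ P, e ∈ normalizer (T : Set G) ∧ e * e ∈ K ∧ e ∉ T ⊔ K := by
    by_cases l : fix R x ≤ K
    · exact ⟨s, h.mem, sT, l (mem_fix.2 ⟨h.tri.ss, h.tri.sx⟩), fun a => h.tri.s_not (sup_le tR kR a)⟩
    obtain ⟨d, hd, nd⟩ := SetLike.not_le_iff_exists.1 l
    obtain ⟨e, he, a, c⟩ := exists_pow_not_mem h.tri.two hd.1 nd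
    replace he := zpowers_le.2 hd he
    refine ⟨e, h.le he.1, nT he.1, c, fun m => a ?_⟩
    obtain ⟨u, hu, k, hk, rfl⟩ := (mem_sup_norm (kR.trans nT)).1 m
    rwa [mem_bot.1 (dj ⟨hu, (mul_mem_cancel_right (hK hk)).1 he⟩), one_mul]
  obtain ⟨H0, m0⟩ := exists_fx' e (fun u hu => norm_phi (le_normalizer hu) : T ≤ _)
  have l0 : H0 ≤ T := fun u hu => ((m0 u).1 hu).1
  have l1 : phi T ≤ H0 := fun u hu => (m0 u).2 ⟨phi_le hu, mul_mem (conj_mem_of_norm (norm_phi eT) hu) (inv_mem hu)⟩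
  have ec : ∀ {u}, u ∈ T → e * u * e⁻¹ ∈ T := fun hu => conj_mem_of_norm eT hu
  have eH : e ∈ normalizer (H0 : Set G) := norm_of le_rfl fun u hu => l1 ((m0 u).1 hu).2
  obtain ⟨W, w1, w2⟩ := sq_hom ab
  have c6 := w2 T le_rfl fun u hu _ => hu
  have c7 := w2 H0 l0 fun u hu a => l1 (om u hu a)
  have pT := Nat.card_pos (α := phi T)
  have w4 : W = 4 := Nat.eq_of_mul_eq_mul_right pT (by omega)
  have kn : ∀ {X : Subgroup G}, X ≤ T → X ≤ normalizer (K : Set G) := fun a => a.trans ((tR.trans h.le).trans hn)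
  have cd : ∀ {X : Subgroup G}, X ≤ T → Nat.card ↥(X ⊔ K) = Nat.card X * Nat.card K := fun {X} a => by
    rw [← Loc.card_sup_mul_card_inf_of_le_normalizer (kn a), eq_bot_iff.2 ((inf_le_inf a hK).trans dj), card_bot,
      mul_one]
  have eN : e ∈ normalizer (H0 ⊔ K : Subgroup G) := norm_sup (X := zpowers e) (zpowers_le.2 eH)
    (zpowers_le.2 (hn eP)) (mem_zpowers e)
  have rt : ∀ v ∈ T, ⁅e, v⁆ * ⁅e, v⁆ = 1 ∨ (e * v * e⁻¹ * v) * (e * v * e⁻¹ * v) = 1 → v ∈ H0 := fun v hv a => by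
    refine (m0 v).2 ⟨hv, a.elim (om _ (mul_mem (ec hv) (inv_mem hv))) fun a => ?_⟩
    simpa [commutatorElement_def, mul_assoc] using mul_mem (om _ (mul_mem (ec hv) hv) a) (inv_mem (mem_phi hv))
  have sq : ∀ {u v}, u ∈ T → v ∈ T → u * v * (u * v) = u * u * (v * v) := fun {u v} hu hv => by
    rw [mul_assoc, ← mul_assoc v, ← cm hu hv]; group
  refine ⟨ext (H0 ⊔ K) e, phi H0 ⊔ K, le_sup_right, (sup_le_sup_right phi_le _).trans (le_ext _ _),
    ext_le.2 ⟨sup_le (l0.trans (tR.trans h.le)) (kR.trans h.le), eP⟩, fun y hy => ?_, ?_, fun u hu u2 uc => ?_⟩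
  · rcases (mem_ext eN (mem_sup_right e2)).1 hy with a | a <;>
      obtain ⟨u, hu, k, hk, a⟩ := (mem_sup_norm (kT.trans ((cent_anti l0).trans (cent_le_norm _)))).1 a
    · rw [← a, mul_assoc, ← mul_assoc k, ← mem_cent.1 (kT hk) u (l0 hu), mul_assoc, ← mul_assoc]
      exact mul_mem_sup (mem_phi hu) (mul_mem hk hk)
    · obtain ⟨v, hv, c⟩ := w1 _ ((m0 u).1 hu).2
      have e1 : e * u * e⁻¹ = v * v * u := by rw [c, commutatorElement_def, inv_mul_cancel_right]
      have e3 : e * (v * v) * e⁻¹ * (v * v) = 1 := by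
        rw [c, show e * ⁅e, u⁆ * e⁻¹ * ⁅e, u⁆ = e * e * u * (e * e)⁻¹ * u⁻¹ by simp [commutatorElement_def, mul_assoc],
          ← mem_cent.1 (kT e2) u (l0 hu)]
        group
      have v0 := rt v hv (.inr (by rw [sq (ec hv) hv, ← conj_mul', e3]))
      rw [show y * y = (e * e)⁻¹ * (e * (e * y) * e⁻¹ * (e * y)) by group, ← a, conj_mul', mul_assoc (e * u * e⁻¹),
        ← mul_assoc (e * k * e⁻¹), ← mem_cent.1 (kT (conj_mem_of_norm (hn eP) hk)) u (l0 hu), mul_assoc u, ← mul_assoc _ u,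
        e1, mul_assoc (v * v), ← sq hv (l0 hu)]
      exact mul_mem (mem_sup_right (inv_mem e2)) (mul_mem_sup (mem_phi (mul_mem v0 hu))
        (mul_mem (conj_mem_of_norm (hn eP) hk) hk))
  · rw [card_ext eN (mem_sup_right e2) fun a => eK (sup_le_sup_right l0 _ a), cd l0, cd (phi_le.trans l0), c7, w4]
    ring
  · obtain ⟨v, hv, rfl⟩ := w1 u (om u hu u2)
    refine mem_sup_left (mem_phi (rt v hv (.inl ?_)))
    rw [commutatorElement_def, sq (ec hv) (inv_mem hv), ← conj_mul', ← uc e eP]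
    group

end Cfsg.Agent.GHK
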