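import Mathlib
import Cfsg.Agent.GHK.UP

/-! The reduction of section E3 to the free configuration. -/

set_option autoImplicit false
set_option linter.unusedSectionVars false

namespace Cfsg.Agent.GHK.E3

open Cfsg.Agent.Inv.Fz Cfsg.Agent.NE Subgroup
open scoped commutatorElement

variable {G : Type*} [Group G] [Finite G] {S P R N : Subgroup G} {x s y t : G}

/-- The free configuration. -/
structure Cf (S R : Subgroup G) (x s y t : G) : Prop where
  t2 : T2 S R x s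
  yS : y ∈ S
  yP : y ∈ normalizer ((S ⊓ normalizer (R : Set G) : Subgroup G) : Set G)
  yy : y * y ∈ R
  eq : supp R x = R ⊓ cj y R
  card : Nat.card (supp R x) = 16 * Nat.card (phi (supp R x))
  der : phi (supp R x) ≤ ⁅supp R x, supp R x⁆
  cube : Cz (x ^ 3) R
  xN : Cz x (phi (supp R x))
  tR : t ∈ fix R x
  tn : t ∉ cj y R
  free : ∃ v ∈ supp R x, ⁅y * t * y⁻¹, ⁅t, v⁆⁆ ∉ phi (supp R x)

theorem loc_cj (h : Loc P R x s) (hy : y ∈ normalizer (P : Set G)) :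
    Loc P (cj y R) (y * x * y⁻¹) (y * s * y⁻¹) :=
  ⟨h.p, h.r4, cj_le_iff.2 fun _ hr => (conj_mem_norm hy).2 (h.le hr), h.tri.cj y, (conj_mem_norm hy).2 h.mem,
    fun q hq => (h.ix _ ((conj_mem_norm (inv_mem hy)).2 hq)).imp (fun e => mem_cj.2 (by simpa using e))
      fun e => mem_cj.2 (by simpa [mul_assoc] using e)⟩

theorem mem_cj_of (h : y * y ∈ normalizer (R : Set G)) (e : y * t * y⁻¹ ∈ R) : t ∈ cj y R := by
  have := (conj_mem_norm (inv_mem h)).2 e
  rw [mem_cj]; convert this using 1; group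

theorem exists_not_mem (h : y ∉ normalizer (R : Set G)) : ∃ t ∈ R, t ∉ cj y R := by
  by_contra! k
  exact h (cj_eq_iff.1 (eq_of_le_of_card_ge k (card_cj y R).le).symm)

theorem exists_y (h : T2 S R x s) (hS : IsPGroup 2 S) (hP : ¬ S ≤ normalizer (R : Set G)) : ∃ y ∈ S,
    y ∈ normalizer ((S ⊓ normalizer (R : Set G) : Subgroup G) : Set G) ∧ y ∉ normalizer (R : Set G) ∧ y * y ∈ R := by
  obtain ⟨b, hb, h1⟩ := SetLike.exists_of_lt (lt_inf_normalizer hS
    (lt_of_le_not_ge (inf_le_left : S ⊓ normalizer (R : Set G) ≤ S) fun k => hP (k.trans inf_le_right)))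
  obtain ⟨y, hy, h2, h3⟩ := exists_pow_not_mem hS hb.1 h1
  have yS : y ∈ S := zpowers_le.2 hb.1 hy
  have yP := zpowers_le.2 hb.2 hy
  have yR : y ∉ normalizer (R : Set G) := fun k => h2 ⟨yS, k⟩
  by_cases e : y * y ∈ R
  · exact ⟨y, yS, yP, yR, e⟩
  obtain ⟨t, ht, h4⟩ := exists_not_mem yR
  have tP : t ∈ S ⊓ normalizer (R : Set G) := ⟨h.crit.le ht, le_normalizer ht⟩
  refine ⟨y * t, mul_mem yS tP.1, mul_mem yP (le_normalizer tP), fun k => yR (by simpa using mul_mem k (inv_mem tP.2)), ?_⟩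
  have := mul_mem (h.two.mul_mem ((conj_mem_norm yP).2 tP) h3 (fun k => h4 (mem_cj_of h3.2 k)) e) ht
  convert this using 1; group

/-- The preimage of `Ω₁ Z (P / N)`. -/
def zed (P N : Subgroup G) (hn : P ≤ normalizer (N : Set G)) : Subgroup G where
  carrier := {p | p ∈ P ∧ p * p ∈ N ∧ ∀ q ∈ P, ⁅q, p⁆ ∈ N}
  mul_mem' := by
    rintro a b ⟨ha, a2, ca⟩ ⟨hb, b2, cb⟩
    refine ⟨mul_mem ha hb, ?_, fun q hq => ?_⟩
    · convert mul_mem (mul_mem a2 (cb _ (inv_mem ha))) b2 using 1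
      simp only [commutatorElement_def]; group
    · convert mul_mem (ca q hq) ((conj_mem_norm (hn ha)).2 (cb q hq)) using 1
      simp only [commutatorElement_def]; group
  one_mem' := ⟨one_mem _, by simpa using one_mem N, fun q _ => by simpa using one_mem N⟩
  inv_mem' := by
    rintro a ⟨ha, a2, ca⟩
    refine ⟨inv_mem ha, by simpa using inv_mem a2, fun q hq => ?_⟩
    convert (conj_mem_norm (hn (inv_mem ha))).2 (inv_mem (ca q hq)) using 1
    simp only [commutatorElement_def]; group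

theorem zed_norm (hn : P ≤ normalizer (N : Set G)) {g : G} (h1 : g ∈ normalizer (P : Set G))
    (h2 : g ∈ normalizer (N : Set G)) : g ∈ normalizer (zed P N hn : Set G) :=
  mem_normalizer_of_conj_mem fun p ⟨hp, p2, cp⟩ => ⟨(conj_mem_norm h1).2 hp, by
    rw [← conj_mul']; exact (conj_mem_norm h2).2 p2, fun q hq => by
    convert (conj_mem_norm h2).2 (cp _ ((conj_mem_norm (inv_mem h1)).2 hq)) using 1
    simp only [commutatorElement_def]; group⟩

theorem norm_of_cz (h : Cz x N) : x ∈ normalizer (N : Set G) :=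
  mem_normalizer_of_conj_mem fun n hn => by rw [conj_eq_of_comm (h n hn)]; exact hn

theorem not_supp_le (h : Tri R x s) (hN : N ≤ R) (hc : Cz x N) : ¬ supp R x ≤ N := fun k =>
  h.ne (h.od.cz_of_chain hN hc fun _ hr => k (comm_mem_supp hr).1)

/-- A maximal invariant subgroup centralised by `x`. -/
theorem exists_N (h : Loc P R x s) (hn : P ≤ normalizer (R : Set G)) (hy : y ∈ normalizer (P : Set G)) :
    ∃ N ≤ R, P ≤ normalizer (N : Set G) ∧ y ∈ normalizer (N : Set G) ∧ Cz x N ∧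
      ∃ z ∈ P, z * z ∈ N ∧ (∀ q ∈ P, ⁅q, z⁆ ∈ N) ∧ ⁅x, z⁆ ∉ N := by
  obtain ⟨N, ⟨h1, h2, h3, h4⟩, hm⟩ := (Set.toFinite {N : Subgroup G | N ≤ R ∧ P ≤ normalizer (N : Set G) ∧
    y ∈ normalizer (N : Set G) ∧ Cz x N}).exists_maximal ⟨⊥, bot_le, fun _ _ => norm_of_cz fun _ e => by
      rw [mem_bot.1 e]; simp, norm_of_cz fun _ e => by rw [mem_bot.1 e]; simp, fun _ e => by rw [mem_bot.1 e]; simp⟩
  refine ⟨N, h1, h2, h3, h4, ?_⟩
  by_contra! k
  have xN := norm_of_cz h4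
  have NZ : N ≤ zed P N h2 := fun n hn => ⟨h.le (h1 hn), mul_mem hn hn, fun q hq =>
    mul_mem ((conj_mem_norm (h2 hq)).2 hn) (inv_mem hn)⟩
  have ZR : zed P N h2 ≤ R := fun b ⟨hb, _, cb⟩ => (h.ix b hb).elim id fun e => by
    have c1 : ∀ r ∈ R, ⁅b, r⁆ ∈ N := fun r hr => by
      rw [← commutatorElement_inv]; exact inv_mem (cb r (h.le hr))
    refine absurd (h.tri.lemN (b := b) ?_ (h.le.trans h2) c1 fun r hr => ?_) (not_supp_le h.tri h1 h4)
    · simpa [mul_assoc] using mul_mem (inv_mem h.tri.ss) e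
    · convert (conj_mem_norm xN).2 (c1 _ ((conj_mem_norm (inv_mem h.tri.xn)).2 hr)) using 1
      simp only [commutatorElement_def]; group
  have k' : ∀ z ∈ zed P N h2, ⁅x, z⁆ ∈ N := fun z ⟨a, b, c⟩ => k z a b c
  have xZ : x ∈ normalizer (zed P N h2 : Set G) := mem_normalizer_of_conj_mem fun z hz => by
    simpa [commutatorElement_def] using mul_mem (NZ (k' z hz)) hz
  have ZN : zed P N h2 ≤ N := hm ⟨ZR, fun p hp => zed_norm h2 (le_normalizer hp) (h2 hp), zed_norm h2 hy h3,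
    (h.tri.od.mono ZR xZ).cz_of_chain NZ h4 k'⟩ NZ
  obtain ⟨z, a, b, c, d⟩ := exists_central_mod h.p h2 le_rfl le_normalizer fun e => h.tri.s_not (h1 (e h.mem))
  exact b (ZN ⟨a, c, d⟩)

section
variable {Q : Type*} [Group Q] [Finite Q] {L A B : Subgroup G} {f : L →* Q} (hf : ∀ l : L, f l = 1 ↔ (l : G) ∈ N)
  (hN : N ≤ L)
include hf hN

theorem im_sup (hA : A ≤ L) (hn : A ≤ normalizer (N : Set G)) : im f (A ⊔ N) = im f A := by
  refine le_antisymm ?_ (map_mono (comap_mono le_sup_left))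
  rintro _ ⟨l, hl, rfl⟩
  obtain ⟨a, ha, n, hn, e⟩ := (mem_sup_iff_of_le_normalizer hn).1 hl
  refine ⟨⟨a, hA ha⟩, ha, ?_⟩
  rw [show l = ⟨a, hA ha⟩ * ⟨n, hN hn⟩ from Subtype.ext e, map_mul, (hf ⟨n, hN hn⟩).2 hn, mul_one]

theorem im_inf (h1 : N ≤ A) (h2 : N ≤ B) : im f (A ⊓ B) = im f A ⊓ im f B := by
  refine le_antisymm (le_inf (map_mono (comap_mono inf_le_left)) (map_mono (comap_mono inf_le_right))) ?_
  rintro _ ⟨⟨l, hl, rfl⟩, h⟩
  exact ⟨l, ⟨hl, (mem_im hf hN h2 l).1 h⟩, rfl⟩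

theorem card_im' (hA : A ≤ L) : Nat.card A = Nat.card (A ⊓ N : Subgroup G) * Nat.card (im f A) := by
  rw [card_im (f := f.comp (inclusion hA)) (N := A ⊓ N) (fun l => (hf _).trans ⟨fun e => ⟨l.2, e⟩, fun e => e.2⟩)
    inf_le_left inf_le_left le_rfl]
  rw [show im (f.comp (inclusion hA)) A = im f A from Subgroup.ext fun w =>
    ⟨fun ⟨l, hl, e⟩ => ⟨inclusion hA l, hl, e⟩, fun ⟨l, hl, e⟩ => ⟨⟨l, hl⟩, hl, e⟩⟩]

theorem cz_im {z : L} (hP : P ≤ L) (h : ∀ q ∈ P, ⁅q, (z : G)⁆ ∈ N) : Cz (f z) (im f P) := by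
  rintro _ ⟨q, hq, rfl⟩
  exact (commutatorElement_eq_one_iff_mul_comm.1 (by rw [← map_commutatorElement]; exact (hf _).2 (h q hq))).symm

theorem move {x z : L} (h : ⁅(x : G), (z : G)⁆ ∉ N) : f x * f z ≠ f z * f x := fun e =>
  h ((hf ⁅x, z⁆).1 (by rw [map_commutatorElement]; exact commutatorElement_eq_one_iff_mul_comm.2 e))

end

theorem exists_cf (h : T2 S R x s) (hS : IsPGroup 2 S) (h4 : Rk 16 S) : Bas S R x s ∨ ∃ y t, Cf S R x s y t := by
  by_cases hP : S ≤ normalizer (R : Set G)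
  · exact .inl (h.toT1.bas fun q hq => h.two q ⟨hq, hP hq⟩)
  obtain ⟨y, yS, yP, yR, yy⟩ := exists_y h hS hP
  have l := h.loc hS h4
  have l₂ := loc_cj l yP
  obtain ⟨N, NR, PN, yN, xN, z, zP, z2, zc, zx⟩ := exists_N l inf_le_right yP
  obtain ⟨f, -, hf⟩ := exists_quo N
  have hN : N ≤ normalizer (N : Set G) := le_normalizer
  have RL := l.le.trans PN
  have RL₂ := l₂.le.trans PN
  have NR₂ : N ≤ cj y R := by rw [← cj_eq_iff.2 yN]; exact cj_mono NR
  have xN₂ : Cz (y * x * y⁻¹) N := fun n hn => by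
    simpa [mul_assoc] using conj_comm y (xN _ ((conj_mem_norm (inv_mem yN)).2 hn))
  let x' : normalizer (N : Set G) := ⟨x, norm_of_cz xN⟩
  let s' : normalizer (N : Set G) := ⟨s, PN l.mem⟩
  let y' : normalizer (N : Set G) := ⟨y, yN⟩
  let z' : normalizer (N : Set G) := ⟨z, PN zP⟩
  have TR : supp R x ≤ R := supp_le h.tri.xn
  have eT : supp (im f R) (f x') = im f (supp R x) := supp_im hf hN RL x'
  have NP := NR.trans l.le
  obtain ⟨r, hr, rn⟩ := exists_not_mem yR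
  have good : El 4 (supp (im f R) (f x')) → Bas S R x s := fun e => ⟨h, .inr (h.tri.od.four_or_q8 NR RL xN (by
    rw [card_im hf hN le_sup_right (sup_le (TR.trans RL) hN), im_sup hf hN (TR.trans RL) (TR.trans RL), ← eT, e.card,
      mul_comm]))⟩
  have zc₂ : ∀ q ∈ S ⊓ normalizer (R : Set G), ⁅q, y * z * y⁻¹⁆ ∈ N := fun q hq => by
    convert (conj_mem_norm yN).2 (zc _ ((conj_mem_norm (inv_mem yP)).2 hq)) using 1
    simp only [commutatorElement_def]; group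
  rcases up (Loc.im hf hN (x := x') (s := s') l NR PN (not_supp_le h.tri NR xN))
    (Loc.im hf hN (x := y' * x' * y'⁻¹) (s := y' * s' * y'⁻¹) l₂ NR₂ PN (not_supp_le l₂.tri NR₂ xN₂))
    (fun e => rn ((im_le_im hf hN NR₂ RL).1 e.le hr))
    ⟨f z', (mem_im hf hN NP z').2 zP, by rw [← map_mul]; exact (hf _).2 z2, cz_im hf hN PN zc, move hf hN zx⟩
    ⟨f (y' * z' * y'⁻¹), (mem_im hf hN NP _).2 ((conj_mem_norm yP).2 zP), by
      rw [← map_mul, ← conj_mul']; exact (hf _).2 ((conj_mem_norm yN).2 z2), cz_im hf hN PN zc₂,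
      move hf hN fun e => zx ((conj_mem_norm yN).1 (by
        convert e using 1; simp only [commutatorElement_def, coe_mul, coe_inv, x', y', z']; group))⟩
    with e | e | ⟨e16, eS, -, c3, -, fr⟩
  · exact .inl (good e.1)
  · exact .inl (good e.1)
  rw [← im_inf hf hN NR NR₂] at e16 eS fr
  rw [eT] at eS
  have N0 : N ≤ R ⊓ cj y R := le_inf NR NR₂
  have T0 : supp R x ≤ R ⊓ cj y R := (im_le_im hf hN N0 (TR.trans RL)).1 eS.le
  have T1 : R ⊓ cj y R ≤ supp R x ⊔ N := (im_le_im hf hN le_sup_right (inf_le_left.trans RL)).1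
    (by rw [im_sup hf hN (TR.trans RL) (TR.trans RL), eS])
  have sq : ∀ a ∈ supp R x, a * a ∈ N := fun a ha => (hf (⟨a, RL (TR ha)⟩ * ⟨a, RL (TR ha)⟩)).1 (by
    rw [map_mul]; exact e16.sq _ ((mem_im hf hN N0 _).2 (T0 ha)))
  have cT : Nat.card (supp R x) = 16 * Nat.card (supp R x ⊓ N : Subgroup G) := by
    rw [card_im' hf hN (TR.trans RL), eS, e16.card, mul_comm]
  have TN : ∀ a ∈ supp R x, ∀ n ∈ N, ⁅a, n⁆ ∈ (⊥ : Subgroup G) := supp_triv h.tri.xn RL
    (fun _ _ => norm_of_cz fun _ e => by rw [mem_bot.1 e]; simp) bot_le fun n hn =>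
      mem_bot.2 (commutatorElement_eq_one_iff_mul_comm.2 (xN n hn))
  have NT : N ≤ supp R x := fun n hn => by
    by_contra k
    obtain ⟨w, hw, w1, w2⟩ := exists_pow_not_mem h.tri.two (NR hn) k
    have wN : w ∈ N := zpowers_le.2 hn hw
    exact w1 (h4.five (TR.trans h.crit.le) inf_le_left (fun a ha => ⟨mul_mem ha ha, sq a ha⟩) cT
      (h.crit.le (NR wN)) ⟨w2, mul_mem wN wN⟩ fun a ha => by
        rw [← commutatorElement_inv, mem_bot.1 (TN a ha w wN), inv_one]; exact one_mem _)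
  have ND : N ≤ ⁅supp R x, supp R x⁆ := fun n hn => h.tri.od.fix_le_comm ⟨NT hn, mem_fix.2 ⟨NR hn, xN n hn⟩⟩
  have eN : phi (supp R x) = N := le_antisymm (phi_le_iff.2 sq)
    (ND.trans (commutator_le.2 fun _ ha _ hb => comm_mem_phi ha hb))
  have eq : supp R x = R ⊓ cj y R := le_antisymm T0 (T1.trans (sup_le le_rfl NT))
  obtain ⟨a, ha, t, ht, rfl⟩ := h.tri.od.decomp hr
  have tn : t ∉ cj y R := fun k => rn (mul_mem (T0 ha).2 k)
  have tR := (mem_fix.1 ht).1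
  let t' : normalizer (N : Set G) := ⟨t, RL tR⟩
  obtain ⟨_, ⟨v, hv, rfl⟩, fv⟩ := fr (f (y' * t' * y'⁻¹)) ((mem_im hf hN NR₂ _).2 (conj_mem_cj.2 tR))
    (fun k => tn (mem_cj_of (le_normalizer yy) ((mem_im hf hN NR _).1 k))) (f t') ((mem_im hf hN NR _).2 tR)
    fun k => tn ((mem_im hf hN NR₂ _).1 k)
  obtain ⟨m, hm, cm⟩ := h.tri.od.odd
  refine .inr ⟨y, t, h, yS, yP, yy, eq, by rw [cT, eN, inf_eq_right.2 NT], eN ▸ ND, ?_, eN ▸ xN, ht, tn, v, eq.ge hv,
    fun k => fv ?_⟩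
  · refine Od.cz_of_chain ⟨h.tri.two, pow_mem h.tri.xn 3, m, hm, fun r hr => ?_⟩ NR
      (fun n hn => (Commute.pow_left (xN n hn) 3).eq) fun r hr => (hf ⁅x' ^ 3, ⟨r, RL hr⟩⁆).1 ?_
    · rw [← pow_mul, mul_comm 3, pow_mul]; exact (Commute.pow_left (cm r hr) 3).eq
    · rw [map_commutatorElement, map_pow]
      exact commutatorElement_eq_one_iff_mul_comm.2 (c3 _ ((mem_im hf hN NR _).2 hr))
  · rw [← map_commutatorElement, ← map_commutatorElement]
    exact (hf _).2 (eN ▸ k)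

end Cfsg.Agent.GHK.E3
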