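import Mathlib
import Cfsg.Agent.GHK.Defs
import Cfsg.Agent.GHK.Crit
import Cfsg.Agent.GHK.TriB
import Cfsg.Agent.GHK.GamA
import Cfsg.Agent.GT.TransferAbelian
import Cfsg.Agent.GT.CoprimeProd

/-! Two elements of order three in the automiser of a critical subgroup with Sylow 2-subgroup of order two. See `stubs/Cfsg/Agent/GHK/PLAN.md`. -/

set_option autoImplicit false
set_option linter.unusedSectionVars false

namespace Cfsg.Agent.GHK

open Cfsg.Agent.Inv.Fz Cfsg.Agent.NE Subgroup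
open scoped commutatorElement

namespace Gam

universe u

variable {G : Type u} [Group G] [Finite G] {S R K L J : Subgroup G} {x s : G}

/-- The action of `J` on the section `K / L`. -/
structure Sec (K L J : Subgroup G) {X : Type*} [Group X] (π : K →* X) (ρ : J →* MulAut X) :
    Prop where
  nK : J ≤ normalizer (K : Set G)
  surj : Function.Surjective π
  ker : ∀ k : K, π k = 1 ↔ (k : G) ∈ L
  act : ∀ (g : J) (k k' : K), (k' : G) = g * k * (g : G)⁻¹ → ρ g (π k) = π k'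

theorem exists_sec (hL : L ≤ K) (hn : K ≤ normalizer (L : Set G)) (h1 : J ≤ normalizer (K : Set G))
    (h2 : J ≤ normalizer (L : Set G)) : ∃ (X : Type u) (_ : Group X) (_ : Finite X) (π : K →* X)
      (ρ : J →* MulAut X), Sec K L J π ρ := by
  haveI : (L.subgroupOf K).Normal := (normal_subgroupOf_iff_le_normalizer hL).2 hn
  let e : J →* MulAut K := K.normalizerMonoidHom.comp (inclusion h1)
  have he : ∀ (g : J) (k : K), (e g k : G) = g * k * (g : G)⁻¹ := fun _ _ => rfl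
  have hm : ∀ g : J, (L.subgroupOf K).map (e g : K →* K) = L.subgroupOf K := fun g => by
    ext k
    refine (mem_map_equiv (f := e g)).trans ?_
    rw [mem_subgroupOf, mem_subgroupOf, mem_normalizer_iff.1 (h2 g.2), ← he,
      MulEquiv.apply_symm_apply]
  refine ⟨K ⧸ L.subgroupOf K, inferInstance, inferInstance, QuotientGroup.mk' _,
    MonoidHom.mk' (fun g => QuotientGroup.congr _ _ (e g) (hm g)) fun g g' => ?_, h1,
    QuotientGroup.mk'_surjective _, fun k => QuotientGroup.eq_one_iff k, fun g k k' l => ?_⟩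
  · ext y
    obtain ⟨k, rfl⟩ := QuotientGroup.mk_surjective y
    change ((e (g * g') k : K) : K ⧸ L.subgroupOf K) = (e g (e g' k) : K)
    rw [map_mul, MulAut.mul_apply]
  · exact congrArg (QuotientGroup.mk' _) (Subtype.ext l.symm)

namespace Sec

variable {X : Type*} [Group X] {π : K →* X} {ρ : J →* MulAut X} (c : Sec K L J π ρ)
include c

theorem cm (g : J) (k : K) : (g : G) * k * (g : G)⁻¹ ∈ K := (mem_normalizer_iff.1 (c.nK g.2) k).1 k.2

theorem act' (g : J) (k : K) : ρ g (π k) = π ⟨_, c.cm g k⟩ := c.act g k _ rfl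

theorem triv (g : J) : ρ g = 1 ↔ ∀ k ∈ K, ⁅(g : G), k⁆ ∈ L := by
  have : ∀ k : K, ρ g (π k) = π k ↔ ⁅(g : G), (k : G)⁆ ∈ L := fun k => by
    rw [c.act', ← mul_inv_eq_one, ← map_inv, ← map_mul, c.ker]
    rfl
  refine ⟨fun e k hk => (this ⟨k, hk⟩).1 (by rw [e]; rfl), fun h => MulEquiv.ext fun y => ?_⟩
  obtain ⟨k, rfl⟩ := c.surj y
  exact (this k).2 (h k k.2)

theorem sq (hs : ∀ k ∈ K, k * k ∈ L) (y : X) : y * y = 1 := by
  obtain ⟨k, rfl⟩ := c.surj y
  rw [← map_mul, c.ker]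
  exact hs k k.2

/-- `K C(R)` acts trivially -/
theorem triv_of (hK : K ≤ R) (hc : ∀ r ∈ R, ∀ k ∈ K, ⁅r, k⁆ ∈ L)
    (hJ : R ⊔ centralizer (R : Set G) ≤ J) {g : J} (hg : (g : G) ∈ R ⊔ centralizer (R : Set G)) :
    ρ g = 1 := by
  have : R ⊔ centralizer (R : Set G) ≤ ρ.ker.map J.subtype := sup_le
    (fun r hr => ⟨⟨r, hJ (mem_sup_left hr)⟩, (c.triv _).2 (hc r hr), rfl⟩)
    fun r hr => ⟨⟨r, hJ (mem_sup_right hr)⟩, (c.triv _).2 fun k hk => by
      rw [commutatorElement_eq_one_iff_mul_comm.2 (mem_centralizer_iff.1 hr k (hK hk)).symm]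
      exact one_mem _, rfl⟩
  exact (mem_map_iff_mem J.subtype_injective).1 (this hg)

end Sec

theorem norm_of_comm {A B : Subgroup G} (hL : L ≤ B) (h : ∀ a ∈ A, ∀ b ∈ B, ⁅a, b⁆ ∈ L) :
    A ≤ normalizer (B : Set G) := fun a ha => mem_normalizer_of_conj_mem fun b hb => by
  simpa [commutatorElement_def] using mul_mem (hL (h a ha b hb)) hb

theorem cent_le (hK : K ≤ R) : centralizer (R : Set G) ≤ normalizer (K : Set G) :=
  (centralizer_le hK).trans (centralizer_le_normalizer _)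

theorem cz_mem {g : G} (h : Cz g R) : g ∈ R ⊔ centralizer (R : Set G) :=
  mem_sup_right (mem_centralizer_iff.2 fun r hr => (h r hr).symm)

/-- Products of two elements of order three have order prime to `14` in the automiser. -/
theorem pow_mem_of (h : T2 S R x s) (hS : IsSylIn 2 S ⊤) (h4 : Rk 16 R) {u v : G}
    (hu : u ∈ normalizer (R : Set G)) (hv : v ∈ normalizer (R : Set G)) (u3 : Cz (u ^ 3) R)
    (v3 : Cz (v ^ 3) R) : ∃ n, Nat.Coprime 28 n ∧ (u * v) ^ n ∈ R ⊔ centralizer (R : Set G) := by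
  haveI : Fact (Nat.Prime 7) := ⟨by norm_num⟩
  have rn : R ≤ normalizer (R : Set G) := le_normalizer
  obtain ⟨X, _, _, π, ρ, c⟩ := exists_sec (K := R) (L := phi R) (J := normalizer (R : Set G)) phi_le
    (fun r hr => norm_phi (rn hr)) le_rfl fun g hg => norm_phi hg
  have h2 := c.sq fun k hk => mem_phi hk
  have kI : ∀ g, ρ g = 1 ↔ (g : G) ∈ R ⊔ centralizer (R : Set G) := fun g =>
    ⟨fun e => h.crit.mem_of_phi hS.isPGroup g.2 ((c.triv g).1 e),
      c.triv_of le_rfl (fun r hr k hk => comm_mem_phi hr hk) (sup_le rn (cent_le le_rfl))⟩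
  have h16 : Nat.card X ≤ 16 := by
    have e := card_im c.ker phi_le (phi_le (R := R)) le_rfl
    rw [im, subgroupOf_self, ← MonoidHom.range_eq_map, MonoidHom.range_eq_top.2 c.surj,
      card_top] at e
    have := h4 _ _ phi_le le_rfl fun k hk => mem_phi hk
    rw [e, mul_comm] at this
    exact Nat.le_of_mul_le_mul_right this Nat.card_pos
  let f := ρ.rangeRestrict
  have kf : ∀ g, f g = 1 ↔ (g : G) ∈ R ⊔ centralizer (R : Set G) := fun g =>
    Subtype.ext_iff.trans (kI g)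
  have fs : Function.Surjective f := ρ.rangeRestrict_surjective
  let t := f ⟨s, h.tri.sn⟩
  have tt : t * t = 1 := by
    rw [← map_mul, kf]
    exact mem_sup_left h.tri.ss
  have t1 : t ≠ 1 := fun e => h.tri.s_not (h.crit.two_le hS.isPGroup
    (hS.isPGroup.to_le (zpowers_le.2 h.mem)) (zpowers_le.2 ((kf _).1 e)) (mem_zpowers s))
  have o2 : orderOf t = 2 := orderOf_eq_prime (by rw [pow_two, tt]) t1
  have npc : HasNormalPComplement 2 ρ.range := by
    refine GT.Tr.hasNormalPComplement_two_of_isCyclic (h.crit.syl.toSylow.mapSurjective fs) ?_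
    refine isCyclic_of_le (H' := zpowers t) ?_
    rintro _ ⟨y, hy, rfl⟩
    rcases h.two y hy with l | l
    · rw [(kf y).2 (mem_sup_left l)]
      exact one_mem _
    · have := (kf (⟨s, h.tri.sn⟩ * y)).2 (mem_sup_left l)
      rw [map_mul] at this
      rw [eq_inv_of_mul_eq_one_right this]
      exact inv_mem (mem_zpowers t)
  have o3 : ∀ g : normalizer (R : Set G), Cz ((g : G) ^ 3) R → f g ∈ pResidual 2 ρ.range := fun g l =>
    npc.mem_pResidual_iff.2 (Nat.Coprime.coprime_dvd_left (orderOf_dvd_of_pow_eq_one (n := 3)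
      (by rw [← map_pow, kf]; exact cz_mem l)) (by norm_num))
  have c2 := npc.not_dvd_card_pResidual
  have c7 : ¬ 7 ∣ Nat.card (pResidual 2 ρ.range) := fun d => by
    obtain ⟨Q, hQ, pQ, nd, nQ⟩ := GT.CopAct.exists_invariant_sylowIn (A := zpowers t)
      (K := pResidual 2 ρ.range) le_normalizer_of_normal
      (by rw [Nat.card_zpowers, o2]; exact (Nat.Prime.coprime_iff_not_dvd Nat.prime_two).2 c2)
      (.inl (isSolvable_of_comm fun a b => mul_comm' a b)) 7
    obtain ⟨g, -, g7, e⟩ := exists_seven pQ (by rintro rfl; simp at nd; exact nd d) tt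
      (nQ (mem_zpowers t))
    letI : CommGroup X := { (inferInstance : Group X) with
      mul_comm := fun a b => by
        rw [← inv_eq_of_mul_eq_one_right (h2 (a * b)), mul_inv_rev,
          inv_eq_of_mul_eq_one_right (h2 a), inv_eq_of_mul_eq_one_right (h2 b)] }
    exact t1 (Subtype.ext (seven h2 h16 (σ := g) (t := t) ((orderOf_coe g).trans g7)
      (congrArg Subtype.val tt) (e.imp (congrArg Subtype.val) (congrArg Subtype.val))))
  refine ⟨Nat.card (pResidual 2 ρ.range), Nat.Coprime.mul_left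
    (Nat.Coprime.pow_left 2 ((Nat.Prime.coprime_iff_not_dvd Nat.prime_two).2 c2))
    ((Nat.Prime.coprime_iff_not_dvd Nat.prime_seven).2 c7),
    (kf ((⟨u, hu⟩ * ⟨v, hv⟩) ^ _)).1 ?_⟩
  rw [map_pow, map_mul]
  exact congrArg Subtype.val (pow_card_eq_one' (x := (⟨_, mul_mem (o3 ⟨u, hu⟩ u3) (o3 ⟨v, hv⟩ v3)⟩ :
    pResidual 2 ρ.range)))

theorem cz_inv {v : G} (h : Cz (v ^ 3) R) : Cz (v⁻¹ ^ 3) R := fun r hr => by
  rw [inv_pow]
  exact (show Commute (v ^ 3) r from h r hr).inv_left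

theorem mem_plane {X : Type*} [CommGroup X] [Finite X] {π : K →* X} {ρ : J →* MulAut X}
    (c : Sec K L J π ρ) (hL : L ≤ K) (hc : ∀ r ∈ K, ∀ k ∈ K, ⁅r, k⁆ ∈ L) (g : J) (a : X) :
    a ∈ im π (supp K g ⊔ L) ↔ ∃ y, a = y⁻¹ * ρ g y := by
  constructor
  · let δ : X →* X := (MonoidHom.id X)⁻¹ * (ρ g).toMonoidHom
    have lL : L ≤ (δ.range.comap π).map K.subtype := fun l hl =>
      ⟨⟨l, hL hl⟩, by rw [SetLike.mem_coe, mem_comap, (c.ker ⟨l, hL hl⟩).2 hl]; exact one_mem _, rfl⟩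
    have : supp K g ≤ (δ.range.comap π).map K.subtype := by
      refine supp_le_of (c.nK g.2) (norm_of_comm lL fun a ha b hb => hc a ha b (map_subtype_le _ hb))
        (map_subtype_le _) fun r hr => ⟨⟨_, c.cm g ⟨r, hr⟩⟩ * (⟨r, hr⟩ : K)⁻¹, ⟨π ⟨r, hr⟩, ?_⟩, rfl⟩
      rw [map_mul, map_inv, ← c.act', mul_comm]
      rfl
    rintro ⟨k, hk, rfl⟩
    obtain ⟨y, e⟩ := (mem_map_iff_mem K.subtype_injective).1 (sup_le this lL hk)
    exact ⟨y, e.symm⟩
  · rintro ⟨y, rfl⟩
    obtain ⟨k, rfl⟩ := c.surj y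
    rw [c.act', ← map_inv, ← map_mul]
    exact mem_map_of_mem _ (mem_sup_left (comm_mem_supp k.2).2.2)

theorem supp_le_supp (hR : IsPGroup 2 R) {u v : G} (hu : u ∈ normalizer (R : Set G))
    (hv : v ∈ normalizer (R : Set G)) (v3 : Cz (v ^ 3) R)
    (h : u * v⁻¹ ∈ R ⊔ centralizer (R : Set G)) : supp R v ≤ supp R u := by
  have iT : R ⊔ centralizer (R : Set G) ≤ normalizer (supp R u : Set G) :=
    sup_le le_norm_supp (cent_le (supp_le hu))
  have vT : v ∈ normalizer (supp R u : Set G) := by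
    simpa using mul_mem (inv_mem (iT h)) (mem_norm_supp (R := R) (x := u))
  obtain ⟨X, _, _, π, ρ, c⟩ := exists_sec (K := R) (L := supp R u)
    (J := normalizer (R : Set G) ⊓ normalizer (supp R u : Set G)) (supp_le hu) le_norm_supp
    inf_le_left inf_le_right
  have cz : ∀ g : ↥(normalizer (R : Set G) ⊓ normalizer (supp R u : Set G)), Cz (g : G) R → ρ g = 1 :=
    fun g l => (c.triv g).2 fun k hk => by
      rw [commutatorElement_eq_one_iff_mul_comm.2 (l k hk)]
      exact one_mem _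
  obtain ⟨r, hr, z, hz, e⟩ := (mem_sup_iff_of_le_normalizer
    (le_normalizer.trans (normalizer_le_normalizer_centralizer R))).1 h
  have rJ : r ∈ normalizer (R : Set G) ⊓ normalizer (supp R u : Set G) :=
    ⟨le_normalizer hr, le_norm_supp hr⟩
  have zJ : z ∈ normalizer (R : Set G) ⊓ normalizer (supp R u : Set G) :=
    ⟨cent_le le_rfl hz, cent_le (supp_le hu) hz⟩
  have e' : ρ (⟨u, hu, mem_norm_supp⟩ * (⟨v, hv, vT⟩ :
      ↥(normalizer (R : Set G) ⊓ normalizer (supp R u : Set G)))⁻¹) = ρ (⟨r, rJ⟩ * ⟨z, zJ⟩) :=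
    congrArg ρ (Subtype.ext e)
  rw [map_mul, map_mul, (c.triv ⟨u, hu, mem_norm_supp⟩).2 fun k hk => (comm_mem_supp hk).1,
    cz ⟨z, zJ⟩ fun k hk => (mem_centralizer_iff.1 hz k hk).symm, one_mul, mul_one, map_inv] at e'
  obtain ⟨k, hk⟩ := hR ⟨r, hr⟩
  have hk' : (⟨r, rJ⟩ : ↥(normalizer (R : Set G) ⊓ normalizer (supp R u : Set G))) ^ 2 ^ k = 1 :=
    Subtype.ext (show r ^ 2 ^ k = 1 from congrArg Subtype.val hk)
  have : ρ ⟨v, hv, vT⟩ = 1 := mem_bot.1 (mem_of_pow (a := 3) (n := 2 ^ k)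
    (mem_bot.2 (by rw [← map_pow]; exact cz _ v3))
    (by rw [← inv_eq_one, ← inv_pow, e', ← map_pow, hk', map_one])
    (Nat.Coprime.pow_right _ (by norm_num)))
  exact supp_le_of hv le_norm_supp (supp_le hu) ((c.triv _).1 this)

theorem good_card (h : Tri R x s) (h4 : Rk 16 R) (g : El 4 (supp R x) ∨ Q8 (supp R x)) :
    Nat.card (supp R x ⊔ phi R : Subgroup G) = 4 * Nat.card (phi R) ∧ Cz (x ^ 3) R := by
  refine (h.sec h4 phi_le le_rfl h.xn (norm_phi h.xn) (fun k hk => mem_phi hk) (by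
    by_contra c
    push Not at c
    exact h.ne (h.od.cz_of_phi c))).resolve_right fun ⟨a, b, _⟩ => ?_
  have c1 := card_le_of_le (le_of_sup_phi h.two (supp_le h.xn) b)
  have c2 : 0 < Nat.card (phi R) := Nat.card_pos
  rcases g with g | g <;> have := g.card <;> omega

end Gam

variable {G : Type*} [Group G] [Finite G] {S P R K L N T V A B U : Subgroup G} {x s g b : G} {n : ℕ}

/-- On an invariant elementary section `K / L`, elements of order three whose commutator spaces are four-groups that meet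
generate the same group. -/
theorem T2.gam (h : T2 S R x s) (hS : IsSylIn 2 S ⊤) (h4 : Rk 16 R) {u v : G} (hu : u ∈ normalizer (R : Set G))
    (hv : v ∈ normalizer (R : Set G)) (u3 : Cz (u ^ 3) R) (v3 : Cz (v ^ 3) R) (hL : L ≤ K) (hK : K ≤ R)
    (uK : u ∈ normalizer (K : Set G)) (uL : u ∈ normalizer (L : Set G)) (vK : v ∈ normalizer (K : Set G))
    (vL : v ∈ normalizer (L : Set G)) (hs : ∀ k ∈ K, k * k ∈ L) (hc : ∀ r ∈ R, ∀ k ∈ K, ⁅r, k⁆ ∈ L)
    (cu : Nat.card (supp K u ⊔ L : Subgroup G) = 4 * Nat.card L)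
    (cv : Nat.card (supp K v ⊔ L : Subgroup G) = 4 * Nat.card L)
    (hm : ¬ (supp K u ⊔ L) ⊓ (supp K v ⊔ L) ≤ L) :
    (∀ k ∈ K, ⁅u * v, k⁆ ∈ L) ∨ ∀ k ∈ K, ⁅u * v⁻¹, k⁆ ∈ L := by
  have rL : R ≤ normalizer (L : Set G) := Gam.norm_of_comm le_rfl fun a ha y hy => hc a ha y (hL hy)
  obtain ⟨X, _, _, π, ρ, c⟩ := Gam.exists_sec (J := normalizer (K : Set G) ⊓ normalizer (L : Set G))
    hL (hK.trans rL) inf_le_left inf_le_right
  have h2 := c.sq hs
  letI : CommGroup X := { (inferInstance : Group X) with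
    mul_comm := fun a b => by
      rw [← inv_eq_of_mul_eq_one_right (h2 (a * b)), mul_inv_rev,
        inv_eq_of_mul_eq_one_right (h2 a), inv_eq_of_mul_eq_one_right (h2 b)] }
  have tr := fun {g} => c.triv_of (g := g) hK hc (sup_le (le_inf (Gam.norm_of_comm hL hc) rL)
    (le_inf (Gam.cent_le hK) (Gam.cent_le (hL.trans hK))))
  obtain ⟨n, hn, en⟩ := Gam.pow_mem_of h hS h4 hu hv u3 v3
  obtain ⟨m, hm', em⟩ := Gam.pow_mem_of h hS h4 hu (inv_mem hv) u3 (Gam.cz_inv v3)
  obtain ⟨e, ⟨e1, e2⟩, e3⟩ := SetLike.not_le_iff_exists.1 hm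
  have cd : ∀ {w : G}, w ∈ normalizer (K : Set G) →
      Nat.card (supp K w ⊔ L : Subgroup G) = 4 * Nat.card L → Nat.card (im π (supp K w ⊔ L)) = 4 :=
    fun hw l => by
      rw [card_im c.ker hL le_sup_right (sup_le (supp_le hw) hL), mul_comm] at l
      exact Nat.eq_of_mul_eq_mul_right Nat.card_pos l
  have eK : e ∈ K := sup_le (supp_le uK) hL e1
  have hc' := fun r hr => hc r (hK hr)
  have := Gam.planes h2 (U := ρ ⟨u, uK, uL⟩) (W := ρ ⟨v, vK, vL⟩)
    (by rw [← map_pow]; exact tr (Gam.cz_mem u3)) (by rw [← map_pow]; exact tr (Gam.cz_mem v3))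
    (Gam.mem_plane c hL hc' _) (Gam.mem_plane c hL hc' _) (cd uK cu) (cd vK cv) (e := π ⟨e, eK⟩)
    (mem_map_of_mem _ e1) (mem_map_of_mem _ e2) (fun l => e3 ((c.ker _).1 l)) hn hm'
    (by rw [← map_mul, ← map_pow]; exact tr en) (by rw [← map_inv, ← map_mul, ← map_pow]; exact tr em)
  rw [← map_inv, ← map_mul, ← map_mul, c.triv, c.triv] at this
  exact this

/-- The case `K / L = R / Φ(R)`. -/
theorem T2.gam_supp (h : T2 S R x s) (hS : IsSylIn 2 S ⊤) (h4 : Rk 16 R) {u v : G} (hu : u ∈ normalizer (R : Set G))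
    (hv : v ∈ normalizer (R : Set G)) (u3 : Cz (u ^ 3) R) (v3 : Cz (v ^ 3) R)
    (cu : Nat.card (supp R u ⊔ phi R : Subgroup G) = 4 * Nat.card (phi R))
    (cv : Nat.card (supp R v ⊔ phi R : Subgroup G) = 4 * Nat.card (phi R))
    (hm : ¬ (supp R u ⊔ phi R) ⊓ (supp R v ⊔ phi R) ≤ phi R) : supp R u = supp R v := by
  have key : ∀ {w : G}, w ∈ normalizer (R : Set G) → Cz (w ^ 3) R →
      (∀ k ∈ R, ⁅u * w⁻¹, k⁆ ∈ phi R) → supp R u = supp R w := fun {w} hw w3 l => by
    have m := h.crit.mem_of_phi hS.isPGroup (mul_mem hu (inv_mem hw)) l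
    exact le_antisymm (Gam.supp_le_supp h.tri.two hw hu u3 (by simpa using inv_mem m))
      (Gam.supp_le_supp h.tri.two hu hw w3 m)
  rcases h.gam hS h4 hu hv u3 v3 phi_le le_rfl hu (norm_phi hu) hv (norm_phi hv)
    (fun k hk => mem_phi hk) (fun r hr k hk => comm_mem_phi hr hk) cu cv hm with l | l
  · rw [key (inv_mem hv) (Gam.cz_inv v3) (by simpa using l), supp, supp, zpowers_inv]
  · exact key hv v3 l

/-- Two good supports of the same `R` that meet outside `Φ(R)`. -/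
theorem T2.gam_good (h : T2 S R x s) (hS : IsSylIn 2 S ⊤) (h4 : Rk 16 R) {x' s' : G} (h' : T2 S R x' s')
    (g1 : El 4 (supp R x) ∨ Q8 (supp R x)) (g2 : El 4 (supp R x') ∨ Q8 (supp R x')) (h1 : g ∈ supp R x)
    (h2 : g ∈ supp R x') (h3 : g ∉ phi R) : supp R x = supp R x' := by
  obtain ⟨a, a'⟩ := Gam.good_card h.tri h4 g1
  obtain ⟨b, b'⟩ := Gam.good_card h'.tri h4 g2
  exact h.gam_supp hS h4 h.tri.xn h'.tri.xn a' b' a b fun l =>
    h3 (l ⟨mem_sup_left h1, mem_sup_left h2⟩)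

end Cfsg.Agent.GHK
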