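import Mathlib
import Cfsg.Agent.GHK.Defs
import Cfsg.Agent.GHK.Basic
import Cfsg.Agent.B15.U4c
import Cfsg.Agent.L4.M22C

/-! Letters for a Sylow 2-subgroup of M22. -/

set_option autoImplicit false
set_option linter.unusedSectionVars false

namespace Cfsg.Agent.GHK

open Cfsg.Agent.Inv.Fz Cfsg.Agent.NE Subgroup
open scoped commutatorElement

variable {G : Type*} [Group G] [Finite G] {S A B U K H : Subgroup G} {a a' b b' c p q y w ψ : G}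

namespace HamP

theorem four (hK : K ≤ H) (hc : Nat.card H = 4 * Nat.card K) (h2 : ∀ y ∈ H, y * y = 1) (hp : p ∈ H) (hq : q ∈ H)
    (p1 : p ∉ K) (q1 : q ∉ K) (pq : p * q ∉ K) (hy : y ∈ H) :
    y ∈ K ∨ p * y ∈ K ∨ q * y ∈ K ∨ p * (q * y) ∈ K := by
  obtain ⟨e1, e2, e3⟩ := ext_elem (fun a ha => h2 a (hK ha)) (h2 p hp) fun a ha => comm_of_sq h2 hp (hK ha)
  have l1 : ext K p ≤ H := ext_le.2 ⟨hK, hp⟩
  obtain ⟨f1, -, f3⟩ := ext_elem e2 (h2 q hq) fun a ha => comm_of_sq h2 hq (l1 ha)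
  have : ext (ext K p) q = H := eq_of_le_of_card_ge (ext_le.2 ⟨l1, hq⟩) (by
    rw [f3 fun h => ((e1 q).1 h).elim q1 pq, e3 p1, hc]; omega)
  rw [← this, f1, e1, e1] at hy
  tauto

theorem four_le {R : Subgroup G} (hK : K ≤ H) (hc : Nat.card H = 4 * Nat.card K) (h2 : ∀ y ∈ H, y * y = 1)
    (hp : p ∈ H) (hq : q ∈ H) (p1 : p ∉ K) (q1 : q ∉ K) (pq : p * q ∉ K) (r0 : K ≤ R) (r1 : p ∈ R) (r2 : q ∈ R) :
    H ≤ R := fun _ hy => by
  rcases four hK hc h2 hp hq p1 q1 pq hy with h | h | h | h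
  exacts [r0 h, (mul_mem_cancel_left r1).1 (r0 h), (mul_mem_cancel_left r2).1 (r0 h),
    (mul_mem_cancel_left r2).1 ((mul_mem_cancel_left r1).1 (r0 h))]

theorem exists_out (h : Nat.card K < Nat.card H) : ∃ p ∈ H, p ∉ K := by
  by_contra n
  push Not at n
  exact absurd (card_le_of_le n) h.not_ge

section

variable (h : L34 S A B U)
include h

theorem sym : L34 S B A U := ⟨h.leB, h.leA, h.elB, h.elA, h.elU, h.UB, h.UA,
  fun b hb a ha => by rw [← commutatorElement_inv]; exact inv_mem (h.comm a ha b hb),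
  fun b hb a ha e => (h.nd a ha b hb e.symm).symm⟩

theorem c4 : Nat.card A = 4 * Nat.card U := by rw [h.elA.card, h.elU.card]

theorem cA (ha : a ∈ A) (ha' : a' ∈ A) : a * a' = a' * a := comm_of_sq h.elA.sq ha ha'

theorem outA : ∃ a ∈ A, a ∉ U := exists_out (by rw [h.elA.card, h.elU.card]; norm_num)

theorem inf (ha : a ∈ A) (hb : a ∈ B) : a ∈ U := by
  obtain ⟨b, h1, h2⟩ := outA (sym h)
  exact (h.nd a ha b h1 (cA (sym h) hb h1)).resolve_right h2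

theorem cl (ha : a ∈ A) (ha' : a' ∈ A) (hb : b ∈ B) : ⁅a * a', b⁆ = ⁅a, b⁆ * ⁅a', b⁆ := by
  have h1 := h.comm a ha b hb
  have h2 := h.comm a' ha' b hb
  rw [comm_of_sq h.elU.sq h1 h2, ← conj_eq_of_comm (cA h ha (h.UA h2))]
  simp only [commutatorElement_def]
  group

theorem cr (ha : a ∈ A) (hb : b ∈ B) (hb' : b' ∈ B) : ⁅a, b * b'⁆ = ⁅a, b⁆ * ⁅a, b'⁆ := by
  rw [← conj_eq_of_comm (cA (sym h) hb (h.UB (h.comm a ha b' hb')))]
  simp only [commutatorElement_def]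
  group

theorem cU (ha : a ∈ A) (hb : b ∈ B) (ha' : a' ∈ A) (hb' : b' ∈ B) (h1 : a * a' ∈ U) (h2 : b * b' ∈ U) :
    ⁅a', b'⁆ = ⁅a, b⁆ := by
  have e1 : ⁅a * a', b'⁆ = 1 := commutatorElement_eq_one_iff_mul_comm.2 (cA (sym h) (h.UB h1) hb')
  have e2 : ⁅a, b * b'⁆ = 1 := commutatorElement_eq_one_iff_mul_comm.2 (cA h ha (h.UA h2))
  rw [cl h ha ha' hb'] at e1
  rw [cr h ha hb hb'] at e2
  rw [eq_inv_of_mul_eq_one_right e1, eq_inv_of_mul_eq_one_left e2]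

theorem nd' (ha : a ∈ A) (hb : b ∈ B) (a1 : a ∉ U) (e : ⁅a, b⁆ = 1) : b ∈ U :=
  (h.nd a ha b hb (commutatorElement_eq_one_iff_mul_comm.1 e)).resolve_left a1

theorem fourU (hp : p ∈ U) (hq : q ∈ U) (p1 : p ≠ 1) (q1 : q ≠ 1) (pq : p * q ≠ 1) (hy : y ∈ U) :
    y = 1 ∨ y = p ∨ y = q ∨ y = p * q := by
  have := four (K := ⊥) bot_le (by simp [h.elU.card]) h.elU.sq hp hq p1 q1 pq hy
  simp only [mem_bot, ← mul_assoc] at this
  refine this.imp_right (.imp ?_ (.imp ?_ ?_)) <;> intro e <;> rw [eq_inv_of_mul_eq_one_right e]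
  exacts [inv_of_sq (h.elU.sq _ hp), inv_of_sq (h.elU.sq _ hq), inv_of_sq (h.elU.sq _ (mul_mem hp hq))]

theorem surj (ha : a ∈ A) (a1 : a ∉ U) (hw : w ∈ U) : ∃ b ∈ B, ⁅a, b⁆ = w := by
  obtain ⟨b, hb, b1⟩ := outA (sym h)
  obtain ⟨e1, -, e3⟩ := ext_elem h.elU.sq (h.elB.sq b hb) fun a ha => cA (sym h) hb (h.UB ha)
  obtain ⟨b', hb', b2⟩ := exists_out (K := ext U b) (H := B) (by rw [e3 b1, h.elU.card, h.elB.card]; norm_num)
  rw [e1, not_or] at b2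
  rcases fourU h (h.comm a ha b hb) (h.comm a ha b' hb') (fun e => b1 (nd' h ha hb a1 e))
    (fun e => b2.1 (nd' h ha hb' a1 e))
    (fun e => b2.2 (nd' h ha (mul_mem hb hb') a1 (by rw [cr h ha hb hb', e]))) hw with e | e | e | e
  exacts [⟨1, one_mem _, by simp [e]⟩, ⟨b, hb, e.symm⟩, ⟨b', hb', e.symm⟩,
    ⟨_, mul_mem hb hb', by rw [cr h ha hb hb', e]⟩]

theorem nAB : A ≤ normalizer (B : Set G) := fun a ha => mem_normalizer_of_conj_mem fun b hb => by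
  have := mul_mem (h.UB (h.comm a ha b hb)) hb
  rwa [commutatorElement_def, inv_mul_cancel_right] at this

theorem memR (hy : y ∈ A ⊔ B) : ∃ a ∈ A, ∃ b ∈ B, y = a * b := (mem_sup_iff_of_le_normalizer (nAB h)).1 hy

theorem nR : A ⊔ B ≤ normalizer (A : Set G) := sup_le le_normalizer (nAB (sym h))

theorem cR (hy : y ∈ A ⊔ B) : Cz y U := fun w hw => by
  obtain ⟨a, ha, b, hb, rfl⟩ := memR h hy
  rw [mul_assoc, cA (sym h) hb (h.UB hw), ← mul_assoc, cA h ha (h.UA hw), mul_assoc]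

theorem mR (hy : y ∈ A ⊔ B) (ha : a ∈ A) : a * (y * a * y⁻¹) ∈ U := by
  obtain ⟨a', ha', b, hb, rfl⟩ := memR h hy
  have h1 : b * a * b⁻¹ ∈ A := (conj_mem_norm (nAB (sym h) hb)).2 ha
  have := h.comm a ha b hb
  rw [← conj_conj, conj_eq_of_comm (cA h ha' h1)]
  rwa [commutatorElement_def, inv_of_sq (h.elA.sq a ha), mul_assoc, mul_assoc, ← mul_assoc b] at this

end

/-- The element outside `A B`. -/
structure Ph (S A B U : Subgroup G) (ψ : G) : Prop where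
  l : L34 S A B U
  nA : ψ ∈ normalizer (A : Set G)
  nB : ψ ∈ normalizer (B : Set G)
  nc : ¬ Cz ψ U
  sq : ψ * ψ ∈ A ⊔ B

namespace Ph

variable (h : Ph S A B U ψ)
include h

theorem symm : Ph S B A U ψ := ⟨sym h.l, h.nB, h.nA, h.nc, sup_comm A B ▸ h.sq⟩

theorem mA (ha : a ∈ A) : ψ * a * ψ⁻¹ ∈ A := (conj_mem_norm h.nA).2 ha

theorem mU : ψ * a * ψ⁻¹ ∈ U ↔ a ∈ U :=
  ⟨fun e => inf h.l ((conj_mem_norm h.nA).1 (h.l.UA e)) ((conj_mem_norm h.nB).1 (h.l.UB e)),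
    fun e => inf h.l (h.mA (h.l.UA e)) (h.symm.mA (h.l.UB e))⟩

theorem mul (hy : y ∈ A ⊔ B) : Ph S A B U (ψ * y) := by
  refine ⟨h.l, mul_mem h.nA (nR h.l hy), mul_mem h.nB (nR (sym h.l) (sup_comm A B ▸ hy)), fun e => h.nc fun w hw => ?_, ?_⟩
  · have := e w hw
    rw [mul_assoc, cR h.l hy w hw, ← mul_assoc, ← mul_assoc] at this
    exact mul_right_cancel this
  · obtain ⟨a, ha, b, hb, rfl⟩ := memR h.l hy
    have : ψ * (a * b) * (ψ * (a * b)) = ψ * a * ψ⁻¹ * (ψ * b * ψ⁻¹) * (ψ * ψ) * (a * b) := by group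
    rw [this]
    exact mul_mem (mul_mem (mul_mem (mem_sup_left (h.mA ha)) (mem_sup_right (h.symm.mA hb))) h.sq) hy

theorem cc (hw : w ∈ U) : ψ * (ψ * w * ψ⁻¹) * ψ⁻¹ = w := by
  rw [conj_conj, conj_eq_of_comm (cR h.l h.sq w hw)]

theorem exists_u : ∃ u ∈ U, u * (ψ * u * ψ⁻¹) ≠ 1 ∧ ∀ w ∈ U, w = 1 ∨ w = u * (ψ * u * ψ⁻¹) ∨
    w * (ψ * w * ψ⁻¹) = u * (ψ * u * ψ⁻¹) := by
  obtain ⟨u, hu, e⟩ : ∃ u ∈ U, ψ * u ≠ u * ψ := by simpa [Cz] using h.nc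
  have hu' := h.mU.2 hu
  have h1 : u * (ψ * u * ψ⁻¹) ≠ 1 := fun e' => e (comm_of_conj_eq (by
    rw [eq_inv_of_mul_eq_one_right e', inv_of_sq (h.l.elU.sq u hu)]))
  refine ⟨u, hu, h1, fun w hw => ?_⟩
  rcases fourU h.l hu hu' (by rintro rfl; simp at h1) (by rintro e; simp [conj_eq_one_iff.1 e] at h1) h1 hw with
    rfl | rfl | rfl | rfl
  exacts [.inl rfl, .inr (.inr rfl), .inr (.inr (by rw [h.cc hu, comm_of_sq h.l.elU.sq hu hu'])), .inr (.inl rfl)]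

theorem fz (hw : w ∈ U) : ψ * (w * (ψ * w * ψ⁻¹)) * ψ⁻¹ = w * (ψ * w * ψ⁻¹) := by
  rw [conj_mul', h.cc hw, comm_of_sq h.l.elU.sq hw (h.mU.2 hw)]

theorem exists_a : ∃ a ∈ A, a * (ψ * a * ψ⁻¹) ∉ U := by
  by_contra n
  push Not at n
  obtain ⟨u, hu, u1, -⟩ := h.exists_u
  obtain ⟨a, ha, a1⟩ := outA h.l
  obtain ⟨b, hb, e⟩ := surj h.l ha a1 (mul_mem hu (h.mU.2 hu))
  have hb' := h.symm.mA hb
  have e1 : ⁅a, ψ * b * ψ⁻¹⁆ = ⁅a, b⁆ := by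
    rw [← cU h.l ha hb' (h.mA ha) hb' (n a ha) (h.l.elB.sq _ hb' ▸ one_mem U), ← conjugate_commutatorElement, e,
      h.fz hu]
  have e2 : b * (ψ * b * ψ⁻¹) ∈ U := nd' h.l ha (mul_mem hb hb') a1 (by
    rw [cr h.l ha hb hb', e1, h.l.elU.sq _ (h.l.comm a ha b hb)])
  have b1 : b ∉ U := fun k => u1 (e ▸ commutatorElement_eq_one_iff_mul_comm.2 (cA h.l ha (h.l.UA k)))
  obtain ⟨a', ha', e3⟩ := surj (sym h.l) hb b1 hu
  have := cU (sym h.l) hb ha' hb' (h.mA ha') e2 (n a' ha')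
  rw [← conjugate_commutatorElement, e3] at this
  exact u1 (by rw [this, h.l.elU.sq u hu])

theorem out (a1 : a * (ψ * a * ψ⁻¹) ∉ U) : a ∉ U ∧ ψ * a * ψ⁻¹ ∉ U :=
  ⟨fun e => a1 (mul_mem e (h.mU.2 e)), fun e => a1 (mul_mem (h.mU.1 e) e)⟩

theorem fixc (ha : a ∈ A) (a1 : a * (ψ * a * ψ⁻¹) ∉ U) (hc : c ∈ A) (c1 : c * (ψ * c * ψ⁻¹) ∈ U) :
    c ∈ U ∨ a * (ψ * a * ψ⁻¹ * c) ∈ U := by
  have ha' := h.mA ha
  have hc' := h.mA hc
  have k : ∀ p ∈ A, ∀ q ∈ A, p * c ∈ U → q * (ψ * c * ψ⁻¹) ∈ U → p * q ∈ U := fun p hp q hq h1 h2 => by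
    have := mul_mem (mul_mem h1 h2) c1
    rwa [mul_assoc p, ← mul_assoc c, cA h.l hc hq, mul_assoc q, mul_assoc p, mul_assoc q,
      h.l.elA.sq _ (mul_mem hc hc'), mul_one] at this
  rcases four h.l.UA (c4 h.l) h.l.elA.sq ha ha' (h.out a1).1 (h.out a1).2 a1 hc with e | e | e | e
  · exact .inl e
  · exact absurd (k _ ha _ ha' e (conj_mul' ψ a c ▸ h.mU.2 e)) a1
  · have e1 := k _ ha' _ (h.mA ha') e (conj_mul' ψ _ c ▸ h.mU.2 e)
    have e2 := mul_mem (mR h.l h.sq ha) e1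
    rw [← conj_conj, cA h.l ha' (h.mA ha'), mul_assoc a, ← mul_assoc _ _ (ψ * a * ψ⁻¹),
      h.l.elA.sq _ (h.mA ha'), one_mul] at e2
    exact absurd e2 a1
  · exact .inr e

theorem exists_sqA : ∃ y ∈ A ⊔ B, ψ * y * (ψ * y) ∈ A := by
  obtain ⟨a, ha, c, hc, e⟩ := memR h.l h.sq
  obtain ⟨b, hb, b1⟩ := h.symm.exists_a
  have hb' := h.symm.mA hb
  have hc' := h.symm.mA hc
  have e1 : ψ * a * ψ⁻¹ * (ψ * c * ψ⁻¹) = a * c := by rw [← conj_mul', ← e]; group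
  have e2 : c * (ψ * c * ψ⁻¹) ∈ U := by
    refine inf h.l ?_ (mul_mem hc hc')
    have : c * (ψ * c * ψ⁻¹) = a⁻¹ * (ψ * a * ψ⁻¹) * (ψ * c * ψ⁻¹ * (ψ * c * ψ⁻¹)) := by
      rw [← mul_assoc _ _ (ψ * c * ψ⁻¹), mul_assoc a⁻¹, e1, inv_mul_cancel_left]
    rw [this, h.l.elB.sq _ hc', mul_one]
    exact mul_mem (inv_mem ha) (h.mA ha)
  rcases h.symm.fixc hb b1 hc e2 with k | k
  · exact ⟨1, one_mem _, by rw [mul_one, e]; exact mul_mem ha (h.l.UA k)⟩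
  · refine ⟨b, mem_sup_right hb, ?_⟩
    have : ψ * b * (ψ * b) = ψ * b * ψ⁻¹ * a * (ψ * b * ψ⁻¹)⁻¹ * (ψ * b * ψ⁻¹ * c * b) := by
      rw [show ψ * b * (ψ * b) = ψ * b * ψ⁻¹ * (ψ * ψ) * b by group, e]; group
    rw [this, cA (sym h.l) (mul_mem hb' hc) hb]
    exact mul_mem ((conj_mem_norm (nAB (sym h.l) hb')).2 ha) (h.l.UA k)

theorem exists_inv (h2 : ψ * ψ ∈ A) : ∃ y ∈ A, ψ * y * (ψ * y) = 1 := by
  obtain ⟨u, hu, u1, hU⟩ := h.exists_u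
  obtain ⟨a, ha, a1⟩ := h.exists_a
  have e0 : ψ * (ψ * ψ) * ψ⁻¹ = ψ * ψ := by group
  have k : ∀ y ∈ A, y * (ψ * y * ψ⁻¹ * (ψ * ψ)) = 1 → ∃ y ∈ A, ψ * y * (ψ * y) = 1 := fun y hy e =>
    ⟨y, hy, by rw [← e, cA h.l hy (mul_mem (h.mA hy) h2)]; group⟩
  have k2 : ∀ y ∈ A, y * (ψ * y * ψ⁻¹ * (ψ * ψ)) ∈ U → ∃ y ∈ A, ψ * y * (ψ * y) = 1 := fun y hy e => by
    have hy' := h.mA hy
    rcases hU _ e with e1 | e1 | e1
    · exact k y hy e1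
    · refine k (u * y) (mul_mem (h.l.UA hu) hy) ?_
      rw [conj_mul', mul_assoc u, mul_assoc (ψ * u * ψ⁻¹), comm_assoc (cA h.l hy (h.mA (h.l.UA hu))), ← mul_assoc u, e1,
        h.l.elU.sq _ (mul_mem hu (h.mU.2 hu))]
    · refine absurd (e1.symm.trans ?_) u1
      rw [conj_mul', conj_mul', e0, conj_conj ψ ψ y, conj_eq_of_comm (cA h.l h2 hy), comm_assoc (cA h.l hy' hy)]
      exact h.l.elU.sq _ e
  rcases h.fixc ha a1 h2 (by rw [e0, h.l.elA.sq _ h2]; exact one_mem _) with e | e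
  exacts [k2 1 (one_mem _) (by simpa using e), k2 a ha e]

end Ph

open B15.U4c Std.W

/-- Coordinates in an elementary abelian group of order four. -/
def p2 (g h : G) (i j : ZMod 2) : G := pw g i * pw h j

theorem pw_mem (hp : p ∈ K) (i : ZMod 2) : pw p i ∈ K := pow_mem hp _

theorem p2_mem (hp : p ∈ K) (hq : q ∈ K) (i j : ZMod 2) : p2 p q i j ∈ K := mul_mem (pw_mem hp i) (pw_mem hq j)

theorem p2_add (h2 : ∀ y ∈ K, y * y = 1) (hp : p ∈ K) (hq : q ∈ K) (i j i' j' : ZMod 2) :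
    p2 p q i j * p2 p q i' j' = p2 p q (i + i') (j + j') := by
  simp only [p2, pw_add (h2 p hp), pw_add (h2 q hq), mul_assoc]
  rw [comm_assoc (comm_of_sq h2 (pw_mem hq j) (pw_mem hp i'))]

theorem p2_conj (h2 : ∀ y ∈ K, y * y = 1) (hp : p ∈ K) (hq : q ∈ K) (e1 : ψ * p * ψ⁻¹ = q) (e2 : ψ * q * ψ⁻¹ = p)
    (i j : ZMod 2) : ψ * p2 p q i j = p2 p q j i * ψ := by
  rw [← mul_inv_eq_iff_eq_mul, p2, p2, conj_mul', comm_of_sq h2 (pw_mem hp j) (pw_mem hq i)]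
  simp only [pw, ← conj_pow, e1, e2]

theorem pw_cm (p q : G) (i j : ZMod 2) : ⁅pw p i, pw q j⁆ = pw ⁅p, q⁆ (i * j) := by
  rcases cases2 i with rfl | rfl <;> rcases cases2 j with rfl | rfl <;> simp [pw_zero, pw_one]

/-- The first coordinate. -/
def al (a : K4) : ZMod 2 := if a = om ∨ a = 1 then 1 else 0
/-- The second coordinate. -/
def be (a : K4) : ZMod 2 := if a = om * om ∨ a = 1 then 1 else 0

theorem al_add : ∀ a b, al (a + b) = al a + al b ∧ be (a + b) = be a + be b := by decide +kernel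
theorem al_sq : ∀ a, al (a * a) = be a ∧ be (a * a) = al a := by decide +kernel
theorem al_mul : ∀ a b, al (a * b) = 0 + al a * be b + (be a * al b + be a * be b) ∧
    be (a * b) = al a * al b + al a * be b + (be a * al b + 0) := by decide +kernel
theorem al_om : al om = 1 ∧ be om = 0 ∧ al (om * om) = 0 ∧ be (om * om) = 1 ∧ al 1 = 1 ∧ be 1 = 1 := by
  decide +kernel

theorem Ph.exists_hom (h : Ph S A B U ψ) (h2 : ψ * ψ = 1) (hψ : ψ ∈ S) :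
    ∃ ι : T0 →* G, Function.Injective ι ∧ ι.range ≤ S ∧ A ⊔ B ≤ ι.range ∧ ψ ∈ ι.range := by
  have cc : ∀ g, ψ * (ψ * g * ψ⁻¹) * ψ⁻¹ = g := fun g => by rw [conj_conj, h2]; simp
  obtain ⟨u, hu, u1, hU⟩ := h.exists_u
  obtain ⟨a, ha, a1⟩ := h.exists_a
  obtain ⟨b', hb', e1⟩ := surj h.l ha (h.out a1).1 (mul_mem hu (h.mU.2 hu))
  have ha' := h.mA ha
  have hb := h.symm.mA hb'
  have fa := cc a
  have fb := cc b'
  have e2 : ⁅ψ * a * ψ⁻¹, ψ * b' * ψ⁻¹⁆ = u * (ψ * u * ψ⁻¹) := by rw [← conjugate_commutatorElement, e1, h.fz hu]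
  have b1 : b' ∉ U := fun k => u1 (e1 ▸ commutatorElement_eq_one_iff_mul_comm.2 (cA h.l ha (h.l.UA k)))
  have b2 : ψ * b' * ψ⁻¹ ∉ U := fun k => b1 (h.mU.1 k)
  obtain ⟨a', ea⟩ : ∃ a', ψ * a * ψ⁻¹ = a' := ⟨_, rfl⟩
  obtain ⟨b, eb⟩ : ∃ b, ψ * b' * ψ⁻¹ = b := ⟨_, rfl⟩
  have a2 := h.out a1
  rw [ea] at a1 a2 ha' fa e2
  rw [eb] at hb fb e2 b2
  have hc := h.l.comm a ha b hb
  have hc' := h.l.comm a' ha' b' hb'
  have ec : ψ * ⁅a, b⁆ * ψ⁻¹ = ⁅a', b'⁆ := by rw [conjugate_commutatorElement, ea, fb]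
  have ec' : ψ * ⁅a', b'⁆ * ψ⁻¹ = ⁅a, b⁆ := by rw [← ec, cc]
  have c1 : ⁅a, b⁆ ≠ 1 := fun e => b2 (nd' h.l ha hb a2.1 e)
  have c2 : ⁅a', b'⁆ ≠ 1 := fun e => b1 (nd' h.l ha' hb' a2.2 e)
  have ez : ⁅a', b'⁆ * ⁅a, b⁆ = u * (ψ * u * ψ⁻¹) := by
    rcases hU _ hc with e | e | e
    · exact absurd e c1
    · exact absurd (nd' h.l (mul_mem ha ha') hb a1 (by
        rw [cl h.l ha ha' hb, e, e2, h.l.elU.sq _ (mul_mem hu (h.mU.2 hu))])) b2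
    · rw [← e, ec, comm_of_sq h.l.elU.sq hc hc']
  have b3 : b * b' ∉ U := fun k => by
    have := cU h.l ha hb ha hb' (h.l.elA.sq a ha ▸ one_mem U) k
    rw [e1, ← ez, mul_eq_right] at this
    exact c2 this
  rw [← ez] at e1 e2 u1
  obtain ⟨ι, h1, h3, h4, h5⟩ := Std.W.exists_hom (fun t => p2 a a' (al t) (be t)) (fun t => p2 b b' (al t) (be t))
    (fun t => p2 ⁅a', b'⁆ ⁅a, b⁆ (al t) (be t)) ψ
    (fun s t => by simp only [p2_add h.l.elA.sq ha ha', al_add])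
    (fun s t => by simp only [p2_add h.l.elB.sq hb hb', al_add])
    (fun s t => by simp only [p2_add h.l.elU.sq hc' hc, al_add])
    (fun s t => cA h.l (h.l.UA (p2_mem hc' hc _ _)) (p2_mem ha ha' _ _))
    (fun s t => cA (sym h.l) (h.l.UB (p2_mem hc' hc _ _)) (p2_mem hb hb' _ _))
    (fun s t => by
      have m1 := p2_mem ha ha' (al s) (be s)
      have m2 := p2_mem hb hb' (al t) (be t)
      have k : ∀ i, pw (⁅a', b'⁆ * ⁅a, b⁆) i = p2 ⁅a', b'⁆ ⁅a, b⁆ i i := fun i => by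
        rcases cases2 i with rfl | rfl <;> simp [p2, pw_zero, pw_one]
      have k1 : ∀ i, pw ⁅a', b'⁆ i = p2 ⁅a', b'⁆ ⁅a, b⁆ i 0 := fun i => by simp [p2, pw_zero]
      have k2 : ∀ i, pw ⁅a, b⁆ i = p2 ⁅a', b'⁆ ⁅a, b⁆ 0 i := fun i => by simp [p2, pw_zero]
      have : ⁅p2 a a' (al s) (be s), p2 b b' (al t) (be t)⁆ = p2 ⁅a', b'⁆ ⁅a, b⁆ (al (s * t)) (be (s * t)) := by
        rw [(al_mul s t).1, (al_mul s t).2, ← p2_add h.l.elU.sq hc' hc, ← p2_add h.l.elU.sq hc' hc,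
          ← p2_add h.l.elU.sq hc' hc, ← k, ← k, ← k1, ← k2, p2, cl h.l (pw_mem ha _) (pw_mem ha' _) m2, p2,
          cr h.l (pw_mem ha _) (pw_mem hb _) (pw_mem hb' _), cr h.l (pw_mem ha' _) (pw_mem hb _) (pw_mem hb' _),
          pw_cm, pw_cm, pw_cm, pw_cm, e1, e2]
      rw [← this, ← cR h.l (mul_mem (mem_sup_right m2) (mem_sup_left m1)) _ (h.l.comm _ m1 _ m2) |>.symm]
      simp only [commutatorElement_def]
      group)
    (fun s => by simp only [p2_conj h.l.elA.sq ha ha' ea fa, al_sq])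
    (fun s => by simp only [p2_conj h.l.elB.sq hb hb' fb eb, al_sq])
    (fun s => by simp only [p2_conj h.l.elU.sq hc' hc ec' ec, al_sq]) h2
  have r : ∀ {f : K4 → T0} {p q : G}, (∀ t, ι (f t) = p2 p q (al t) (be t)) → p ∈ ι.range ∧ q ∈ ι.range :=
    fun {f p q} e => ⟨⟨f om, by simp [e, al_om, p2, pw_zero, pw_one]⟩,
      ⟨f (om * om), by simp [e, al_om, p2, pw_zero, pw_one]⟩⟩
  have rU : U ≤ ι.range := four_le (K := ⊥) bot_le (by simp [h.l.elU.card]) h.l.elU.sq hc' hc c2 c1 u1 bot_le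
    (r h4).1 (r h4).2
  refine ⟨ι, L4.M22.inj_of_z ι (by simpa [h4, al_om, p2, pw_one] using u1), ?_, sup_le
    (four_le h.l.UA (c4 h.l) h.l.elA.sq ha ha' a2.1 a2.2 a1 rU (r h1).1 (r h1).2)
    (four_le h.l.UB (c4 (sym h.l)) h.l.elB.sq hb hb' b2 b1 b3 rU (r h3).1 (r h3).2), fi, h5⟩
  rw [MonoidHom.range_eq_map, map_le_iff_le_comap, eq_top_of (S := S.comap ι)]
  · exact mem_comap.2 (h1 _ ▸ h.l.leA (p2_mem ha ha' _ _))
  · exact mem_comap.2 (h3 _ ▸ h.l.leB (p2_mem hb hb' _ _))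
  · exact mem_comap.2 (h5 ▸ hψ)

theorem exists_t0 (h : L34 S A B U) {φ : G} (h1 : φ ∈ S) (hA : φ ∈ normalizer (A : Set G))
    (hB : φ ∈ normalizer (B : Set G)) (hU : ¬ Cz φ U) (hS : Ix S (A ⊔ B) φ) :
    ∃ ι : T0 →* G, Function.Injective ι ∧ ι.range = S := by
  have h0 : Ph S A B U φ := ⟨h, hA, hB, hU, (hS φ h1).resolve_left fun e => hU (cR h e)⟩
  have le : A ⊔ B ≤ S := sup_le h.leA h.leB
  obtain ⟨y, hy, e⟩ := h0.exists_sqA
  obtain ⟨y', hy', e'⟩ := (h0.mul hy).exists_inv e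
  obtain ⟨ι, i1, i2, i3, i4⟩ := ((h0.mul hy).mul (mem_sup_left hy')).exists_hom e'
    (mul_mem (mul_mem h1 (le hy)) (h.leA hy'))
  have : φ ∈ ι.range := (mul_mem_cancel_right (i3 hy)).1 ((mul_mem_cancel_right (i3 (mem_sup_left hy'))).1 i4)
  exact ⟨ι, i1, le_antisymm i2 fun g hg => (hS g hg).elim (fun k => i3 k) fun k => (mul_mem_cancel_left this).1 (i3 k)⟩

end HamP

end Cfsg.Agent.GHK
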