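import Mathlib
import Cfsg.Agent.GHK.Defs
import Cfsg.Agent.GHK.Basic
import Cfsg.Agent.GHK.HamPa
import Cfsg.Agent.GHK.HamPb
import Cfsg.Agent.L4.Top
import Cfsg.Agent.L4.SylG
import Cfsg.Agent.Cl.UOrder

/-! Sylow 2-subgroups of type PSp4(q) and M22. See `stubs/Cfsg/Agent/GHK/PLAN.md`. -/

set_option autoImplicit false
set_option linter.unusedSectionVars false

namespace Cfsg.Agent.GHK

open Cfsg.Agent.Inv.Fz Cfsg.Agent.NE Subgroup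
open scoped commutatorElement

variable {G : Type*} [Group G] [Finite G] {S P R K L N T V A B U : Subgroup G} {x s g b : G} {n : ℕ}

namespace HamP

theorem dvd_psl4 {F : Type} [Field F] [Fintype F] (h : Fintype.card F % 8 = 1) :
    256 ∣ Nat.card (Matrix.ProjectiveSpecialLinearGroup (Fin 4) F) := by
  have e := L4.SylG.card_psl4 (F := F)
  rw [Nat.card_eq_fintype_card (α := F)] at e
  generalize Fintype.card F = q at e h
  obtain ⟨m, rfl⟩ : ∃ m, q = 8 * m + 1 := ⟨q / 8, by omega⟩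
  have h1 : (8 * m + 1) ^ 2 - 1 = 16 * (4 * m ^ 2 + m) := Nat.sub_eq_of_eq_add (by ring)
  have h2 : (8 * m + 1) ^ 3 - 1 = 8 * (64 * m ^ 3 + 24 * m ^ 2 + 3 * m) := Nat.sub_eq_of_eq_add (by ring)
  have h3 : (8 * m + 1) ^ 4 - 1 = 32 * (128 * m ^ 4 + 64 * m ^ 3 + 12 * m ^ 2 + m) := Nat.sub_eq_of_eq_add (by ring)
  rw [h1, h2, h3, Nat.add_sub_cancel, Nat.gcd_eq_left (⟨2 * m, by ring⟩ : 4 ∣ 8 * m)] at e
  refine Nat.dvd_of_mul_dvd_mul_left (by norm_num : 0 < 4) (e ▸ ⟨4 * ((8 * m + 1) ^ 6 * (4 * m ^ 2 + m) *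
    (64 * m ^ 3 + 24 * m ^ 2 + 3 * m) * (128 * m ^ 4 + 64 * m ^ 3 + 12 * m ^ 2 + m)), by ring⟩)

theorem dvd_psu4 {F : Type} [Field F] [Fintype F] {q : ℕ} (hF : Fintype.card F = q ^ 2) (h : q % 8 = 7) :
    256 ∣ Nat.card (Cfsg.PSU 4 F q) := by
  obtain ⟨σ, hσ⟩ := Cl.exists_uField hF
  have e := hσ.card_PSU (n := 4) (by norm_num)
  norm_num [Cl.uOrd, Finset.prod_range_succ, Nat.even_iff] at e
  generalize Nat.card (Cfsg.PSU 4 F q) = N at e ⊢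
  clear hσ hF
  obtain ⟨x, y, z, h1, h2, h3⟩ : ∃ x y z, q ^ 2 - 1 = 16 * y ∧ q ^ 3 + 1 = 8 * z ∧ q ^ 4 - 1 = 32 * x := by
    obtain ⟨m, rfl⟩ : ∃ m, q = 8 * m + 7 := ⟨q / 8, by omega⟩
    exact ⟨(4 * m ^ 2 + 7 * m + 3) * (32 * m ^ 2 + 56 * m + 25), 4 * m ^ 2 + 7 * m + 3,
      64 * m ^ 3 + 168 * m ^ 2 + 147 * m + 43, Nat.sub_eq_of_eq_add (by ring), by ring, Nat.sub_eq_of_eq_add (by ring)⟩
  rw [h1, h2, h3, Nat.gcd_eq_left (by omega : 4 ∣ q + 1)] at e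
  exact ⟨4 * (q ^ 6 * y * z * x), Nat.eq_of_mul_eq_mul_left (by omega : 0 < q + 1) (by linarith)⟩

theorem not_t0 (c : Ctx G) {ι : Std.W.T0 →* G} (hi : Function.Injective ι) (hr : ι.range = c.S) : False := by
  obtain ⟨S, hS⟩ := c.exists_sylow
  refine c.ng ?_
  unfold Goal
  iterate 16 right
  have k : ∀ a ∈ S, (∀ u ∈ S, u * a = a * u) → a = 1 ∨ a = ι (Std.W.w 1) := fun a ha h => by
    obtain ⟨p, rfl⟩ := hr.ge (hS.le ha)
    have k : ∀ q, p * q = q * p := fun q => hi (by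
      rw [map_mul, map_mul]; exact (h _ (hS.ge (hr.le ⟨q, rfl⟩))).symm)
    rcases Std.W.center_eq p (k _) (k _) (k _) with rfl | rfl
    exacts [.inl (map_one ι), .inr rfl]
  refine .inl ⟨S, fun a ha b hb h1 h2 => ?_⟩
  rcases k a ha h1 with e | e
  · exact .inl e
  · rcases k b hb h2 with e' | e'
    exacts [.inr (.inl e'), .inr (.inr (e.trans e'.symm))]

end HamP

/-- `S = (H ∘ H ^ t) ⟨t⟩` with `H` quaternion of order at least 16. -/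
theorem Ctx.not_qq (c : Ctx G) {H : Subgroup G} {a t : G} (hH : DQ H a b n) (h3 : 3 ≤ n) (hb : b * b = zz a n)
    (ht : t * t = 1) (hc : ∀ u ∈ H, ∀ v ∈ cj t H, u * v = v * u) (hd : H ⊓ cj t H = zpowers (zz a n))
    (hS : c.S = H ⊔ cj t H ⊔ zpowers t) : False := by
  obtain ⟨k, rfl⟩ : ∃ k, n = k + 2 := ⟨n - 2, by omega⟩
  obtain ⟨e⟩ := HamP.qq_iso hH hb ht hc hd
  exact HamP.not_ps c (e.trans (MulEquiv.subgroupCongr hS.symm))

/-- `S = A.2²` with `A = E₁₆` a free module: `S` is a Sylow 2-subgroup of `L₄(2)`. -/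
theorem Ctx.not_ut4 (c : Ctx G) (hA : El 16 A) (hle : A ≤ c.S) (hn : c.S ≤ normalizer (A : Set G))
    (hc : Nat.card c.S = 64) (h2 : ∀ y ∈ c.S, y * y ∈ A) {t u v : G} (ht : t ∈ c.S) (hu : u ∈ c.S) (hv : v ∈ A)
    (hf : ⁅t, ⁅u, v⁆⁆ ≠ 1) : False := by
  have : (A.subgroupOf c.S).Normal := (normal_subgroupOf_iff_le_normalizer hle).2 hn
  obtain ⟨e⟩ := HamP.ut4_iso (A := A.subgroupOf c.S) hc
    ⟨(Nat.card_congr (subgroupOfEquivOfLe hle).toEquiv).trans hA.card, fun a ha => Subtype.ext (hA.sq _ ha)⟩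
    (fun y => h2 _ y.2) (t := ⟨t, ht⟩) (u := ⟨u, hu⟩) (v := ⟨v, hle hv⟩) hv fun e => hf (congrArg Subtype.val e)
  obtain ⟨f⟩ := P4.ps_zero_ut4
  exact HamP.not_ps c (f.trans e)

/-- Letters for a Sylow 2-subgroup of `M₂₂`. -/
theorem Ctx.not_m22 (c : Ctx G) (h : L34 c.S A B U) {φ : G} (h1 : φ ∈ c.S) (hA : φ ∈ normalizer (A : Set G))
    (hB : φ ∈ normalizer (B : Set G)) (hU : ¬ Cz φ U) (hS : Ix c.S (A ⊔ B) φ) : False := by
  obtain ⟨ι, hi, hr⟩ := HamP.exists_t0 h h1 hA hB hU hS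
  exact HamP.not_t0 c hi hr

end Cfsg.Agent.GHK
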