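import Mathlib
import Cfsg.Agent.GHK.Defs
import Cfsg.Agent.GHK.HamA
import Cfsg.Agent.GHK.HamB
import Cfsg.Agent.GHK.HamP
import Cfsg.Agent.GHK.Ua
import Cfsg.Agent.NE.RecJ

/-! A Sylow 2-subgroup of L3(4) inside S. See `stubs/Cfsg/Agent/GHK/PLAN.md`. -/

set_option autoImplicit false
set_option linter.unusedSectionVars false

namespace Cfsg.Agent.GHK

open Cfsg.Agent.Inv.Fz Cfsg.Agent.NE Subgroup
open scoped commutatorElement

variable {G : Type*} [Group G] [Finite G] {S P R K L N T V A B U : Subgroup G} {x s g b : G} {n : ℕ}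

theorem Ctx.not_l34 (c : Ctx G) (h : L34 c.S A B U) (hf : ∀ u ∈ U, ∀ v ∈ U, u ≠ 1 → v ≠ 1 → IsConj u v) : False := by
  have l : UL.LS c.S A B U := ⟨h, c.pS, c.r4⟩
  have hU := l.U_le.trans l.R_le
  by_cases hs : ∃ y ∈ c.S, cj y A = B ∧ cj y B = A
  · obtain ⟨y, hy, hs⟩ := hs
    exact c.not_b8 h.elU hU l.S_normU hf fun E hE hn h2 => l.no8 hy hs hE hn h2
  have h1 : ∀ y ∈ c.S, cj y A = A ∧ cj y B = B := fun y hy =>
    (l.perm (l.normR hy)).resolve_right fun e => hs ⟨y, hy, e⟩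
  have h2 : ∀ y ∈ c.S, Cz y U → y ∈ A ⊔ B := fun y hy e =>
    l.mem_of_norm hy e (cj_eq_iff.1 (h1 y hy).1) (cj_eq_iff.1 (h1 y hy).2)
  by_cases hz : ∀ y ∈ c.S, Cz y U
  · exact c.not_class_two fun u hu v hv y hy => (hz y hy _ (l.comm_R (h2 u hu (hz u hu)) (h2 v hv (hz v hv)))).symm
  push Not at hz
  obtain ⟨φ, hφ, φ1⟩ := hz
  refine c.not_m22 h hφ (cj_eq_iff.1 (h1 φ hφ).1) (cj_eq_iff.1 (h1 φ hφ).2) φ1 fun y hy => ?_
  by_cases e : Cz y U
  · exact Or.inl (h2 y hy e)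
  · exact Or.inr (h2 _ (mul_mem hφ hy) (UL.cz_mul c.pS h.elU hU l.S_normU hφ hy φ1 e))

theorem Ctx.not_l34' (c : Ctx G) (h : L34 c.S A B U) (hc : Nat.card c.S = 128) {t : G} (ht : t ∈ c.S) (t2 : t * t = 1)
    (hU : ¬ Cz t U) : False := by
  have l : UL.LS c.S A B U := ⟨h, c.pS, c.r4⟩
  have hle := l.U_le.trans l.R_le
  have hi : Ix c.S (A ⊔ B) t := ix_of_card l.R_le ht (fun e => hU (l.RU e)) (by rw [hc, l.card_R])
  rcases l.perm (l.normR ht) with e | e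
  · exact c.not_m22 h ht (cj_eq_iff.1 e.1) (cj_eq_iff.1 e.2) hU hi
  obtain ⟨z, hz, u, hu, z1, u1, zu, hzc, hm⟩ := UL.exists_zu c.pS h.elU hle l.S_normU
  obtain ⟨a, ha, a1⟩ := l.exists_A
  let b : B8 G :=
    { S := c.S, z := z, u := u, syl := c.syl
      no8 := fun E hE hn h2 => l.no8 ht e hE hn h2
      z_mem := hle hz, u_mem := hle hu, z_sq := h.elU.sq z hz, u_sq := h.elU.sq u hu, z_ne := z1, u_ne := u1
      u_ne_z := fun k => zu (by rw [k, h.elU.sq z hz])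
      z_comm := hzc
      u_conj := fun s hs => by
        by_cases k : Cz s U
        exacts [Or.inl (conj_eq_of_comm (k u hu)), Or.inr (hm s hs k)]
      rank' := ⟨a, h.leA ha, comm_of_sq h.elA.sq ha (h.UA hu), h.elA.sq a ha, fun k => a1 (k ▸ one_mem _),
        fun k => a1 (k ▸ hz), fun k => a1 (k ▸ hu), fun k => a1 (k ▸ mul_mem hu hz)⟩ }
  have hbU : b.U = U := eq_of_le_of_card_ge (b.U_le_iff.2 ⟨hz, hu⟩) (by rw [b.card_U, h.elU.card])
  have hRT : A ⊔ B ≤ b.T := fun y hy => b.mem_T.2 ⟨l.R_le hy, l.RU hy u hu⟩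
  have htT : t ∉ b.T := fun k => hU fun v hv => b.TU k (hbU ▸ hv)
  have hL : b.L34 A B := ⟨le_sup_left.trans hRT, le_sup_right.trans hRT, hbU ▸ h.UA, hbU ▸ h.UB, h.elA.sq, h.elB.sq,
    h.elA.card, h.elB.card, fun x hx y hy => by
      rw [hbU, mul_assoc]; exact l.sq_R (mul_mem (mem_sup_left hx) (mem_sup_right hy)),
    fun x hx y hy k => hbU ▸ h.nd x hx y hy k⟩
  exact c.not_typeJ (hL.typeJ (fun y hy => (hi y hy.1).resolve_right fun k =>
    htT ((mul_mem_cancel_right hy).1 (hRT k))) ht htT t2)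

end Cfsg.Agent.GHK
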