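import Mathlib
import Cfsg.Agent.GHK.Defs
import Cfsg.Agent.GHK.Crit
import Cfsg.Agent.GHK.E3
import Cfsg.Agent.GT.TransferAlperin

/-! The fusion theorem with triples. See `stubs/Cfsg/Agent/GHK/PLAN.md`. -/

set_option autoImplicit false
set_option linter.unusedSectionVars false

namespace Cfsg.Agent.GHK

open Cfsg.Agent.Inv.Fz Cfsg.Agent.NE Subgroup
open scoped commutatorElement

variable {G : Type*} [Group G] [Finite G] {S P R K L N T V A B U : Subgroup G} {x s g b : G} {n : ℕ}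

namespace Aft

/-- Conjugation by `g` respects the relation `ρ` on `A`. -/
def Gd (ρ : G → G → Prop) (A : Subgroup G) (g : G) : Prop := ∀ y ∈ A, ρ y (g * y * g⁻¹)

variable {ρ : G → G → Prop}

theorem Gd.mono (h : Gd ρ B g) (hA : A ≤ B) : Gd ρ A g := fun y hy => h y (hA hy)

theorem Gd.mul (e : Equivalence ρ) {k : G} (h : Gd ρ A g) (h' : Gd ρ (cj g A) k) : Gd ρ A (k * g) :=
  fun y hy => e.trans (h y hy) (by
    have := h' _ (conj_mem_cj.2 hy)
    convert this using 1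
    group)

theorem Gd.inv (e : Equivalence ρ) (h : Gd ρ A g) : Gd ρ (cj g A) g⁻¹ := fun y hy => by
  have := e.symm (h _ (mem_cj.1 hy))
  convert this using 1
  · group
  · group

/-- The good elements of the normaliser. -/
def KG (e : Equivalence ρ) (B : Subgroup G) : Subgroup G where
  carrier := {g | g ∈ normalizer (B : Set G) ∧ Gd ρ B g}
  one_mem' := ⟨one_mem _, fun y _ => by simpa using e.refl y⟩
  mul_mem' := fun ha hb => ⟨mul_mem ha.1 hb.1, hb.2.mul e (by rw [cj_eq_iff.2 hb.1]; exact ha.2)⟩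
  inv_mem' := fun ha => ⟨inv_mem ha.1, by have := ha.2.inv e; rwa [cj_eq_iff.2 ha.1] at this⟩

theorem pg_zp {m : G} {k : ℕ} (hn : m ^ 2 ^ k = 1) : IsPGroup 2 (zpowers m) := by
  rintro ⟨_, i, rfl⟩
  refine ⟨k, Subtype.ext ?_⟩
  show (m ^ i) ^ 2 ^ k = 1
  rw [← zpow_natCast, ← zpow_mul, mul_comm, zpow_mul, zpow_natCast, hn, one_zpow]

theorem exists_odd (g : G) : ∃ m, Odd m ∧ IsPGroup 2 (zpowers (g ^ m)) := by
  obtain ⟨k, m, hm, e⟩ := Nat.exists_eq_two_pow_mul_odd (orderOf_pos g).ne'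
  exact ⟨m, hm, pg_zp (k := k) (by rw [← pow_mul, mul_comm, ← e, pow_orderOf_eq_one])⟩

theorem mem_of_odd {m : ℕ} (hm : Odd m) (h1 : g ^ m ∈ K) (h2 : g * g ∈ K) : g ∈ K := by
  obtain ⟨k, rfl⟩ := hm
  rw [pow_succ, pow_mul, pow_two] at h1
  exact (mul_mem_cancel_left (pow_mem h2 k)).1 h1

theorem exists_sq {k : ℕ} (hx : x ∈ P) (h1 : x ∉ K) (h : x ^ 2 ^ k ∈ K) :
    ∃ y ∈ P, y ∉ K ∧ y ^ 2 ∈ K := by
  induction k generalizing x with
  | zero => exact absurd (by simpa using h) h1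
  | succ k ih =>
    by_cases h2 : x ^ 2 ∈ K
    · exact ⟨x, hx, h1, h2⟩
    · exact ih (pow_mem hx 2) h2 (by rwa [← pow_mul, ← pow_succ'])

/-- The induction hypothesis. -/
def IH (ρ : G → G → Prop) (S : Subgroup G) (k : ℕ) : Prop :=
  ∀ D : Subgroup G, D ≤ S → k < Nat.card D → ∀ g : G, (∀ d ∈ D, g * d * g⁻¹ ∈ S) → Gd ρ D g

theorem step0 (c : Ctx G) (e : Equivalence ρ) (hN : ∀ m ∈ normalizer (c.S : Set G), Gd ρ c.S m)
    (hB : B ≤ c.S) (hf : IsSylIn 2 (c.S ⊓ normalizer (B : Set G)) (normalizer (B : Set G)))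
    (ih : IH ρ c.S (Nat.card B)) (hT : ∀ x s, T1 c.S B x s → Gd ρ B x)
    (hg : g ∈ normalizer (B : Set G)) : Gd ρ B g := by
  by_cases hS : c.S ≤ B
  · obtain rfl := le_antisymm hB hS
    exact hN g hg
  have pB : IsPGroup 2 B := c.pS.to_le hB
  have kN : KG e B ≤ normalizer (B : Set G) := fun _ h => h.1
  have pK : c.S ⊓ normalizer (B : Set G) ≤ KG e B := fun y hy =>
    ⟨hy.2, (hN y (le_normalizer hy.1)).mono hB⟩
  have bK : B ≤ KG e B := (le_inf hB le_normalizer).trans pK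
  have cK : centralizer (B : Set G) ≤ KG e B := fun y hy => ⟨centralizer_le_normalizer _ hy, fun d hd => by
    rw [← mem_centralizer_iff.1 hy d hd, mul_inv_cancel_right]; exact e.refl d⟩
  have sK := hf.mono pK kN
  have key : ∀ g ∈ normalizer (B : Set G), ∀ x ∈ KG e B, x ∉ B → IsPGroup 2 (zpowers x) →
      g * x * g⁻¹ ∈ KG e B → g ∈ KG e B := fun g hg x hx x1 px hc => by
    have pQ : IsPGroup 2 ↥(B ⊔ zpowers x) :=
      IsPGroup.to_sup_of_normal_left' pB px (zpowers_le.2 hx.1)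
    obtain ⟨k, hk, e1⟩ := sK.exists_cj_le pQ (sup_le bK (zpowers_le.2 hx))
    obtain ⟨k', hk', e2⟩ := sK.exists_cj_le (isPGroup_cj pQ g) (by
      rw [cj_sup, cj_eq_iff.2 hg, cj_zpowers]
      exact sup_le bK (zpowers_le.2 hc))
    have lt : B < B ⊔ zpowers x := lt_of_le_of_ne le_sup_left fun h =>
      x1 (h ▸ mem_sup_right (mem_zpowers x))
    have h1 := ih _ (e1.trans inf_le_left) (by rw [card_cj]; exact card_lt_of_lt lt) (k' * g * k⁻¹)
      (cj_le_iff.1 (by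
        rw [cj_cj, inv_mul_cancel_right, ← cj_cj]
        exact e2.trans inf_le_left))
    have h2 : k' * g * k⁻¹ ∈ KG e B := ⟨mul_mem (mul_mem hk'.1 hg) (inv_mem hk.1), h1.mono (by
      rw [cj_sup, cj_eq_iff.2 hk.1]; exact le_sup_left)⟩
    exact (mul_mem_cancel_left hk').1 ((mul_mem_cancel_right (inv_mem hk)).1 h2)
  have pz : ∀ y ∈ c.S, IsPGroup 2 (zpowers y) := fun y hy => c.pS.to_le (zpowers_le.2 hy)
  by_cases hc : ∀ y ∈ c.S, Cz y B → y ∈ B
  swap
  · push Not at hc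
    obtain ⟨y, hy, y1, y2⟩ := hc
    have y3 : y ∈ centralizer (B : Set G) := mem_centralizer_iff.2 fun d hd => (y1 d hd).symm
    exact (key g hg y (cK y3) y2 (pz y hy) (cK ((mem_normalizer_iff.1
      (normalizer_le_normalizer_centralizer B hg) y).1 y3))).2
  by_contra hcon
  have iS : ∀ y ∈ c.S, y ∈ B ⊔ centralizer (B : Set G) → y ∈ B := fun y hy h => by
    obtain ⟨a, ha, d, hd, rfl⟩ := (mem_sup_iff_of_le_normalizer
      (le_normalizer.trans (normalizer_le_normalizer_centralizer B))).1 h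
    exact mul_mem ha (hc d ((mul_mem_cancel_left (hB ha)).1 hy)
      fun r hr => (mem_centralizer_iff.1 hd r hr).symm)
  have se : Fus.LiftSPE 2 (normalizer (B : Set G)) (B ⊔ centralizer (B : Set G)) (KG e B) := by
    refine ⟨sup_le bK cK, lt_of_le_of_ne kN fun h => hcon (h ▸ hg : g ∈ KG e B).2, ?_,
      fun g hg x hx x1 x2 h => ?_⟩
    · obtain ⟨y, hy, y1⟩ := SetLike.exists_of_lt
        (lt_inf_normalizer c.pS (lt_of_le_of_ne hB fun h => hS h.ge))
      obtain ⟨k, hk⟩ := c.pS ⟨y, hy.1⟩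
      have hk' : y ^ 2 ^ k = 1 := congrArg Subtype.val hk
      obtain ⟨z, hz, z1, z2⟩ := exists_sq hy y1 (hk' ▸ one_mem B)
      exact ⟨z, pK hz, fun h => z1 (iS z hz.1 h), mem_sup_left z2⟩
    · obtain ⟨m, hm, pm⟩ := exists_odd x
      refine key g hg (x ^ m) (pow_mem hx m) (fun l => x1 (mem_of_odd hm (mem_sup_left l) ?_)) pm ?_
      · rwa [← pow_two]
      · rw [← conj_pow]; exact pow_mem h m
  have cr : Crit c.S B := ⟨hB, hS, hf, hc, _, se⟩
  exact hcon (cr.gen c.pS (c.r4.mono hB) se pK le_rfl (fun x s t => ⟨t.tri.xn, hT x s t⟩) hg).2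

theorem step1 (c : Ctx G) (e : Equivalence ρ) (hN : ∀ m ∈ normalizer (c.S : Set G), Gd ρ c.S m)
    (hT : ∀ R x s, T1 c.S R x s → (T2 c.S R x s → Bas c.S R x s) → Gd ρ R x)
    (hB : B ≤ c.S) (ih : IH ρ c.S (Nat.card B))
    (h16 : Nat.card B = 16 * Nat.card (⁅B, B⁆ : Subgroup G))
    (hg : g ∈ normalizer (B : Set G)) : Gd ρ B g := by
  by_cases hS : c.S ≤ B
  · obtain rfl := le_antisymm hB hS
    exact hN g hg
  obtain ⟨P, hP⟩ := c.exists_sylow
  obtain ⟨h, h1, h2⟩ := exists_fullyNormalized P (A := B) (R := c.S ⊓ normalizer (B : Set G))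
    (c.pS.to_le inf_le_left) inf_le_right
  rw [hP] at h1 h2
  have lt := lt_inf_normalizer c.pS (lt_of_le_of_ne hB fun h => hS h.ge)
  have g1 : Gd ρ B h := (ih _ inf_le_left (card_lt_of_lt lt) h (cj_le_iff.1 h1)).mono lt.le
  have g2 : Gd ρ (cj h B) (h * g * h⁻¹) := by
    refine step0 c e hN ((cj_mono lt.le).trans h1) h2 (by rwa [card_cj]) (fun x s t => ?_)
      (by rw [← cj_normalizer]; exact conj_mem_cj.2 hg)
    refine hT _ x s t fun t2 => (c.e3 t2).resolve_right ?_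
    rintro ⟨a, b, Ra, Rb, d⟩
    have h3 := d.cardR
    have h4 : (⁅cj h B, cj h B⁆ : Subgroup G) = cj h ⁅B, B⁆ := (Subgroup.map_commutator _ _ _).symm
    rw [h4, card_cj, card_cj] at h3
    have := Nat.card_pos (α := (⁅B, B⁆ : Subgroup G))
    omega
  have g3 := (g1.mul e g2).mul e (k := h⁻¹) (by
    rw [inv_mul_cancel_right, ← cj_cj, cj_eq_iff.2 hg]
    exact g1.inv e)
  simpa only [inv_mul_cancel_right, inv_mul_cancel_left] using g3

theorem main (c : Ctx G) (e : Equivalence ρ) (hN : ∀ m ∈ normalizer (c.S : Set G), Gd ρ c.S m)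
    (hT : ∀ R x s, T1 c.S R x s → (T2 c.S R x s → Bas c.S R x s) → Gd ρ R x)
    (hD : ∀ R x s a b Ra Rb, T1 c.S R x s → BD c.S R x a b Ra Rb → Gd ρ Ra a → Gd ρ Rb b → Gd ρ R x)
    {y : G} (hy : y ∈ c.S) (hg : g * y * g⁻¹ ∈ c.S) : ρ y (g * y * g⁻¹) := by
  obtain ⟨P, hP⟩ := c.exists_sylow
  refine GT.Tr.alperin_induction P (Gd ρ) (fun A D g h h' => h'.mono h) (fun A g h h1 h2 => h1.mul e h2)
    (fun A g h => h.inv e) (fun B hB hf ih m hm => ?_) (zpowers y) (hP ▸ zpowers_le.2 hy) g ?_ y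
    (mem_zpowers y)
  · rw [hP] at hB hf ih
    refine step0 c e hN hB (isSylIn_of_not_dvd inf_le_right (c.pS.to_le inf_le_left) hf) ih
      (fun x s t => ?_) hm
    by_cases h : T2 c.S B x s → Bas c.S B x s
    · exact hT B x s t h
    push Not at h
    obtain ⟨a, b, Ra, Rb, d⟩ := (c.e3 h.1).resolve_left h.2
    exact hD B x s a b Ra Rb t d (step1 c e hN hT d.leAS (d.cardA ▸ ih) d.derA d.an)
      (step1 c e hN hT d.leBS (d.cardB ▸ ih) d.derB d.bn)
  · rw [hP, ← cj_le_iff, cj_zpowers]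
    exact zpowers_le.2 hg

theorem cm_supp {y : G} (hy : y ∈ R) : y⁻¹ * (x * y * x⁻¹) ∈ supp R x := by
  have := commutator_mem_commutator (inv_mem hy) (mem_zpowers x)
  rw [commutatorElement_def, inv_inv] at this
  simpa only [supp, mul_assoc] using this

theorem supp_le' (hx : x ∈ normalizer (R : Set G)) : supp R x ≤ R :=
  commutator_le.2 fun r hr k hk => by
    rw [commutatorElement_def, mul_assoc, mul_assoc, ← mul_assoc k]
    exact mul_mem hr ((mem_normalizer_iff.1 (zpowers_le.2 hx hk) _).1 (inv_mem hr))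

theorem gd_iff {X : Subgroup G} (hx : x ∈ normalizer (R : Set G))
    (h : ∀ y ∈ R, y ∈ X → x * y * x⁻¹ ∈ X) : Gd (fun y z => y ∈ X ↔ z ∈ X) R x := fun y hy => by
  have h1 : x ∈ normalizer ((R ⊓ X : Subgroup G) : Set G) := mem_normalizer_of_conj_mem fun z hz =>
    ⟨(mem_normalizer_iff.1 hx z).1 hz.1, h z hz.1 hz.2⟩
  exact ⟨h y hy, fun l => ((mem_normalizer_iff.1 h1 y).2 ⟨(mem_normalizer_iff.1 hx y).1 hy, l⟩).2⟩

end Aft

open Aft

/-- Control of strong closure. -/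
theorem Ctx.sc0 (c : Ctx G) {X : Subgroup G} (hX : X ≤ c.S) (hN : normalizer (c.S : Set G) ≤ normalizer (X : Set G))
    (h : ∀ R x s, T1 c.S R x s → (T2 c.S R x s → Bas c.S R x s) → ∀ y ∈ R, y ∈ X → x * y * x⁻¹ ∈ X) :
    Cfsg.IsStronglyClosed X c.S := by
  refine ⟨hX, fun y hy g hg => (Aft.main c (ρ := fun y z => y ∈ X ↔ z ∈ X)
    ⟨fun _ => Iff.rfl, Iff.symm, Iff.trans⟩ (fun m hm y _ => mem_normalizer_iff.1 (hN hm) y)
    (fun R x s t t' => gd_iff t.tri.xn (h R x s t t')) (fun R x s a b Ra Rb t d ga gb => ?_)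
    (hX hy) hg).1 hy⟩
  refine gd_iff t.tri.xn fun y hy hy' => ?_
  have rX : R ≤ normalizer (X : Set G) := (t.crit.le.trans le_normalizer).trans hN
  have ha : ∀ t ∈ supp R x, t ∈ X → a * t * a⁻¹ ∈ X := fun t ht => (ga t (d.leA ht)).1
  have hb : ∀ t ∈ supp R x, t ∈ X → b * t * b⁻¹ ∈ X := fun t ht => (gb t (d.leB ht)).1
  rcases d.drop X rX ha hb with l | l
  · obtain ⟨u, hu, cz⟩ := d.act
    have hab : ∀ t ∈ supp R x ⊓ X, a * b * t * (a * b)⁻¹ ∈ supp R x ⊓ X := fun t ht => by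
      have b1 := (mem_normalizer_iff.1 d.bT t).1 ht.1
      rw [show a * b * t * (a * b)⁻¹ = a * (b * t * b⁻¹) * a⁻¹ by group]
      exact ⟨(mem_normalizer_iff.1 d.aT _).1 b1, ha _ b1 (hb t ht.1 ht.2)⟩
    have yT := l ⟨hy', hy⟩
    have h1 := (hab _ (hab y ⟨yT, hy'⟩)).2
    have h2 : a * b * (a * b * y * (a * b)⁻¹) * (a * b)⁻¹ = u * (x * y * x⁻¹) * u⁻¹ := by
      have := cz y yT
      calc _ = a * b * (a * b) * (y * ((a * b * (a * b))⁻¹ * u * x)) * (u * x)⁻¹ := by group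
        _ = _ := by rw [← this]; group
    rw [h2] at h1
    exact (mem_normalizer_iff.1 (rX (supp_le' t.tri.xn hu)) _).2 h1
  · exact (mul_mem_cancel_left (inv_mem hy')).1 (l (cm_supp hy))

/-- The focal subgroup. -/
theorem Ctx.span0 (c : Ctx G) {X : Subgroup G} (hN : ∀ m ∈ normalizer (c.S : Set G), ∀ y ∈ c.S, ⁅m, y⁆ ∈ X)
    (h : ∀ R x s, T1 c.S R x s → (T2 c.S R x s → Bas c.S R x s) → supp R x ≤ X) : c.S ≤ X := by
  have e : Equivalence fun y z : G => y⁻¹ * z ∈ X := ⟨fun y => by simp, fun l => by simpa using inv_mem l,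
    fun l l' => by simpa [mul_assoc] using mul_mem l l'⟩
  have sp : ∀ (T : Subgroup G) (a : G), a ∈ normalizer (T : Set G) →
      Gd (fun y z : G => y⁻¹ * z ∈ X) T a → supp T a ≤ X := fun T a ha ga =>
    commutator_le.2 fun r hr k hk => by
      have := ((zpowers_le (H := KG e T)).2 ⟨ha, ga⟩ hk).2 _ (inv_mem hr)
      simpa only [commutatorElement_def, inv_inv, mul_assoc] using this
  have key : ∀ y ∈ c.S, ∀ g : G, g * y * g⁻¹ ∈ c.S → y⁻¹ * (g * y * g⁻¹) ∈ X := fun y hy g hg =>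
    Aft.main c e (fun m hm y hy => by
        have := inv_mem (hN m hm _ (inv_mem hy))
        simpa only [commutatorElement_def, inv_inv, mul_assoc, mul_inv_rev] using this)
      (fun R x s t t' y hy => h R x s t t' (cm_supp hy))
      (fun R x s a b Ra Rb _ d ga gb y hy => (d.gen.trans (sup_le (sp _ a d.aT (ga.mono d.leA))
        (sp _ b d.bT (gb.mono d.leB)))) (cm_supp hy)) hy hg
  obtain ⟨P, hP⟩ := c.exists_sylow
  have := c.simple
  have pf : commutator G = ⊤ := (IsSimpleGroup.eq_bot_or_eq_top_of_normal _ inferInstance).resolve_left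
    fun l => c.nc ⟨⟨fun a b => commutatorElement_eq_one_iff_mul_comm.1 (mem_bot.1 (l ▸
      commutator_mem_commutator (mem_top a) (mem_top b)))⟩⟩
  have h1 := commutator_inf_eq_focalSubgroup P
  rw [pf, top_inf_eq, hP] at h1
  rw [h1, focalSubgroup_def, closure_le]
  rintro _ ⟨h1, x, hx, u, rfl⟩
  have h2 : u * x⁻¹ * u⁻¹ ∈ c.S := by
    have := mul_mem (inv_mem hx) h1
    rwa [commutatorElement_def, show x⁻¹ * (x * u * x⁻¹ * u⁻¹) = u * x⁻¹ * u⁻¹ by group] at this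
  have := key _ (inv_mem hx) u h2
  rwa [inv_inv, ← mul_assoc, ← mul_assoc] at this

end Cfsg.Agent.GHK
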