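import Mathlib
import Cfsg.Agent.GHK.CI
import Cfsg.Agent.GHK.HamA

/-! The fusion theorem with basic triples. -/

set_option autoImplicit false
set_option linter.unusedSectionVars false

namespace Cfsg.Agent.GHK.Ctx

open Cfsg.Agent.Inv.Fz Cfsg.Agent.NE Subgroup
open scoped commutatorElement

variable {G : Type*} [Group G] [Finite G] (c : Ctx G) {X : Subgroup G}

theorem sc (hX : X ≤ c.S) (hS : c.S ≤ normalizer (X : Set G))
    (hN : ∀ m ∈ normalizer (c.S : Set G), Odd (orderOf m) → m ∈ normalizer (X : Set G))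
    (h : ∀ R x s, Bas c.S R x s → ∀ y ∈ R, y ∈ X → x * y * x⁻¹ ∈ X) : Cfsg.IsStronglyClosed X c.S :=
  c.sc0 hX (c.norm_le hS hN) fun R x s h1 h2 => h R x s (h2 (c.two h1))

/-- An invariant subgroup of class at most two is moved by some basic triple. -/
theorem exists_move (hX : X ≤ c.S) (hS : c.S ≤ normalizer (X : Set G))
    (hN : ∀ m ∈ normalizer (c.S : Set G), Odd (orderOf m) → m ∈ normalizer (X : Set G)) (h1 : X ≠ ⊥)
    (h2 : ∀ u ∈ X, ∀ v ∈ X, Cz ⁅u, v⁆ X) : ∃ R x s, Bas c.S R x s ∧ ∃ y ∈ R, y ∈ X ∧ x * y * x⁻¹ ∉ X := by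
  by_contra e
  push Not at e
  exact c.noSC (c.sc hX hS hN e) h1 h2

/-- A central involution fixed by `N(S)` is moved by some basic triple. -/
theorem exists_move_z {z : G} (hz : z ∈ c.S) (z1 : z ≠ 1) (hc : Cz z c.S)
    (hN : ∀ m ∈ normalizer (c.S : Set G), Odd (orderOf m) → m * z = z * m) :
    ∃ R x s, Bas c.S R x s ∧ x * z ≠ z * x := by
  have k : ∀ m : G, m * z = z * m → m ∈ normalizer (zpowers z : Set G) := fun m hm =>
    cj_eq_iff.1 (by rw [cj_zpowers, conj_eq_of_comm hm])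
  obtain ⟨R, x, s, h, y, -, hy, e⟩ := c.exists_move (X := zpowers z) (zpowers_le.2 hz)
    (fun m hm => k m (hc m hm).symm) (fun m hm ho => k m (hN m hm ho)) (by simpa using z1) (by
      rintro _ ⟨i, rfl⟩ _ ⟨j, rfl⟩ r -
      simp only []
      rw [commutatorElement_eq_one_iff_commute.2 (Commute.zpow_zpow_self z i j), one_mul, mul_one])
  exact ⟨R, x, s, h, fun l => e ((conj_mem_norm (k x l)).2 hy)⟩

theorem span (hS : ∀ u ∈ c.S, ∀ v ∈ c.S, ⁅u, v⁆ ∈ X)
    (hN : ∀ m ∈ normalizer (c.S : Set G), Odd (orderOf m) → ∀ y ∈ c.S, ⁅m, y⁆ ∈ X)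
    (h : ∀ R x s, Bas c.S R x s → supp R x ≤ X) : c.S ≤ X := by
  let K : Subgroup G :=
    { carrier := {m | m ∈ normalizer (c.S : Set G) ∧ ∀ y ∈ c.S, ⁅m, y⁆ ∈ X}
      one_mem' := ⟨one_mem _, fun y _ => by simp⟩
      mul_mem' := by
        rintro a b ⟨ha, ha'⟩ ⟨hb, hb'⟩
        refine ⟨mul_mem ha hb, fun y hy => ?_⟩
        have := mul_mem (ha' _ ((conj_mem_norm hb).2 hy)) (hb' y hy)
        rwa [show ⁅a, b * y * b⁻¹⁆ * ⁅b, y⁆ = ⁅a * b, y⁆ by simp only [commutatorElement_def]; group] at this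
      inv_mem' := by
        rintro a ⟨ha, ha'⟩
        refine ⟨inv_mem ha, fun y hy => ?_⟩
        have := inv_mem (ha' _ ((conj_mem_norm (inv_mem ha)).2 hy))
        rwa [show ⁅a, a⁻¹ * y * a⁻¹⁻¹⁆⁻¹ = ⁅a⁻¹, y⁆ by simp only [commutatorElement_def]; group] at this }
  have : normalizer (c.S : Set G) ≤ K :=
    c.norm_le (fun m hm => ⟨le_normalizer hm, hS m hm⟩) fun m hm ho => ⟨hm, hN m hm ho⟩
  exact c.span0 (fun m hm => (this hm).2) fun R x s h1 h2 => h R x s (h2 (c.two h1))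

/-- A subgroup of index two that is invariant under `N(S)` does not contain all supports. -/
theorem span2 {g : G} (hi : Ix c.S X g) (hne : ¬ c.S ≤ X)
    (hN : ∀ m ∈ normalizer (c.S : Set G), Odd (orderOf m) → ∀ y ∈ c.S, y ∈ X → m * y * m⁻¹ ∈ X) :
    ∃ R x s, Bas c.S R x s ∧ ¬ supp R x ≤ X := by
  have key : ∀ m ∈ normalizer (c.S : Set G), (∀ y ∈ c.S, y ∈ X → m * y * m⁻¹ ∈ X) → ∀ y ∈ c.S, ⁅m, y⁆ ∈ X := by
    intro m hm h y hy
    rw [commutatorElement_def]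
    by_cases e : y ∈ X
    · exact mul_mem (h y hy e) (inv_mem e)
    · have hn : m ∈ normalizer ((c.S ⊓ X : Subgroup G) : Set G) := cj_eq_iff.1 (cj_eq_of_le (cj_le_iff.2
        fun w hw => ⟨(conj_mem_norm hm).2 hw.1, h w hw.1 hw.2⟩))
      exact hi.mul_mem ((conj_mem_norm hm).2 hy) (inv_mem hy)
        (fun l => e ((conj_mem_norm hn).1 ⟨(conj_mem_norm hm).2 hy, l⟩).2) fun l => e (inv_mem_iff.1 l)
  by_contra e
  push Not at e
  refine hne (c.span (fun u hu => key u (le_normalizer hu) fun y hy h => ?_) (fun m hm ho => key m hm (hN m hm ho)) e)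
  by_cases l : u ∈ X
  · exact mul_mem (mul_mem l h) (inv_mem l)
  · exact hi.mul_mem (mul_mem hu hy) (inv_mem hu) (fun k => l ((mul_mem_cancel_right h).1 k))
      fun k => l (inv_mem_iff.1 k)

end Cfsg.Agent.GHK.Ctx
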