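import Mathlib
import Cfsg.Agent.GHK.Defs3
import Cfsg.Agent.GHK.DihA
import Cfsg.Agent.GHK.TriB

/-! A normal cyclic subgroup whose involution is moved: structure. See `stubs/Cfsg/Agent/GHK/PLAN2.md`. -/

set_option autoImplicit false
set_option linter.unusedSectionVars false

namespace Cfsg.Agent.GHK

open Cfsg.Agent.Inv.Fz Cfsg.Agent.NE Subgroup
open Cfsg.Agent.Loc.Mss (comm_le_left comm_le_right mem_cent cent_le_norm cent_anti cent_comm conj_mem_of_norm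
  conj_mem_of_norm' mem_sup_norm norm_inf norm_sup comm_eq_bot_iff)
open scoped commutatorElement

variable {G : Type*} [Group G] [Finite G] {S R K N Θ Θ' H : Subgroup G} {x s g v a b a' b' y : G} {n n' : ℕ}

namespace XAa

theorem zz2 (ho : orderOf a = 2 ^ n) (h1 : 1 ≤ n) : zz a n * zz a n = 1 := by
  rw [← pow_add, ← two_mul, ← pow_succ', Nat.sub_add_cancel h1, ← ho, pow_orderOf_eq_one]

theorem zz_ne (ho : orderOf a = 2 ^ n) (h1 : 1 ≤ n) : zz a n ≠ 1 :=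
  pow_ne_one_of_lt_orderOf (by positivity) (ho ▸ Nat.pow_lt_pow_right one_lt_two (by omega))

theorem zz_cj (g a : G) (n : ℕ) : zz (g * a * g⁻¹) n = g * zz a n * g⁻¹ := conj_pow

theorem disj (ho : orderOf a = 2 ^ n) (h1 : 1 ≤ n) (hm : x * zz a n ≠ zz a n * x) :
    zpowers a ⊓ zpowers (x * a * x⁻¹) = ⊥ := by
  by_contra hne
  have o' : orderOf (x * a * x⁻¹) = 2 ^ n := (BsA.ord_cj x a).trans ho
  have m := (zz_mem o' inf_le_right hne).1
  have m2 := zz_mem ho (zpowers_le.2 m) fun e => zz_ne o' h1 (mem_bot.1 (e.le (mem_zpowers _)))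
  rcases DihA.of_sq (zz2 o' h1) m2 with e | e
  · exact zz_ne ho h1 e
  · rw [zz_cj] at e
    exact hm (comm_of_conj_eq e.symm)

theorem cj_mem {r : G} (hr : r ∈ zpowers a) (g : G) : g * r * g⁻¹ ∈ zpowers (g * a * g⁻¹) := by
  obtain ⟨i, rfl⟩ := mem_zpowers_iff.1 hr
  exact ⟨i, conj_zpow⟩

variable (h : XA S R x s a b n)
include h

theorem one : 1 ≤ n := by have := h.two; omega

theorem dq : DQ (closure {a, b}) a b n :=
  ⟨one h, h.ord, h.inv, fun e => h.b_not (zpowers_le.2 h.a_mem e), rfl, h.sq.imp_right fun e => ⟨h.two, e⟩⟩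

theorem ord' : orderOf (x * a * x⁻¹) = 2 ^ n := (BsA.ord_cj x a).trans h.ord

theorem dA : zpowers a ⊓ zpowers (x * a * x⁻¹) = ⊥ := disj h.ord (one h) h.move

theorem a'R : x * a * x⁻¹ ∈ R := conj_mem_of_norm h.loc.tri.xn h.a_mem

theorem nA : R ≤ normalizer (zpowers a : Set G) := h.loc.le.trans h.na

theorem nA' : R ≤ normalizer (zpowers (x * a * x⁻¹) : Set G) := fun r hr => by
  have e := (BsA.norm_cj (g := x)).2 (nA h (conj_mem_of_norm' h.loc.tri.xn hr))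
  rwa [cj_zpowers, show x * (x⁻¹ * r * x) * x⁻¹ = r by group] at e

theorem cAA : zpowers a ≤ centralizer (zpowers (x * a * x⁻¹) : Set G) :=
  comm_eq_bot_iff.1 (eq_bot_iff.2 ((le_inf (comm_le_left ((zpowers_le.2 (a'R h)).trans (nA h)))
    (comm_le_right ((zpowers_le.2 h.a_mem).trans (nA' h)))).trans (dA h).le))

theorem cm0 {r r' : G} (h1 : r ∈ zpowers a) (h2 : r' ∈ zpowers (x * a * x⁻¹)) : Commute r r' :=
  (mem_cent.1 (cAA h h1) _ h2).symm

theorem inj {r r' : G} (h1 : r ∈ zpowers a) (h2 : r' ∈ zpowers (x * a * x⁻¹)) (e : r * r' = 1) : r = 1 ∧ r' = 1 := by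
  have e1 : r = 1 := mem_bot.1 ((dA h).le (mem_inf.2 ⟨h1, by rw [eq_inv_of_mul_eq_one_left e]; exact inv_mem h2⟩))
  rw [e1, one_mul] at e
  exact ⟨e1, e⟩

theorem mem_sup {u : G} (hu : u ∈ zpowers a ⊔ zpowers (x * a * x⁻¹)) :
    ∃ r ∈ zpowers a, ∃ r' ∈ zpowers (x * a * x⁻¹), r * r' = u :=
  (mem_sup_norm ((zpowers_le.2 (a'R h)).trans (nA h))).1 hu

theorem cm1 {u w : G} (hu : u ∈ zpowers a ⊔ zpowers (x * a * x⁻¹)) (hw : w ∈ zpowers a ⊔ zpowers (x * a * x⁻¹)) :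
    Commute u w := by
  obtain ⟨p, hp, p', hp', rfl⟩ := mem_sup h hu
  obtain ⟨q, hq, q', hq', rfl⟩ := mem_sup h hw
  exact Commute.mul_left (Commute.mul_right (DihA.cA hp hq) (cm0 h hp hq'))
    (Commute.mul_right (cm0 h hq hp').symm (DihA.cA hp' hq'))

theorem sb : s⁻¹ * b ∈ R := by
  have e := mul_mem (inv_mem h.loc.tri.ss) ((h.loc.ix b h.b_mem).resolve_left h.b_not)
  rwa [show (s * s)⁻¹ * (s * b) = s⁻¹ * b by group] at e

theorem cb (hy : y ∈ S) : ⁅b, y⁆ ∈ zpowers a := TriA.cinv.1 (h.comm y hy)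

theorem T_le : supp R x ≤ zpowers a ⊔ zpowers (x * a * x⁻¹) :=
  h.loc.tri.lemN (sb h) (norm_sup (nA h) (nA' h)) (fun r hr => mem_sup_left (cb h (h.loc.le hr))) fun r hr => by
    have e := cj_mem (cb h (h.loc.le (conj_mem_of_norm' h.loc.tri.xn hr))) x
    rw [conjugate_commutatorElement, show x * (x⁻¹ * r * x) * x⁻¹ = r by group] at e
    exact mem_sup_right e

theorem cm {u w : G} (hu : u ∈ supp R x) (hw : w ∈ supp R x) : Commute u w := cm1 h (T_le h hu) (T_le h hw)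

theorem ab : supp R x ≤ centralizer (supp R x : Set G) := fun _ hu => mem_cent.2 fun _ hw => cm h hw hu

theorem dT : supp R x ⊓ fix R x = ⊥ :=
  eq_bot_iff.2 (h.loc.tri.od.fix_le_comm.trans (comm_eq_bot_iff.2 (ab h)).le)

theorem TR : supp R x ≤ R := supp_le h.loc.tri.xn

theorem fx {u : G} (hu : u ∈ supp R x) (e : x * u = u * x) : u = 1 :=
  mem_bot.1 ((dT h).le ⟨hu, mem_fix.2 ⟨TR h hu, e⟩⟩)

theorem pw {u : G} (hu : u ∈ zpowers a ⊔ zpowers (x * a * x⁻¹)) : u ^ 2 ^ n = 1 := by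
  obtain ⟨p, hp, p', hp', rfl⟩ := mem_sup h hu
  obtain ⟨i, rfl⟩ := mem_zpowers_iff.1 hp
  obtain ⟨j, rfl⟩ := mem_zpowers_iff.1 hp'
  rw [(cm0 h hp hp').mul_pow, ← zpow_natCast, ← zpow_natCast, ← zpow_mul, ← zpow_mul, mul_comm i, mul_comm j, zpow_mul,
    zpow_mul, zpow_natCast, zpow_natCast, ← h.ord, pow_orderOf_eq_one, h.ord, ← ord' h, pow_orderOf_eq_one]
  simp

theorem T_eq : supp R x = zpowers a ⊔ zpowers (x * a * x⁻¹) := by
  have ht : ⁅x, a⁆ ∈ supp R x := (comm_mem_supp h.a_mem).1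
  have ht' := conj_mem_of_norm mem_norm_supp ht
  have ne : zz ⁅x, a⁆ n ≠ 1 := fun e => by
    rw [zz, commutatorElement_def, (cm0 h (inv_mem (mem_zpowers a)) (mem_zpowers _)).symm.mul_pow, conj_pow, inv_pow,
      mul_inv_eq_one] at e
    exact h.move (comm_of_conj_eq e)
  have ot : orderOf ⁅x, a⁆ = 2 ^ n := by
    have e := orderOf_eq_prime_pow (p := 2) (n := n - 1) ne
      (by rw [Nat.sub_add_cancel (one h)]; exact pw h (T_le h ht))
    rwa [Nat.sub_add_cancel (one h)] at e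
  have d := disj ot (one h) fun e => ne (fx h (pow_mem ht _) e)
  have c1 := Loc.card_sup_mul_card_inf_of_le_normalizer (H := zpowers ⁅x, a⁆) (K := zpowers (x * ⁅x, a⁆ * x⁻¹))
    (((zpowers_le.2 ht).trans (ab h)).trans ((cent_anti (zpowers_le.2 ht')).trans (cent_le_norm _)))
  have c2 := Loc.card_sup_mul_card_inf_of_le_normalizer (H := zpowers a) (K := zpowers (x * a * x⁻¹))
    ((zpowers_le.2 h.a_mem).trans (nA' h))
  rw [d, card_bot, mul_one, Nat.card_zpowers, Nat.card_zpowers, BsA.ord_cj, ot] at c1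
  rw [dA h, card_bot, mul_one, Nat.card_zpowers, Nat.card_zpowers, BsA.ord_cj, h.ord] at c2
  have c3 := card_le_of_le (sup_le (zpowers_le.2 ht) (zpowers_le.2 ht'))
  exact eq_of_le_of_card_ge (T_le h) (by omega)

theorem AT : zpowers a ≤ supp R x := le_sup_left.trans (T_eq h).ge

theorem A'T : zpowers (x * a * x⁻¹) ≤ supp R x := le_sup_right.trans (T_eq h).ge

theorem aT : a ∈ supp R x := AT h (mem_zpowers a)

theorem a'T : x * a * x⁻¹ ∈ supp R x := A'T h (mem_zpowers _)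

theorem nphi : a ∉ phi (supp R x) := fun e => by
  obtain ⟨W, w1, -⟩ := TriB.sq_hom (ab h)
  obtain ⟨u, hu, e2⟩ := w1 a e
  refine zz_ne h.ord (one h) ?_
  rw [zz, ← e2, ← pow_two, ← pow_mul, ← pow_succ', Nat.sub_add_cancel (one h)]
  exact pw h (T_le h hu)

theorem gen : Nat.card (supp R x) = 4 * Nat.card (phi (supp R x)) ∧
    a * (x * a * x⁻¹) * (x * (x * a * x⁻¹) * x⁻¹) = 1 ∧ x * (x * (x * a * x⁻¹) * x⁻¹) * x⁻¹ = a := by
  have np : ∀ {u}, u ∈ supp R x → ∀ {X : Subgroup G}, X ≤ supp R x → u ∈ normalizer (X : Set G) :=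
    fun hu X b => cent_le_norm _ (cent_anti b (ab h hu))
  have c4 : Nat.card (supp R x) ≤ 4 * Nat.card (phi (supp R x)) := by
    have a1 := TriB.card_ext_le (np (aT h) phi_le) (mem_phi (aT h))
    have a2 := TriB.card_ext_le (np (a'T h) (ext_le.2 ⟨phi_le, aT h⟩)) (le_ext _ _ (mem_phi (a'T h)))
    have a3 := card_le_of_le ((T_le h).trans (sup_le (zpowers_le.2 (le_ext _ _ (self_mem_ext (phi (supp R x)) a)))
      (zpowers_le.2 (self_mem_ext _ (x * a * x⁻¹)))))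
    omega
  obtain ⟨g1, -, g3, -, -, g6⟩ := (h.loc.tri.od.mono (TR h) mem_norm_supp).gen h.loc.tri.od.supp_supp c4 (aT h) (nphi h)
  exact ⟨g1, mem_bot.1 ((comm_eq_bot_iff.2 (ab h)).le g3), g6⟩

/-- The element `s₁` of `s D` in the coset `b T`. -/
theorem ex_s : ∃ s₁, Tri R x s₁ ∧ s₁ ∈ S ∧ b⁻¹ * s₁ ∈ supp R x := by
  obtain ⟨t, ht, d, hd, e⟩ := h.loc.tri.od.decomp (sb h)
  refine ⟨s * d, h.loc.tri.mul_fix hd, mul_mem h.loc.mem (h.loc.le hd.1), ?_⟩
  rw [show b⁻¹ * (s * d) = (d⁻¹ * (s⁻¹ * b))⁻¹ by group, e]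
  have := inv_mem (conj_mem_of_norm' (le_norm_supp hd.1) ht)
  convert this using 1
  group

theorem bT : b ∈ normalizer (supp R x : Set G) := by
  simpa using mul_mem h.loc.tri.s_supp (le_norm_supp (x := x) (sb h))

theorem act {s₁ u : G} (h1 : b⁻¹ * s₁ ∈ supp R x) (hu : u ∈ supp R x) : s₁ * u * s₁⁻¹ = b * u * b⁻¹ := by
  rw [← conj_eq_of_comm (cm h h1 hu).eq]
  nth_rewrite 1 [conj_eq_of_comm (cm h h1 hu).eq]
  group

theorem ba' : b * (x * a * x⁻¹) * b⁻¹ = a * (x * a * x⁻¹) := by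
  obtain ⟨s₁, t, -, h1⟩ := ex_s h
  obtain ⟨-, g1, g2⟩ := gen h
  rw [← act h h1 (a'T h), t.conj_conj h.a_mem, act h h1 (aT h), h.inv, eq_inv_of_mul_eq_one_left g1]
  nth_rewrite 1 [← g2]
  group

theorem bz' : b * (x * zz a n * x⁻¹) * b⁻¹ = zz a n * (x * zz a n * x⁻¹) := by
  rw [← zz_cj, ← zz_cj, ba' h, zz, (cm h (aT h) (a'T h)).mul_pow]

theorem scal {d : G} (hd : d ∈ fix R x) :
    ∃ t : ℕ, ∀ u ∈ supp R x, d * u * d⁻¹ = u ^ (2 * t + 1) := by
  obtain ⟨t, e⟩ := DihA.act_all h.ord (nA h hd.1)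
  refine ⟨t, fun u hu => ?_⟩
  obtain ⟨p, hp, p', hp', rfl⟩ := mem_sup h (T_le h hu)
  rw [(cm0 h hp hp').mul_pow, conj_mul', e p hp]
  obtain ⟨j, rfl⟩ := mem_zpowers_iff.1 hp'
  rw [conj_zpow, conj_pow, ← e _ (zpow_mem (mem_zpowers a) j), conj_conj, conj_conj, (mem_fix.1 hd).2]

section
variable {s₁ : G} (t : Tri R x s₁) (h1 : b⁻¹ * s₁ ∈ supp R x)
include t h1

theorem s_sq : s₁ * s₁ = 1 := by
  refine fx h ?_ t.sx
  have e : b * b ∈ supp R x := h.sq.elim (fun e => e ▸ one_mem _) fun e => e ▸ pow_mem (aT h) _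
  have := mul_mem (mul_mem (conj_mem_of_norm (bT h) h1) e) h1
  convert this using 1
  group

theorem s_d {d : G} (hd : d ∈ fix R x) : s₁ * d = d * s₁ := by
  refine commutatorElement_eq_one_iff_mul_comm.1 (mem_bot.1 ((dT h).le
    (mem_inf.2 ⟨?_, mul_mem (conj_mem_of_norm t.s_fix hd) (inv_mem hd)⟩)))
  have := mul_mem (conj_mem_of_norm (bT h) (mul_mem h1 (conj_mem_of_norm (le_norm_supp hd.1) (inv_mem h1))))
    (AT h (cb h (h.loc.le hd.1)))
  convert this using 1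
  simp only [commutatorElement_def]
  group

theorem cyc (hs : s₁ ∈ S) : ∃ e, fix R x = zpowers e := by
  have s2 := s_sq h t h1
  have np : ∀ {u}, u ∈ supp R x → ∀ {X : Subgroup G}, X ≤ supp R x → u ∈ normalizer (X : Set G) :=
    fun hu X b => cent_le_norm _ (cent_anti b (ab h hu))
  obtain ⟨W, w1, w2⟩ := TriB.sq_hom (ab h)
  have om : ∀ u ∈ supp R x, u * u = 1 → u ∈ phi (supp R x) := fun u hu u2 => by
    obtain ⟨p, hp, p', hp', rfl⟩ := mem_sup h (T_le h hu)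
    obtain ⟨e1, e2⟩ := inj h (mul_mem hp hp) (mul_mem hp' hp') (by
      rw [← u2, ← pow_two, ← pow_two, ← pow_two, (cm0 h hp hp').mul_pow])
    have zp : zz a n ∈ phi (supp R x) := DihA.jj2 (dq h) h.two ▸ mem_phi (pow_mem (aT h) _)
    refine mul_mem ?_ ?_
    · rcases DihA.two_cases (dq h) hp e1 with e | e <;> rw [e]
      exacts [one_mem _, zp]
    · rcases DihA.two_cases ((dq h).cj x) hp' e2 with e | e <;> rw [e]
      exacts [one_mem _, zz_cj x a n ▸ conj_mem_of_norm (norm_phi mem_norm_supp) zp]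
  have w4 : W = 4 := Nat.eq_of_mul_eq_mul_right (Nat.card_pos (α := phi (supp R x)))
    ((w2 _ le_rfl fun u hu _ => hu).symm.trans (gen h).1)
  set T0 := zpowers a ⊔ phi (supp R x) with hT0
  have l0 : T0 ≤ supp R x := sup_le (AT h) phi_le
  have c0 := w2 T0 l0 fun u hu u2 => mem_sup_right (om u hu u2)
  have cs : ∀ u ∈ T0, ⁅s₁, u⁆ ∈ phi T0 := fun u hu => by
    obtain ⟨p, hp, w, hw, rfl⟩ := (mem_sup_norm (fun _ hw => np (phi_le hw) (AT h))).1 hu
    obtain ⟨v, hv, rfl⟩ := w1 w hw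
    have e1 : b * p * b⁻¹ = p⁻¹ := inverts_zpowers h.inv hp
    have hc := cb h (h.loc.le (TR h hv))
    have e2 : b * v * b⁻¹ = ⁅b, v⁆ * v := by simp [commutatorElement_def]
    have e3 : ⁅s₁, p * (v * v)⁆ = p⁻¹ * p⁻¹ * (⁅b, v⁆ * ⁅b, v⁆) := by
      rw [commutatorElement_def, act h h1 (l0 hu), conj_mul', conj_mul', e1, e2]
      generalize ⁅b, v⁆ = c at hc
      have k1 := (cm h (AT h hc) hv).eq
      have k2 := (cm h (mul_mem (AT h hc) (AT h hc)) (inv_mem (AT h hp))).eq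
      calc p⁻¹ * (c * v * (c * v)) * (p * (v * v))⁻¹ = p⁻¹ * (c * (v * c) * v) * (p * (v * v))⁻¹ := by group
        _ = p⁻¹ * (c * c * p⁻¹) := by rw [← k1]; group
        _ = _ := by rw [k2]; group
    rw [e3]
    exact mul_mem (mem_phi (inv_mem (mem_sup_left hp))) (mem_phi (mem_sup_left hc))
  have sn : s₁ ∈ normalizer (phi T0 : Set G) := norm_phi (BsA.norm_of_comm fun u hu => phi_le (cs u hu))
  have mE : ∀ {k}, k ∈ ext (fix R x) s₁ ↔ k ∈ fix R x ∨ s₁ * k ∈ fix R x := mem_ext t.s_fix (s2 ▸ one_mem _)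
  have cd : ∀ d ∈ fix R x, ∀ u ∈ T0, ⁅d, u⁆ ∈ phi T0 := fun d hd u hu => by
    obtain ⟨k, e⟩ := scal h hd
    rw [commutatorElement_def, e u (l0 hu), pow_succ, mul_inv_cancel_right, two_mul, pow_add]
    exact mem_phi (pow_mem hu k)
  have DS : fix R x ≤ S := inf_le_left.trans h.loc.le
  have r4 : Rk 4 (ext (fix R x) s₁) := by
    refine h.loc.r4.four (l0.trans ((TR h).trans h.loc.le)) phi_le (fun _ => mem_phi) (w4 ▸ c0) (ext_le.2 ⟨DS, hs⟩)
      (eq_bot_iff.2 fun k hk => ?_) fun u hu k hk => ?_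
    · rcases mE.1 hk.2 with e | e
      · exact (dT h).le ⟨l0 hk.1, e⟩
      · exact absurd ((mul_mem_cancel_right (TR h (l0 hk.1))).1 e.1) t.s_not
    · rcases mE.1 hk with e | e
      · exact cd k e u hu
      · have := mul_mem (conj_mem_of_norm sn (cd _ e u hu)) (cs u hu)
        convert this using 1
        simp only [commutatorElement_def, mul_inv_rev, inv_of_sq s2, mul_assoc, sq_cancel s2, inv_mul_cancel_left]
  have c1 := r4 (phi (fix R x)) _ (phi_le.trans (le_ext _ _)) le_rfl fun k hk => by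
    rcases mE.1 hk with e | e
    · exact mem_phi e
    · have := mem_phi e
      rwa [mul_assoc, ← mul_assoc k, ← mul_assoc s₁, ← mul_assoc s₁, ← s_d h t h1 e, sq_cancel s2] at this
  rw [card_ext t.s_fix (s2 ▸ one_mem _) fun e => t.s_not e.1] at c1
  have pD : IsPGroup 2 (fix R x) := t.two.to_le inf_le_left
  by_cases hD : fix R x = ⊥
  · exact ⟨1, by rw [hD, zpowers_one_eq_bot]⟩
  obtain ⟨e, he, ne⟩ := TriB.exists_nphi pD hD
  have c2 := card_ext (norm_phi (le_normalizer he)) (mem_phi he) ne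
  have e1 : ext (phi (fix R x)) e = fix R x := eq_of_le_of_card_ge (ext_le.2 ⟨phi_le, he⟩) (by omega)
  exact ⟨e, le_antisymm (le_of_sup_phi pD (zpowers_le.2 he)
    (e1.ge.trans (ext_le.2 ⟨le_sup_right, mem_sup_left (mem_zpowers e)⟩))) (zpowers_le.2 he)⟩

end

end XAa

namespace XA
open XAa
variable (h : XA S R x s a b n)
include h

theorem hom : Hom (supp R x) x a n ∧ supp R x ⊓ fix R x = ⊥ :=
  ⟨⟨h.ord, by rw [T_eq h, zpowers_eq_closure, zpowers_eq_closure, ← Subgroup.closure_union]; rfl, cm h (aT h) (a'T h), dA h,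
    (gen h).2.1⟩, dT h⟩

theorem root : ∃ c₀ ∈ supp R x, c₀ * c₀ = zz a n ∧ c₀ * b = b * c₀ ∧ c₀ * a = a * c₀ := by
  have hj : jj a n ∈ supp R x := pow_mem (aT h) _
  have hz : x * zz a n * x⁻¹ ∈ supp R x := conj_mem_of_norm mem_norm_supp (pow_mem (aT h) _)
  obtain ⟨j1, j2, -⟩ := (dq h).jj_sq h.two
  refine ⟨jj a n * (x * zz a n * x⁻¹), mul_mem hj hz, ?_, (comm_of_conj_eq ?_).symm, cm h (mul_mem hj hz) (aT h)⟩
  · rw [← pow_two, (cm h hj hz).mul_pow, pow_two, pow_two, j1, ← conj_mul', zz2 h.ord (one h)]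
    simp
  · rw [conj_mul', j2, bz' h, ← mul_assoc, ← mul_assoc, ← mul_assoc]
    nth_rewrite 1 [← j1]
    group

/-- Involutions of the support are conjugate to `z`. -/
theorem conj_z (hv : v ∈ supp R x) (h1 : v ≠ 1) (h2 : v * v = 1) : IsConj v (zz a n) := by
  obtain ⟨p, hp, p', hp', rfl⟩ := XAa.mem_sup h (T_le h hv)
  obtain ⟨e1, e2⟩ := inj h (mul_mem hp hp) (mul_mem hp' hp') (by
    rw [← h2, ← pow_two, ← pow_two, ← pow_two, (cm0 h hp hp').mul_pow])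
  rcases DihA.two_cases (dq h) hp e1 with rfl | rfl <;> rcases DihA.two_cases ((dq h).cj x) hp' e2 with rfl | rfl
  · simp at h1
  · rw [one_mul, zz_cj]
    exact (isConj_iff.2 ⟨x, rfl⟩).symm
  · rw [mul_one]
  · rw [zz_cj, ← bz' h, conj_conj]
    exact (isConj_iff.2 ⟨_, rfl⟩).symm

theorem letters : ∃ (s₁ e : G) (k : ℕ), s₁ ∈ S ∧ b⁻¹ * s₁ ∈ supp R x ∧ s₁ * s₁ = 1 ∧ fix R x = zpowers e ∧
    s₁ * e = e * s₁ ∧ s₁ * a * s₁⁻¹ = a⁻¹ ∧ s₁ * (x * a * x⁻¹) * s₁⁻¹ = a * (x * a * x⁻¹) ∧ e * a * e⁻¹ = a ^ k ∧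
    e * (x * a * x⁻¹) * e⁻¹ = (x * a * x⁻¹) ^ k := by
  obtain ⟨s₁, t, hs, h1⟩ := ex_s h
  obtain ⟨e, he⟩ := cyc h t h1 hs
  have hd : e ∈ fix R x := he.ge (mem_zpowers e)
  obtain ⟨k, hk⟩ := scal h hd
  exact ⟨s₁, e, 2 * k + 1, hs, h1, s_sq h t h1, he, s_d h t h1 hd, (act h h1 (aT h)).trans h.inv,
    (act h h1 (a'T h)).trans (ba' h), hk _ (aT h), hk _ (a'T h)⟩

end XA

end Cfsg.Agent.GHK
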