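import Mathlib
import Cfsg.Agent.GHK.Defs3
import Cfsg.Agent.GHK.DihB
import Cfsg.Agent.GHK.Gam

/-! Comparison of groups of type X. See `stubs/Cfsg/Agent/GHK/PLAN2.md`. -/

set_option autoImplicit false
set_option linter.unusedSectionVars false

namespace Cfsg.Agent.GHK

open Cfsg.Agent.Inv.Fz Cfsg.Agent.NE Subgroup
open scoped commutatorElement

variable {G : Type*} [Group G] [Finite G] {S R K N Θ Θ' H : Subgroup G} {x s g v a b a' b' y : G} {n n' : ℕ}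

namespace XCmp

open DihA

theorem pair_congr {u u' w : G} (e : zpowers u' = zpowers u) : closure {u', w} = closure {u, w} := by
  rw [Set.insert_eq, Set.insert_eq u, Subgroup.closure_union, Subgroup.closure_union, ← zpowers_eq_closure,
    ← zpowers_eq_closure u, e]

theorem l1 (u w : G) : u ∈ closure {u, w} := subset_closure (by simp)
theorem l2 (u w : G) : w ∈ closure {u, w} := subset_closure (by simp)

theorem pair_le {u w : G} (hu : u ∈ K) (hw : w ∈ K) : closure {u, w} ≤ K :=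
  (closure_le _).2 (Set.insert_subset hu (Set.singleton_subset_iff.2 hw))

theorem cz_le : Cz g K ↔ K ≤ centralizer {g} :=
  forall₂_congr fun _ _ => eq_comm.trans mem_centralizer_singleton_iff.symm

theorem cz_pair {u w : G} (hu : g * u = u * g) (hw : g * w = w * g) : Cz g (closure {u, w}) :=
  cz_le.2 (pair_le (mem_centralizer_singleton_iff.2 hu.symm) (mem_centralizer_singleton_iff.2 hw.symm))

theorem one_of {u w : G} (h : u * w = w * u) : ⁅u, w⁆ = 1 := commutatorElement_eq_one_iff_mul_comm.2 h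
theorem of_one {u w : G} (h : ⁅u, w⁆ = 1) : u * w = w * u := commutatorElement_eq_one_iff_mul_comm.1 h

theorem xt_regen (h : XT S Θ a b) (q : DQ Θ a b n) (e : zpowers a' = zpowers a) : XT S Θ a' b := by
  obtain ⟨g, hg, eg⟩ := h.swap
  obtain ⟨i, hi⟩ := e.le (mem_zpowers a')
  exact ⟨h.le, h.norm, e ▸ h.na, hi ▸ q.orbit h.le hg eg i⟩

theorem regen (h : XG S Θ a b n) (e : zpowers a' = zpowers a) : XG S Θ a' b n := by
  obtain ⟨q, e1, e2⟩ := h.gd.dq.regen e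
  refine ⟨?_, xt_regen h.xt h.gd.dq e⟩
  obtain ⟨R, x, s, k | k⟩ := h.gd
  · exact ⟨R, x, s, .inl ⟨k.t2, k.four, q, k.sq, e1 ▸ k.eq⟩⟩
  · exact ⟨R, x, s, .inr ⟨k.t2, k.q8, q, k.two, e1 ▸ k.sq, k.eq.trans (pair_congr e2).symm⟩⟩

theorem xg_cj (h : XG S Θ a b n) (hg : g ∈ normalizer (S : Set G)) :
    XG S (cj g Θ) (g * a * g⁻¹) (g * b * g⁻¹) n := by
  obtain ⟨R, x, s, k⟩ := h.gd
  exact ⟨⟨_, _, _, k.imp (·.cj hg) (·.cj hg)⟩, h.xt.cj hg⟩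

theorem shift (h : XG S Θ a b n) (i : ℤ) : XG S Θ a (b * a ^ i) n := by
  obtain ⟨g, hg, eg⟩ := h.xt.swap
  obtain ⟨w, hw, e⟩ := h.gd.dq.orbit h.xt.le hg eg i
  have := xg_cj h (le_normalizer hw)
  rw [cj_eq_iff.2 (h.xt.norm hw), e] at this
  exact regen this (by rw [← cj_zpowers, cj_eq_iff.2 (h.xt.na hw)])

theorem xd_of (h : XG S Θ a b n) (e : b * b = 1) : ∃ R x s, XD S R x s Θ a b n := by
  obtain ⟨R, x, s, k | k⟩ := h.gd
  · exact ⟨R, x, s, k, h.xt⟩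
  · exact absurd (k.sq.symm.trans e) k.dq.zz_ne.1

theorem tq_of (h : XG S Θ a b n) (e : b * b ≠ 1) : ∃ R x s, TQ S R x s Θ a b n := by
  obtain ⟨R, x, s, k | k⟩ := h.gd
  · exact absurd k.sq e
  · exact ⟨R, x, s, k⟩

theorem bS (h : XG S Θ a b n) : b ∈ S := h.xt.le (bm h.gd.dq)
theorem zc (h : XG S Θ a b n) : Cz (zz a n) S := (h.xt.comm h.gd.dq (one_mem S)).2
theorem cm (h : XG S Θ a b n) (hg : g ∈ S) : ⁅g, b⁆ ∈ zpowers a := (h.xt.comm h.gd.dq hg).1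

theorem le_of_mem (h : XG S Θ a b n) (hK : S ≤ normalizer (K : Set G)) :
    Θ ⊓ K ≤ zpowers a ∨ Θ ≤ K := by
  obtain ⟨g, hg, eg⟩ := h.xt.swap
  exact (h.gd.dq.normal_cases h.xt.le hg eg inf_le_left
    ((le_inf h.xt.norm hK).trans inf_normalizer_le_normalizer_inf)).imp_right inf_eq_left.1

theorem eq_of_mem (h : XG S Θ a b n) (h' : XG S Θ' a' b' n') (m : b ∈ Θ') (m' : b' ∈ Θ) : Θ' = Θ :=
  le_antisymm ((le_of_mem h' h.xt.norm).resolve_left fun l => h'.gd.dq.not_mem (l ⟨bm h'.gd.dq, m'⟩))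
    ((le_of_mem h h'.xt.norm).resolve_left fun l => h.gd.dq.not_mem (l ⟨bm h.gd.dq, m⟩))

theorem comm_mem (hg : g ∈ K) (hb : b ∈ normalizer (K : Set G)) : ⁅g, b⁆ ∈ K := by
  rw [commutatorElement_def, mul_assoc, mul_assoc, ← mul_assoc b]
  exact mul_mem hg ((conj_mem_norm hb).2 (inv_mem hg))

theorem cz_dq (q : DQ Θ a b n) (ho : Od Θ g) (e : g * a = a * g) : Cz g Θ := by
  have c : Cz g (zpowers a) := fun r hr => comm_zpowers e hr
  exact ho.cz_of_chain (aL q) c fun r hr => supp_le_idx ho.xn (aL q) (centralizer_le_normalizer _ (TriA.cz_iff.1 c))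
    (fun u hu w hw => Ix.mul_mem (s := b⁻¹) (fun _ hy => q.mem.1 hy) hu hw) (comm_mem_supp hr).1

variable (hS : IsSylIn 2 S ⊤) (h4 : Rk 16 S)
include hS h4

theorem no_root (h : XG S Θ a b n) (e : b * b = 1) (i : ℤ) :
    ∀ r ∈ S, r * r = zz a n → r * (b * a ^ i) ≠ b * a ^ i * r := by
  obtain ⟨R, x, s, k⟩ := xd_of (shift h i) ((h.gd.dq.shift i).2.trans e)
  exact k.td.no_root hS.isPGroup h4

theorem no_root0 (h : XG S Θ a b n) (e : b * b = 1) : ∀ r ∈ S, r * r = zz a n → r * b ≠ b * r := by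
  simpa using no_root hS h4 h e 0

theorem dd_le {R' : Subgroup G} {x' s' : G} (h : XD S R x s Θ a b n) (h' : XD S R' x' s' Θ' a' b' n')
    (e : zz a' n' = zz a n) (c : b' * b = b * b') : R ≤ R' := fun r hr => by
  have g1 := h.td.t2.gd hS.isPGroup h4 h.td.four
  have g2 := h'.td.t2.gd hS.isPGroup h4 h'.td.four
  have m : b' ∈ R := g1.cen _ (bS h'.xg) (h.td.eq ▸ cz_pair (zc h.xg _ (bS h'.xg)).symm c)
  exact g2.cen r (g1.le hr) (h'.td.eq ▸ cz_pair (zc h'.xg _ (g1.le hr)).symm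
    (g1.cz_of_comm h'.td.dq.ord h'.td.dq.pos (e ▸ h.td.eq ▸ l1 _ _) hr m (cm h'.xg (g1.le hr))))

theorem dd (h : XG S Θ a b n) (h' : XG S Θ' a' b' n') (q : b * b = 1) (q' : b' * b' = 1)
    (e : zz a' n' = zz a n) (c : b' * b = b * b') : Θ' = Θ := by
  obtain ⟨R, x, s, k⟩ := xd_of h q
  obtain ⟨R', x', s', k'⟩ := xd_of h' q'
  obtain rfl : R = R' := le_antisymm (dd_le hS h4 k k' e c) (dd_le hS h4 k' k e.symm c.symm)
  have z1 : zz a n ∈ supp R x := k.td.eq ▸ l1 _ _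
  have := k.td.t2.gam_good hS (h4.mono k.td.t2.crit.le) k'.td.t2 (.inl k.td.four) (.inl k'.td.four) z1
    (e ▸ k'.td.eq ▸ l1 _ _) fun m => k.td.dq.zz_ne.1
      ((k.td.t2.tri.four_disj k.td.four).le ⟨z1, k.td.t2.tri.four_phi k.td.four m⟩)
  rw [k.td.eq, k'.td.eq] at this
  exact eq_of_mem h h' (pair_le (aL k'.td.dq (pow_mem (mem_zpowers _) _)) (bm k'.td.dq) (this.le (l2 _ _)))
    (pair_le (aL k.td.dq (pow_mem (mem_zpowers _) _)) (bm k.td.dq) (this.ge (l2 _ _)))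

/-- The commutator of a root with `b`. -/
theorem root_comm (h : XG S Θ a b n) (q : b * b = 1) (hv : v ∈ S) (v2 : v * v = zz a n)
    (hc : n = 1 ∨ ⁅v, b⁆ ∈ phi Θ) : ⁅v, b⁆ = zz a n := by
  have d := h.gd.dq
  refine (two_cases d (cm h hv) ?_).resolve_left fun e => no_root0 hS h4 h q v hv v2 (of_one e)
  by_cases h2 : 2 ≤ n
  swap
  · obtain rfl : n = 1 := by have := d.pos; omega
    rw [← pow_two]
    exact pw d (cm h hv)
  replace hc := hc.resolve_left (by omega)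
  obtain ⟨t, e⟩ := act_all d.ord (h.xt.na hv)
  rcases Nat.even_or_odd t with ht | ht
  · have e1 := sq_comm d e (cm h hv)
    rw [v2, one_of (zc h b (bS h))] at e1
    have e2 := odd_gen (pw d (mul_mem (cm h hv) (cm h hv))) ht.add_one
    rwa [← e1, zpowers_one_eq_bot] at e2
  · obtain ⟨i, hi⟩ := d.exists_fix h2 (h.xt.na hv) (by rw [e _ (jA d), (j_pow d h2 t).2 ht]) hc
    exact absurd hi (no_root hS h4 h q i v hv v2)

theorem no_quat (h : XG S Θ a b n) (q : b * b = 1) (h' : XG S Θ' a' b' n') (q' : b' * b' ≠ 1)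
    (e : zz a' n' = zz a n) (hc : n = 1 ∨ Θ' ≤ cls Θ b) : False := by
  obtain ⟨R, x, s, k⟩ := tq_of h' q'
  have jm := aL k.dq (jA k.dq)
  have r : ∀ v ∈ Θ', v * v = zz a' n' → ⁅v, b⁆ = zz a n := fun v hv v2 =>
    root_comm hS h4 h q (h'.xt.le hv) (v2.trans e)
      (hc.imp_right fun l => (mem_cls (h.xt.norm (h'.xt.le hv))).1 (l hv))
  have := r _ (mul_mem jm (bm k.dq)) ((sq_out k.dq (mul_mem jm (bm k.dq))
    (mt (mul_mem_cancel_left (jA k.dq)).1 k.dq.not_mem)).trans k.sq)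
  rw [commutatorElement_mul_left_eq_conj_mul, r _ jm (jj2 k.dq k.two), r _ (bm k.dq) k.sq,
    conj_eq_of_comm (zc h _ (h'.xt.le jm)).symm, h.gd.dq.zz_ne.2.1] at this
  exact h.gd.dq.zz_ne.1 this.symm

theorem cmpD (h : XG S Θ a b n) (q : b * b = 1) (h' : XG S Θ' a' b' n') (e : zz a' n' = zz a n)
    (hle : Θ' ≤ cls Θ b) : Θ' = Θ := by
  by_cases q' : b' * b' = 1
  · obtain ⟨i, hi⟩ := h.gd.dq.exists_comm h.xt.le (bS h') q' (h.xt.na (bS h'))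
      ((mem_cls (h.xt.norm (bS h'))).1 (hle (bm h'.gd.dq))) (no_root0 hS h4 h q)
    exact dd hS h4 (shift h i) h' ((h.gd.dq.shift i).2.trans q) q' e hi
  · exact (no_quat hS h4 h q h' q' e (.inr hle)).elim

theorem cmp1 (h : XG S Θ a b n) (q : b * b = 1) (h' : XG S Θ' a' b' n') (e : zz a' n' = zz a n) :
    Θ' = Θ ∨ (n' = n ∧ zpowers a' = zpowers a ∧ ⁅b', b⁆ ∉ phi Θ) := by
  have d := h.gd.dq
  have d' := h'.gd.dq
  by_cases hle : Θ' ≤ cls Θ b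
  · exact .inl (cmpD hS h4 h q h' e hle)
  obtain ⟨g, hg, gn⟩ := SetLike.not_le_iff_exists.1 hle
  have gS := h'.xt.le hg
  rw [mem_cls (h.xt.norm gS)] at gn
  have l1 : zpowers a ≤ Θ' := d.gen_of_not (cm h gS) gn ▸ zpowers_le.2 (comm_mem hg (h'.xt.norm (bS h)))
  have l2 : Θ' ⊓ Θ ≤ zpowers a' := (le_of_mem h' h.xt.norm).resolve_right fun l => hle (l.trans d.le_cls)
  have l3 : zpowers a ≤ zpowers a' := (le_inf l1 (aL d)).trans l2
  by_cases m : a ∈ phi Θ'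
  swap
  · have e1 := (d'.gen_of_not (l3 (mem_zpowers a)) m).symm
    refine .inr ⟨Nat.pow_right_injective le_rfl ?_, e1, fun c => hle ?_⟩
    · change 2 ^ n' = 2 ^ n
      rw [← d.ord, ← d'.ord, ← Nat.card_zpowers, ← Nat.card_zpowers, e1]
    · exact d'.eq ▸ pair_le (d.le_cls (aL d (e1.le (mem_zpowers _)))) ((mem_cls (h.xt.norm (bS h'))).2 c)
  have l4 : Θ ⊓ Θ' ≤ zpowers a := (le_of_mem h h'.xt.norm).resolve_right fun l => d.not_mem (by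
    rcases two_cases d' (l2 ⟨l (bm d), bm d⟩) q with e1 | e1 <;> rw [e1]
    exacts [one_mem _, e ▸ pow_mem (mem_zpowers a) _])
  have c : ⁅b, b'⁆ ∈ phi Θ' := zpowers_le.2 m (l4 ⟨comm_mem (bm d) (h.xt.norm (bS h')), aL d' (cm h' (bS h))⟩)
  by_cases q' : b' * b' = 1
  · exact .inl (cmpD hS h4 h' q' h e.symm (d.eq ▸ pair_le (d'.le_cls (l1 (mem_zpowers a)))
      ((mem_cls (h'.xt.norm (bS h))).2 c))).symm
  by_cases h2 : 2 ≤ n
  swap
  · exact (no_quat hS h4 h q h' q' e (.inl (by have := d.pos; omega))).elim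
  obtain ⟨R, x, s, k⟩ := tq_of h' q'
  obtain ⟨t, et⟩ := act_all d'.ord (h'.xt.na (bS h))
  have ht : Odd t := Nat.not_even_iff_odd.1 fun ev => j_ne d h2 (by
    rw [← (d.jj_sq h2).2.1, et _ (l3 (jA d)), (j_pow d h2 t).1 ev])
  obtain ⟨i, hi⟩ := d'.exists_fix k.two (h'.xt.na (bS h)) (by rw [et _ (jA d'), (j_pow d' k.two t).2 ht]) c
  exact absurd hi.symm (no_root0 hS h4 h q _ (bS (shift h' i)) ((d'.shift i).2.trans (k.sq.trans e)))

omit h4 hS in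
theorem phi_cz (h : TQ S R x s Θ a b n) (t : XT S Θ a b) : phi R ≤ centralizer {b} := phi_le_iff.2 fun r hr => by
  have xg : XG S Θ a b n := ⟨⟨_, _, _, .inr h⟩, t⟩
  obtain ⟨u, hu, d, hd, rfl⟩ := h.t2.tri.od.decomp hr
  have c := (h.t2.tri.q8_fix h.q8 hd.1).1 hd
  have bV : b ∈ supp R x := h.eq ▸ l2 _ _
  have q := h.q8.qz_of (h.sq ▸ mul_mem bV bV) h.dq.zz_ne.1 h.dq.zz_ne.2.1
  rw [mul_assoc, ← mul_assoc d, c u hu, mul_assoc, ← mul_assoc]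
  have m := mem_centralizer_singleton_iff.2 (c b bV)
  exact mul_mem (zpowers_le.2 (mem_centralizer_singleton_iff.2 (zc xg b (bS xg))) (q.sq_mem hu)) (mul_mem m m)

omit h4 in
theorem qq_le {R' : Subgroup G} {x' s' : G} (h : TQ S R x s Θ a b n) (t : XT S Θ a b) (h' : TQ S R' x' s' Θ' a b' n)
    (t' : XT S Θ' a b') (c : b' * b = b * b') : R ≤ R' := fun r hr => by
  have xg' : XG S Θ' a b' n := ⟨⟨_, _, _, .inr h'⟩, t'⟩
  have rS := h.t2.crit.le hr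
  have m : b' ∈ R := (h.mem_iff hS.isPGroup (bS xg')).2 ⟨TriA.cinv.1 ((h'.dq.jj_sq h'.two).2.2 ▸ mem_zpowers _),
    one_of c ▸ one_mem _⟩
  refine (h'.mem_iff hS.isPGroup rS).2 ⟨((h.mem_iff hS.isPGroup rS).1 hr).1, ?_⟩
  have k := cm xg' rS
  rcases two_cases h.dq k ((comm_b h.dq k).symm.trans
    (one_of (mem_centralizer_singleton_iff.1 (phi_cz h t (comm_mem_phi hr m))))) with e | e <;> rw [e]
  exacts [one_mem _, mem_zpowers _]

theorem cmp2 (h : XG S Θ a b n) (h' : XG S Θ' a b' n) : Θ' = Θ ∨ ⁅b', b⁆ ∉ phi Θ := by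
  refine or_iff_not_imp_right.2 fun c => ?_
  rw [not_not] at c
  have d := h.gd.dq
  have d' := h'.gd.dq
  by_cases q : b * b = 1
  · exact cmpD hS h4 h q h' rfl (d'.eq ▸ pair_le (d.le_cls (BsA.am d)) ((mem_cls (h.xt.norm (bS h'))).2 c))
  obtain ⟨h2, q2⟩ := d.sq.resolve_left q
  obtain ⟨i, hi⟩ := d.exists_fix h2 (h.xt.na (bS h')) (d'.jj_sq h2).2.1 c
  have h1 := shift h i
  have q1 := (d.shift i).2
  by_cases q' : b' * b' = 1
  · exact absurd hi.symm (no_root0 hS h4 h' q' _ (bS h1) (q1.trans q2))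
  obtain ⟨R, x, s, k⟩ := tq_of h1 (q1 ▸ q)
  obtain ⟨R', x', s', k'⟩ := tq_of h' q'
  obtain rfl : R = R' := le_antisymm (qq_le hS k h1.xt k' h'.xt hi) (qq_le hS k' h'.xt k h1.xt hi.symm)
  have := k.t2.gam_good hS (h4.mono k.t2.crit.le) k'.t2 (.inr k.q8) (.inr k'.q8) (k.eq ▸ l1 _ _) (k'.eq ▸ l1 _ _)
    fun m => d.zz_ne.1 ((d'.jj_sq h2).2.2.symm.trans
      (one_of (mem_centralizer_singleton_iff.1 (phi_cz k' h'.xt m))))
  rw [k.eq, k'.eq] at this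
  exact eq_of_mem h1 h' (pair_le (aL d' (jA d')) (bm d') (this.le (l2 _ _)))
    (pair_le (aL d (jA d)) (bm k.dq) (this.ge (l2 _ _)))

theorem tri {Θ₂ Θ₃ : Subgroup G} {a₂ a₃ b₂ b₃ : G} (h : XG S Θ a b n) (q : b * b = 1) (h₂ : XG S Θ₂ a₂ b₂ n)
    (h₃ : XG S Θ₃ a₃ b₃ n) (e₂ : zpowers a₂ = zpowers a) (e₃ : zpowers a₃ = zpowers a) (c₁ : ⁅b₂, b⁆ ∉ phi Θ)
    (c₂ : ⁅b₃, b⁆ ∉ phi Θ) (c₃ : ⁅b₃, b₂⁆ ∉ phi Θ₂) : False := by
  replace h₂ := regen h₂ e₂.symm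
  replace h₃ := regen h₃ e₃.symm
  have d := h.gd.dq
  have d₂ := h₂.gd.dq
  have d₃ := h₃.gd.dq
  obtain ⟨rfl, e1, e2⟩ := three d.ord d.inv d₂.inv d₃.inv (d.phi_eq.le (mem_phi (bm d)))
    (d₂.phi_eq.le (mem_phi (bm d₂))) (d₃.phi_eq.le (mem_phi (bm d₃))) ⟨cm h (bS h₂), d.phi_eq ▸ c₁⟩
    ⟨cm h (bS h₃), d.phi_eq ▸ c₂⟩ ⟨cm h₂ (bS h₃), d₂.phi_eq ▸ c₃⟩
  exact no_root0 hS h4 h q _ (mul_mem (mul_mem (bS h) (bS h₂)) (bS h₃)) (e1.trans (pow_one a).symm) e2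

theorem xd_norm (h : XG S Θ a b n) (q : b * b = 1) (hg : g ∈ normalizer (S : Set G)) (ho : Odd (orderOf g))
    (hz : g * zz a n = zz a n * g) : Cz g Θ := by
  have o := od_of_odd hS.isPGroup hg ho
  have d := h.gd.dq
  have zz1 : ∀ w : G, w * zz a n = zz a n * w → zz (w * a * w⁻¹) n = zz a n := fun w e => by
    rw [zz, conj_pow, conj_eq_of_comm e]
  have gn : g ∈ normalizer (Θ : Set G) := by
    by_contra gn
    have hz2 : g * g * zz a n = zz a n * (g * g) := Commute.mul_left hz hz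
    have h1 := xg_cj h hg
    have h2 := xg_cj h (mul_mem hg hg)
    obtain ⟨-, e1, c1⟩ := (cmp1 hS h4 h q h1 (zz1 g hz)).resolve_left (mt cj_eq_iff.1 gn)
    obtain ⟨-, e2, c2⟩ := (cmp1 hS h4 h q h2 (zz1 _ hz2)).resolve_left fun e =>
      gn (o.norm_of_sq h.xt.le (cj_eq_iff.1 e))
    obtain ⟨-, -, c3⟩ := (cmp1 hS h4 h1 (Rec.conj_sq q) h2 ((zz1 _ hz2).trans (zz1 g hz).symm)).resolve_left fun e =>
      gn (cj_eq_iff.1 (cj_inj.1 ((cj_cj g g Θ).trans e)))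
    exact tri hS h4 h q h1 h2 e1 e2 c1 c2 c3
  refine cz_dq d (o.mono h.xt.le gn) ?_
  by_cases h2 : 2 ≤ n
  · exact o.cz_cyclic (h.xt.le (BsA.am d)) (d.norm_a (.inr ⟨h2, q⟩) gn)
  · obtain rfl : n = 1 := by have := d.pos; omega
    simpa [zz] using hz

omit hS h4 in
theorem xh_mx (h : XH S R x s Θ a b n Θ' a' b') : Mx (Θ ⊔ Θ') (b * b') b (n + 1) ∧ zz (b * b') (n + 1) = zz a n ∧
    Θ ⊔ Θ' ≤ S ∧ S ≤ normalizer ((Θ ⊔ Θ' : Subgroup G) : Set G) :=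
  let ⟨_, e, m, _⟩ := h.td.dq.double h.gd.dq h.eq (cm h.toXD.xg (bS h.xg')) h.swap
  ⟨m, e, sup_le h.xt.le h.xt'.le, (le_inf h.xt.norm h.xt'.norm).trans (normalizer_inf_normalizer_le_normalizer_sup _ _)⟩

end XCmp

namespace Ctx
variable (c : Ctx G)

open XCmp DihA

theorem cmpD (h : XD c.S R x s Θ a b n) (h' : XG c.S Θ' a' b' n') (e : zz a' n' = zz a n) (hle : Θ' ≤ cls Θ b) :
    Θ' = Θ := XCmp.cmpD c.syl c.r4 h.xg h.td.sq h' e hle

theorem cmp1 (h : XD c.S R x s Θ a b n) (h' : XG c.S Θ' a' b' n') (e : zz a' n' = zz a n) :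
    Θ' = Θ ∨ (n' = n ∧ zpowers a' = zpowers a ∧ ⁅b', b⁆ ∉ phi Θ) := XCmp.cmp1 c.syl c.r4 h.xg h.td.sq h' e

theorem cmp2 (h : XG c.S Θ a b n) (h' : XG c.S Θ' a' b' n) (e : zpowers a' = zpowers a) :
    Θ' = Θ ∨ ⁅b', b⁆ ∉ phi Θ := XCmp.cmp2 c.syl c.r4 h (regen h' e.symm)

theorem xd_norm (h : XD c.S R x s Θ a b n) (hg : g ∈ normalizer (c.S : Set G)) (ho : Odd (orderOf g))
    (hz : g * zz a n = zz a n * g) : Cz g Θ := XCmp.xd_norm c.syl c.r4 h.xg h.td.sq hg ho hz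

theorem xh_norm (h : XH c.S R x s Θ a b n Θ' a' b') (hg : g ∈ normalizer (c.S : Set G)) (ho : Odd (orderOf g)) :
    Cz g (Θ ⊔ Θ') := by
  obtain ⟨m, e, l, k⟩ := xh_mx h
  have o := od_of_odd c.pS hg ho
  have c1 := c.xd_norm h.toXD hg ho (e ▸ m.fix_z o c.r4 l k)
  have d := h.td.dq
  have ea : g * a' = a' * g := c1 _ (aL d (h.eq.le (mem_zpowers _)))
  have h1 := xg_cj h.xg' hg
  rw [conj_eq_of_comm ea] at h1
  have gn := (c.cmp2 h.xg' h1 rfl).resolve_right fun c3 => tri c.syl c.r4 h.toXD.xg h.td.sq h.xg' h1 h.eq h.eq h.swap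
    (fun c2 => h.swap ((conj_mem_norm (norm_phi (centralizer_le_normalizer _ (TriA.cz_iff.1 c1)))).1 (by
      rwa [conjugate_commutatorElement, conj_eq_of_comm (c1 b (bm d))]))) c3
  exact cz_le.2 (sup_le (cz_le.1 c1) (cz_le.1 (cz_dq h.gd.dq (o.mono h.xt'.le (cj_eq_iff.1 gn)) ea)))

theorem xh_cases (h : XH c.S R x s Θ a b n Θ' a' b') {Θ₀ : Subgroup G} {a₀ b₀ : G} (h₀ : XG c.S Θ₀ a₀ b₀ n') :
    Θ₀ = Θ ∨ Θ₀ = Θ' ∨ Θ₀ ⊓ (Θ ⊔ Θ') = ⊥ := by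
  obtain ⟨m, e, l, k⟩ := xh_mx h
  by_contra hn
  push Not at hn
  have z := (m.center (h₀.xt.zz_mem h₀.gd.dq c.pS k hn.2.2)).1 fun r hr => zc h₀ r (l hr)
  rw [e] at z
  obtain ⟨rfl, e1, c1⟩ := (c.cmp1 h.toXD h₀ ((of_sq h.td.dq.zz_ne.2.1 z).resolve_left h₀.gd.dq.zz_ne.1)).resolve_left hn.1
  exact tri c.syl c.r4 h.toXD.xg h.td.sq h.xg' h₀ h.eq e1 h.swap c1
    ((c.cmp2 h.xg' h₀ (e1.trans h.eq.symm)).resolve_left hn.2.1)

end Ctx

end Cfsg.Agent.GHK
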