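import Mathlib
import Cfsg.Agent.GHK.Defs3
import Cfsg.Agent.GHK.XCmp
import Cfsg.Agent.GHK.XAa
import Cfsg.Agent.GHK.Aft
import Cfsg.Agent.GHK.UPa

/-! Dihedral groups of type X: triples of index two, and a second group. See `stubs/Cfsg/Agent/GHK/PLAN2.md`. -/

set_option autoImplicit false
set_option linter.unusedSectionVars false

namespace Cfsg.Agent.GHK

open Cfsg.Agent.Inv.Fz Cfsg.Agent.NE Subgroup
open scoped commutatorElement

variable {G : Type*} [Group G] [Finite G] {S R K N Θ Θ' H : Subgroup G} {x s g v a b a' b' y : G} {n n' : ℕ}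

namespace XBa
open TriA

theorem norm_of_le (h : K ≤ cj g K) : g ∈ normalizer (K : Set G) :=
  cj_eq_iff.1 (eq_of_le_of_card_ge h (card_cj g K).le).symm

theorem phi_of (h : DQ Θ a b n) (h' : DQ Θ' a' b' n) (h1 : g ∈ phi Θ) (h2 : g ∈ zpowers a') : g ∈ phi Θ' := by
  by_contra e
  have l : zpowers a' ≤ phi Θ := by rw [← h'.gen_of_not h2 e]; exact zpowers_le.2 h1
  have e' : zpowers a' = zpowers a := eq_of_le_of_card_ge (l.trans (DihA.phiA h)) (by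
    rw [Nat.card_zpowers, Nat.card_zpowers, h.ord, h'.ord])
  have := (DihA.par h 1).1 (l (e' ▸ by simp))
  norm_num at this

theorem zz_cj (g a : G) (n : ℕ) : zz (g * a * g⁻¹) n = g * zz a n * g⁻¹ := conj_pow

theorem back (hg : g ∈ normalizer (R : Set G)) (hy : y ∈ R) : g⁻¹ * y * g ∈ R := by
  have := (conj_mem_norm (inv_mem hg)).2 hy
  rwa [inv_inv] at this

theorem norm_cj' (hg : g ∈ normalizer (R : Set G)) (h : R ≤ normalizer (K : Set G)) :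
    R ≤ normalizer (cj g K : Set G) := fun y hy => by
  have := BsA.norm_cj (g := g).2 (h (back hg hy))
  rwa [show g * (g⁻¹ * y * g) * g⁻¹ = y by group] at this

theorem comm_cj (ht : XT S Θ a b) (hq : DQ Θ a b n) (hR : R ≤ S) (hg : g ∈ normalizer (R : Set G)) (hy : y ∈ R) :
    ⁅y, g * b * g⁻¹⁆ ∈ zpowers (g * a * g⁻¹) := by
  rw [← cj_zpowers, mem_cj, show g⁻¹ * ⁅y, g * b * g⁻¹⁆ * g = ⁅g⁻¹ * y * g, b⁆ by
    simp only [commutatorElement_def]; group]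
  exact (ht.comm hq (hR (back hg hy))).1

theorem exists_swap (ht : XT S Θ a b) (hq : DQ Θ a b n) : ∃ g ∈ S, g ∉ cls Θ b ∧ Ix S (cls Θ b) g := by
  obtain ⟨g, hg, e⟩ := ht.swap
  have h1 : g ∉ cls Θ b := fun h => hq.not_cls_of_swap e ((mem_cls (ht.norm hg)).1 h)
  exact ⟨g, hg, h1, hq.ix_cls ht.norm ht.na hg h1⟩

theorem le_of (hq : DQ Θ a b n) (ha : a ∈ K) (hb : b ∈ K) : Θ ≤ K := TriB.le_of_gen hq.eq ha hb

theorem mem_R (h : XD S R x s Θ a b n) (hS : IsPGroup 2 S) (h4 : Rk 16 S) (hy : y ∈ S) (e : y * b = b * y) : y ∈ R := by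
  refine ((h.td.t2.gd hS h4 h.td.four).mem_iff hy).2 fun r hr => ?_
  rw [h.td.eq] at hr
  have : closure {zz a n, b} ≤ centralizer {y} := TriB.le_of_gen rfl
    (mem_centralizer_singleton_iff.2 ((h.xt.comm h.td.dq hy).2 y hy)) (mem_centralizer_singleton_iff.2 e.symm)
  exact (mem_centralizer_singleton_iff.1 (this hr)).symm

theorem hom_comm {T : Subgroup G} {t : G} (h : Hom T x t n) : ∀ u ∈ T, ∀ v ∈ T, u * v = v * u := by
  have h1 : ∀ w, w * t = t * w → w * (x * t * x⁻¹) = x * t * x⁻¹ * w → ∀ v ∈ T, w * v = v * w := fun w e e' v hv =>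
    (mem_centralizer_singleton_iff.1 (TriB.le_of_gen (K := centralizer {w}) h.eq
      (mem_centralizer_singleton_iff.2 e.symm) (mem_centralizer_singleton_iff.2 e'.symm) hv)).symm
  intro u hu
  exact h1 u (h1 t rfl h.comm u hu).symm (h1 _ h.comm.symm rfl u hu).symm

theorem hom_four {T : Subgroup G} {t : G} (h : Hom T x t n) (h1 : 1 ≤ n) : ∃ U ≤ T, El 4 U := by
  have m1 : t ∈ T := h.eq ▸ subset_closure (by simp)
  have m2 : x * t * x⁻¹ ∈ T := h.eq ▸ subset_closure (by simp)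
  have e1 : zz t n * zz t n = 1 := by
    rw [← pow_add, ← two_mul, ← pow_succ', Nat.sub_add_cancel h1, ← h.ord, pow_orderOf_eq_one]
  have e2 : zz t n ≠ 1 := pow_ne_one_of_lt_orderOf (by positivity) (by
    rw [h.ord]; exact Nat.pow_lt_pow_right one_lt_two (by omega))
  have m3 : zz t n ∈ T := pow_mem m1 _
  have m4 : zz (x * t * x⁻¹) n ∈ T := pow_mem m2 _
  refine ⟨_, TriB.le_of_gen rfl m3 m4, (UPL.four e1 (by rw [zz_cj]; exact UPL.sq_conj e1 x) (hom_comm h _ m3 _ m4) e2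
    (by rw [zz_cj]; intro e; exact e2 (by simpa using e)) fun e => e2 ?_).1⟩
  have : zz t n ∈ zpowers t ⊓ zpowers (x * t * x⁻¹) := ⟨pow_mem (mem_zpowers _) _, e ▸ pow_mem (mem_zpowers _) _⟩
  rwa [h.disj, mem_bot] at this

/-- If `b ^ g` preserves the class of `b` then `g` normalises the stabiliser of the class. -/
theorem norm_cls (h : XD S R x s Θ a b n) (hS : IsPGroup 2 S) (h4 : Rk 16 S) {R' : Subgroup G} (hR : R' ≤ S)
    (hle : Θ ≤ R') (hg : g ∈ normalizer (R' : Set G)) (hz : g * zz a n * g⁻¹ = zz a n)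
    (hc : ⁅g * b * g⁻¹, b⁆ ∈ phi Θ) : g ∈ normalizer ((R' ⊓ cls Θ b : Subgroup G) : Set G) := by
  have hq := h.td.dq
  have ma := hle (BsA.am hq)
  have mb : g * b * g⁻¹ ∈ R' := (conj_mem_norm hg).2 (hle (DihA.bm hq))
  obtain ⟨i, hi⟩ := hq.exists_comm h.xt.le (hR mb) (UPL.sq_conj h.td.sq g) (h.xt.na (hR mb)) hc (h.td.no_root hS h4)
  obtain ⟨g0, hg0, e0⟩ := h.xt.swap
  obtain ⟨w, hw, ew⟩ := hq.orbit h.xt.le hg0 e0 i
  have hw' : w ∈ normalizer (S : Set G) := le_normalizer hw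
  have h' : XD S (cj w R) (w * x * w⁻¹) (w * s * w⁻¹) (cj w Θ) (w * a * w⁻¹) (w * b * w⁻¹) n :=
    ⟨h.td.cj hw', h.xt.cj hw'⟩
  have zw : zz a n ∈ supp (cj w R) (w * x * w⁻¹) := by
    rw [h'.td.eq, zz_cj, ← (h.xt.comm hq hw).2 w hw, mul_inv_cancel_right]
    exact subset_closure (by simp)
  have hq' := hq.cj g
  have nΘ : R' ≤ normalizer (cj g Θ : Set G) := norm_cj' hg (hR.trans h.xt.norm)
  have k1 : ∀ r ∈ R', r * (b * a ^ i) = b * a ^ i * r → r ∈ cls (cj g Θ) (g * b * g⁻¹) := fun r hr e => by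
    have := (h'.td.t2.gd hS h4 h'.td.four).cz_of_comm hq'.ord hq.pos (by rwa [zz_cj, hz])
      (mem_R h' hS h4 (hR hr) (by rwa [ew])) (mem_R h' hS h4 (hR mb) (by rwa [ew])) (comm_cj h.xt hq hR hg hr)
    rw [mem_cls (nΘ hr), UPL.cm1.2 this]
    exact one_mem _
  have k2 : a ∈ cls (cj g Θ) (g * b * g⁻¹) := (mem_cls (nΘ ma)).2
    (phi_of hq hq' (cinv.1 (DihA.comm_a hq (h.xt.na (hR mb)) (mem_zpowers a))) (comm_cj h.xt hq hR hg ma))
  refine norm_of_le fun r hr => ?_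
  rw [cj_inf, cj_eq_iff.2 hg, cj_cls]
  refine ⟨hr.1, ?_⟩
  have n1 := h.xt.norm (hR hr.1)
  have n2 := h.xt.na (hR hr.1)
  obtain ⟨k, hk⟩ := (hq.shift i).1.cls_decomp n2 ((mem_cls n1).1 ((hq.cls_shift n1 n2 i).2 hr.2))
  have := mul_mem (k1 _ (mul_mem hr.1 (zpow_mem ma k)) hk) (inv_mem (zpow_mem k2 k))
  rwa [mul_inv_cancel_right] at this

end XBa

open XBa TriA

namespace Ctx
variable (c : Ctx G) {R' : Subgroup G} {x' s' : G}

theorem x2b_le (h : XD c.S R x s Θ a b n) (hl : Loc c.S R' x' s') (hle : Θ ≤ R') (hz : x' * zz a n = zz a n * x') :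
    supp R' x' ≤ cls Θ b := by
  have hq := h.td.dq
  have xn := hl.tri.xn
  have hz1 := conj_eq_of_comm hz
  have hz2 : x' * x' * zz a n * (x' * x')⁻¹ = zz a n := by rw [← conj_conj, hz1, hz1]
  have fin : x' ∈ normalizer ((R' ⊓ cls Θ b : Subgroup G) : Set G) → supp R' x' ≤ cls Θ b := fun hn => by
    obtain ⟨g, -, -, hi⟩ := exists_swap h.xt hq
    refine (supp_le_idx xn inf_le_left hn fun u hu v hv h1 h2 => ⟨mul_mem hu hv, ?_⟩).trans inf_le_right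
    exact hi.mul_mem (hl.le hu) (hl.le hv) (fun e => h1 ⟨hu, e⟩) fun e => h2 ⟨hv, e⟩
  by_cases c1 : ⁅x' * b * x'⁻¹, b⁆ ∈ phi Θ
  · exact fin (norm_cls h c.pS c.r4 hl.le hle xn hz1 c1)
  by_cases c2 : ⁅x' * x' * b * (x' * x')⁻¹, b⁆ ∈ phi Θ
  · exact fin (hl.tri.od.norm_of_sq inf_le_left (norm_cls h c.pS c.r4 hl.le hle (mul_mem xn xn) hz2 c2))
  exfalso
  have mb := hle (DihA.bm hq)
  have m1 : x' * b * x'⁻¹ ∈ R' := (conj_mem_norm xn).2 mb
  have m2 : x' * (x' * b * x'⁻¹) * x'⁻¹ ∈ R' := (conj_mem_norm xn).2 m1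
  have a1 := (h.xt.comm hq (hl.le m1)).1
  have a2 := (h.xt.comm hq (hl.le m2)).1
  rw [← conj_conj] at c2
  have na : x' ∈ normalizer (zpowers a : Set G) := norm_of_le (by
    rw [cj_zpowers]
    conv_lhs => rw [← hq.gen_of_not a1 c1]
    exact zpowers_le.2 (cinv.1 (comm_cj h.xt hq hl.le xn mb)))
  have iv : ∀ u, u * a * u⁻¹ = a⁻¹ → x' * u * x'⁻¹ * a * (x' * u * x'⁻¹)⁻¹ = a⁻¹ := fun u e => by
    rw [show x' * u * x'⁻¹ * a * (x' * u * x'⁻¹)⁻¹ = x' * (u * (x'⁻¹ * a * x') * u⁻¹) * x'⁻¹ by group,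
      inverts_zpowers e (back na (mem_zpowers a))]
    group
  have q1 := UPL.sq_conj h.td.sq x'
  have c3 : ⁅x' * (x' * b * x'⁻¹) * x'⁻¹, x' * b * x'⁻¹⁆ ∉ phi Θ := by
    rw [← UPL.cj_cm, conj_mem_norm (DihA.nphi hq na)]; exact c1
  rw [hq.phi_eq] at c1 c2 c3
  obtain ⟨e1, e2, e3⟩ := three hq.ord hq.inv (iv _ hq.inv) (iv _ (iv _ hq.inv)) (by rw [h.td.sq]; exact one_mem _)
    (by rw [q1]; exact one_mem _) (by rw [UPL.sq_conj q1 x']; exact one_mem _) ⟨a1, c1⟩ ⟨a2, c2⟩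
    ⟨by rw [← UPL.cj_cm]; exact (conj_mem_norm na).2 a1, c3⟩
  subst e1
  exact h.td.no_root c.pS c.r4 _ (hl.le (mul_mem (mul_mem mb m1) m2)) (by rw [e2]; simp [zz]) e3

theorem x2b_q8 (hq : DQ Θ a b n) (ht : XT c.S Θ a b) (hl : Loc c.S R' x' s') (hb : b ∉ R')
    (hz : x' * zz a n = zz a n * x') : Q8 (supp R' x') := by
  have xn := hl.tri.xn
  have ma : a ∈ R' := ht.a_mem hq hl.ix hl.le
  have nA : R' ≤ normalizer (zpowers a : Set G) := hl.le.trans ht.na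
  have nA' : R' ≤ normalizer (zpowers (x' * a * x'⁻¹) : Set G) := by rw [← cj_zpowers]; exact norm_cj' xn nA
  have l : supp R' x' ≤ zpowers a ⊔ zpowers (x' * a * x'⁻¹) :=
    hl.tri.lemN (UPL.coset hl (ht.le (DihA.bm hq)) hb) (Loc.Mss.norm_sup nA nA')
      (fun r hr => mem_sup_left (cinv.1 (ht.comm hq (hl.le hr)).1))
      fun r hr => mem_sup_right (cinv.1 (comm_cj ht hq hl.le xn hr))
  have r4 := rk_cyc (a := a) (nA ((conj_mem_norm xn).2 ma))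
  refine (hl.tri.odV.small hl.tri.od.supp_supp hl.tri.supp_ne (r4.mono l)).resolve_right ?_
  rintro ⟨t, m, hm, hT⟩
  obtain ⟨U, hU, eU⟩ := hom_four hT hm
  have zn : zz a n ∉ U := fun e => hq.zz_ne.1 (by
    have := hl.tri.odV.disj_of_comm (hom_comm hT)
    rw [hl.tri.od.supp_supp] at this
    exact mem_bot.1 (this ▸ ⟨hU e, mem_fix.2 ⟨hU e, hz⟩⟩))
  obtain ⟨-, e1, e2⟩ := ext_elem eU.sq hq.zz_ne.2.1 fun u hu =>
    (ht.comm hq (one_mem _)).2 u (hl.le (supp_le xn (hU hu)))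
  have := r4 ⊥ (ext U (zz a n)) bot_le (ext_le.2 ⟨hU.trans l, mem_sup_left (pow_mem (mem_zpowers a) _)⟩)
    fun u hu => mem_bot.2 (e1 u hu)
  rw [e2 zn, eU.card, card_bot] at this
  omega

theorem xd_fix (h : XD c.S R x s Θ a b n) (h2 : 2 ≤ n) (hl : Loc c.S R' x' s') : x' * zz a n = zz a n * x' := by
  have hq := h.td.dq
  have ma : a ∈ R' := h.xt.a_mem hq hl.ix hl.le
  by_cases hb : b ∈ R'
  · exact (hq.mx h2).fix_z hl.tri.od (c.r4' R') (le_of hq ma hb) (hl.le.trans h.xt.norm)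
  by_contra e
  have hA : XA c.S R' x' s' a b n := ⟨hl, h2, hq.ord, ma, h.xt.na, h.xt.le (DihA.bm hq), hb,
    fun y hy => (h.xt.comm hq hy).1, hq.inv, Or.inl h.td.sq, e⟩
  obtain ⟨c₀, m, e1, e2, -⟩ := hA.root
  exact h.td.no_root c.pS c.r4 c₀ (hl.le (supp_le hl.tri.xn m)) e1 e2

theorem exists_xh (hX : c.AllX) (h : XD c.S R x s Θ a b n) (h2 : 2 ≤ n) :
    ∃ Θ' a' b', XH c.S R x s Θ a b n Θ' a' b' := by
  have hq := h.td.dq
  obtain ⟨g, hg, hn, hi⟩ := exists_swap h.xt hq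
  obtain ⟨R₀, x₀, s₀, hB, hne⟩ := c.span2 hi (fun e => hn (e hg)) fun m hm ho y _ hy => by
    have e := c.xd_norm h hm ho ((hq.mx h2).fix_z (od_of_odd c.pS hm ho) c.r4 h.xt.le h.xt.norm)
    have : cj m (cls Θ b) = cls Θ b := by
      rw [cj_cls, cj_eq_iff.2 (UPL.norm_of_cz e), conj_eq_of_comm (e b (DihA.bm hq))]
    exact this ▸ conj_mem_cj.2 hy
  have good : El 4 (supp R₀ x₀) ∨ Q8 (supp R₀ x₀) := by
    rcases hB.kind with hi | hk
    · have hl := hB.toT2.toT1.loc c.pS c.r4 hi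
      have hz := c.xd_fix h h2 hl
      by_cases hb : b ∈ R₀
      · exact absurd (c.x2b_le h hl (le_of hq (h.xt.a_mem hq hl.ix hl.le) hb) hz) hne
      · exact Or.inr (c.x2b_q8 hq h.xt hl hb hz)
    · exact hk
  obtain ⟨Θ', a', b', n', hG, hle⟩ : ∃ Θ' a' b' n', XG c.S Θ' a' b' n' ∧ supp R₀ x₀ ≤ Θ' := by
    rcases good with e | e
    · obtain ⟨Θ', a', b', n', h1, h1'⟩ := (hX _ _ _ hB.toT2).1 e
      exact ⟨Θ', a', b', n', ⟨⟨_, _, _, Or.inl h1⟩, h1'⟩,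
        TriB.le_of_gen h1.eq (pow_mem (BsA.am h1.dq) _) (DihA.bm h1.dq)⟩
    · obtain ⟨Θ', a', b', n', h1, h1'⟩ := (hX _ _ _ hB.toT2).2 e
      exact ⟨Θ', a', b', n', ⟨⟨_, _, _, Or.inr h1⟩, h1'⟩,
        TriB.le_of_gen h1.eq (pow_mem (BsA.am h1.dq) _) (DihA.bm h1.dq)⟩
  have hd : Θ ⊓ Θ' ≠ ⊥ := fun e => hne (hle.trans fun v hv => by
    have n1 := h.xt.norm (hG.xt.le hv)
    have n2 := hG.xt.norm (h.xt.le (DihA.bm hq))
    have : ⁅v, b⁆ ∈ Θ ⊓ Θ' := mem_inf.2 ⟨mul_mem ((conj_mem_norm n1).2 (DihA.bm hq)) (inv_mem (DihA.bm hq)), by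
      have := mul_mem hv ((conj_mem_norm n2).2 (inv_mem hv))
      rwa [← mul_assoc, ← mul_assoc] at this⟩
    rw [e, mem_bot] at this
    rw [mem_cls n1, this]
    exact one_mem _)
  have ez : zz a' n' = zz a n := by
    have := hG.xt.center hG.gd.dq (h.xt.zz_mem hq c.pS hG.xt.norm hd) (h.xt.comm hq (one_mem _)).2
    exact (((UPL.mem_zp2 hG.gd.dq.zz_ne.2.1).1 this).resolve_left hq.zz_ne.1).symm
  rcases c.cmp1 h hG ez with e | ⟨rfl, e1, e2⟩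
  · exact absurd (hle.trans (e ▸ hq.le_cls)) hne
  · exact ⟨Θ', a', b', h, hG.gd, hG.xt, e1, e2⟩

end Ctx

end Cfsg.Agent.GHK
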