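import Mathlib
import Cfsg.Agent.GHK.Defs3
import Cfsg.Agent.GHK.EB
import Cfsg.Agent.GHK.XE
import Cfsg.Agent.GHK.HamP
import Cfsg.Agent.GHK.HamB
import Cfsg.Agent.GHK.UP
import Cfsg.Agent.GHK.Gam
import Cfsg.Agent.GHK.Aft
import Cfsg.Agent.GHK.FF
import Cfsg.Agent.GHK.DihA

/-! All triples of index two: the subgroup `R₁`. See `stubs/Cfsg/Agent/GHK/PLAN2.md`. -/

set_option autoImplicit false
set_option linter.unusedSectionVars false

namespace Cfsg.Agent.GHK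

open Cfsg.Agent.Inv.Fz Cfsg.Agent.NE Subgroup
open scoped commutatorElement

variable {G : Type*} [Group G] [Finite G] {S R₁ R₂ F : Subgroup G} {ρ s₁ z u x s₂ f v w a : G}

namespace E1

open UPL
open Cfsg.Agent.Loc.Mss (conj_mem_of_norm conj_mem_of_norm')

variable {R Θ A : Subgroup G} {s b x₁ x₂ : G} {n : ℕ}

/-- `x` moves a central involution of `S`. -/
def Mv (S : Subgroup G) (x : G) : Prop := ∃ z ∈ S, z * z = 1 ∧ Cz z S ∧ x * z ≠ z * x

theorem loc (c : Ctx G) (hE : c.AllE) (h : Bas c.S R x s) : Loc c.S R x s :=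
  h.toT2.toT1.loc c.pS c.r4 (hE R x s h).1

/-- A normal good four-group of type X. -/
theorem one (l : Loc S R x s) (h : TD S R x s Θ a b n) (t : XT S Θ a b) :
    n = 1 ∧ a * a = 1 ∧ Cz a S ∧ supp R x = closure {a, b} := by
  have hb : b ∈ supp R x := h.eq ▸ subset_closure (by simp)
  obtain ⟨g, hg, e⟩ := t.swap
  have h1 : g * b * g⁻¹ ∈ supp R x := conj_mem_of_norm (l.tri.norm_supp h.t2.two hg (nR l hg)) hb
  have ha : a ∈ supp R x := by
    have := mul_mem (inv_mem hb) h1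
    rwa [e, inv_mul_cancel_left] at this
  have a2 := h.four.sq a ha
  have hn : n = 1 := by
    have h2 : orderOf a ∣ 2 ^ 1 := orderOf_dvd_of_pow_eq_one (by rw [pow_one, pow_two, a2])
    rw [h.dq.ord, Nat.pow_dvd_pow_iff_le_right (by norm_num)] at h2
    exact le_antisymm h2 h.dq.pos
  subst hn
  have a1 : a ≠ 1 := by simpa [zz] using h.dq.zz_ne.1
  refine ⟨rfl, a2, fun y hy => ?_, by simpa [zz] using h.eq⟩
  rcases (mem_zp2 a2).1 (conj_mem_of_norm (t.na hy) (mem_zpowers a)) with e | e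
  · exact (a1 (by simpa using e)).elim
  · exact (comm_of_conj_eq e).symm

/-- The moving triples live on one subgroup. -/
theorem uniq (c : Ctx G) (hX : c.AllX) (hE : c.AllE) (h₁ : Bas c.S R₁ x₁ s₁) (h₂ : Bas c.S R₂ x₂ s₂)
    (m₁ : Mv c.S x₁) (m₂ : Mv c.S x₂) : R₁ = R₂ := by
  by_contra hne
  have l₁ := loc c hE h₁
  have l₂ := loc c hE h₂
  rcases up l₁ l₂ hne m₁ m₂ with ⟨e₁, e₂, hn⟩ | ⟨-, -, -, -, hc, hd, hS, ⟨a, b, hm, hb⟩, a', b', hm', hb'⟩ |
    ⟨el, -, -, -, -, hf⟩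
  · obtain ⟨Θ, a, b, n, td, xt⟩ := (hX _ _ _ h₁.toT2).1 e₁
    obtain ⟨Θ', a', b', n', td', xt'⟩ := (hX _ _ _ h₂.toT2).1 e₂
    obtain ⟨rfl, a2, ca, q⟩ := one l₁ td xt
    obtain ⟨rfl, a2', ca', q'⟩ := one l₂ td' xt'
    have bS : b ∈ c.S := xt.le (DihA.bm td.dq)
    have bS' : b' ∈ c.S := xt'.le (DihA.bm td'.dq)
    have aS : a ∈ c.S := xt.le (BsA.am td.dq)
    have nb : b ∉ R₂ := fun e => hn (q ▸ (closure_le _).2 (by
      rintro _ (rfl | rfl)
      exacts [l₂.center_le aS ca, e]))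
    have hc : ⁅b', b⁆ ≠ 1 := fun e => nb ((h₂.toT2.good c.pS (Or.inl e₂)).1 b bS (by
      rw [q', TriA.cz_iff, mem_centralizer_iff]
      intro y hy
      refine (closure_le (centralizer {b})).2 ?_ hy b rfl |>.symm
      rintro _ (rfl | rfl)
      · exact mem_centralizer_singleton_iff.2 (ca' b bS)
      · exact mem_centralizer_singleton_iff.2 (cm1.1 e)))
    have c1 : ⁅b', b⁆ = a := ((mem_zp2 a2).1 (td.dq.conj_b (xt.norm bS') (xt.na bS')).2).resolve_left hc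
    have c2 : ⁅b', b⁆ = a' := ((mem_zp2 a2').1 (TriA.cinv.1 (td'.dq.conj_b (xt'.norm bS) (xt'.na bS)).2)).resolve_left hc
    refine c.noXH hX (n := 1) ⟨⟨td, xt⟩, ⟨_, _, _, Or.inl td'⟩, xt', by rw [← c1, ← c2], ?_⟩
    rw [td.dq.phi_eq, a2, zpowers_one_eq_bot, mem_bot]
    exact hc
  · exact c.not_prod (Or.inr ⟨a, b, 2, hm, hb⟩) (Or.inr ⟨a', b', 2, hm', hb'⟩) hc hd hS
  · obtain ⟨u, hu, nu⟩ := exists_out l₁ l₂ hne
    obtain ⟨t, ht, nt⟩ := exists_out l₂ l₁ (Ne.symm hne)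
    obtain ⟨v, hv, hf⟩ := hf t ht nt u hu nu
    have sq : ∀ {R x s}, Loc c.S R x s → ∀ y ∈ c.S, y * y ∈ R := fun l y hy =>
      (em _).elim (fun e => mul_mem e e) fun e => l.ix.mul_mem hy hy e e
    have k1 := l₁.ix.card l₁.le l₁.mem l₁.tri.s_not
    have k2 := Ix.card (S := R₁) (K := R₁ ⊓ R₂) (s := u) (fun y hy => (em (y ∈ R₂)).imp (fun e => ⟨hy, e⟩) fun e =>
      mem_inf.2 ⟨mul_mem hu hy, l₂.ix.mul_mem (l₁.le hu) (l₁.le hy) nu e⟩) inf_le_left hu fun e => nu e.2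
    exact c.not_ut4 el (inf_le_left.trans l₁.le)
      (fun g hg => mem_normalizer_of_conj_mem fun y hy =>
        ⟨conj_mem_of_norm (nR l₁ hg) hy.1, conj_mem_of_norm (nR l₂ hg) hy.2⟩)
      (by rw [k1, k2, el.card]) (fun y hy => ⟨sq l₁ y hy, sq l₂ y hy⟩) (l₂.le ht) (l₁.le hu) hv hf

theorem ab (h : ∀ a ∈ A, a * a = 1) : ∀ u ∈ A, ∀ v ∈ A, Cz ⁅u, v⁆ A := fun u hu v hv r _ => by
  rw [cm1.2 (comm_of_sq h hu hv), one_mul, mul_one]

theorem exists_mv (c : Ctx G) : ∃ R x s, Bas c.S R x s ∧ Mv c.S x := by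
  obtain ⟨W, hW, -, nW⟩ := exists_omz (R := c.S) (A := ⊥) bot_le fun g _ => nbot g
  obtain ⟨E, hE, el⟩ := c.rank3
  obtain ⟨z, hz, z1, z2, hc⟩ := exists_central_mod (N := ⊥) c.pS (fun g _ => nbot g) le_rfl le_normalizer fun e => by
    have := card_le_of_le (hE.trans e)
    rw [el.card, card_bot] at this
    omega
  obtain ⟨R, x, s, h, y, -, hy, ny⟩ := c.exists_move (X := W) (fun w hw => ((hW w).1 hw).1)
    (fun g hg => nW g (le_normalizer hg) (nbot g)) (fun m hm _ => nW m hm (nbot m))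
    (fun e => z1 (e ▸ (hW z).2 ⟨hz, z2, hc⟩)) (ab fun w hw => ((hW w).1 hw).2.1)
  obtain ⟨y1, y2, y3⟩ := (hW y).1 hy
  exact ⟨R, x, s, h, y, y1, y2, fun r hr => (cmb.1 (y3 r hr)).symm, fun e => ny (by rwa [conj_eq_of_comm e])⟩

section
variable (c : Ctx G) (hX : c.AllX) (hE : c.AllE) (h : Bas c.S R₁ ρ s₁) (m : Mv c.S ρ)
include hX hE h m

theorem norm : normalizer (c.S : Set G) ≤ normalizer (R₁ : Set G) := fun g hg => by
  obtain ⟨z, hz, z2, hc, hm⟩ := id m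
  exact cj_eq_iff.1 (uniq c hX hE (h.cj hg) h ⟨g * z * g⁻¹, conj_mem_of_norm hg hz, sq_conj z2 g, cz_conj hc hg,
    fun e => hm (comm_of_conj e)⟩ m)

/-- The central involutions of `R₁` lie in every basic subgroup. -/
theorem om_le (h' : Bas c.S R x s) (hw : w ∈ R₁) (w2 : w * w = 1) (hc : Cz w R₁) : w ∈ R := by
  by_contra nw
  have l := loc c hE h
  have l' := loc c hE h'
  have sn := h.tri.sn
  have w' : s₁ * w * s₁⁻¹ ∈ R₁ := conj_mem_of_norm sn hw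
  have e0 : ⁅w, s₁⁆ = w * (s₁ * w * s₁⁻¹) := by rw [commutatorElement_def, inv_of_sq w2]; group
  have cz : Cz ⁅w, s₁⁆ R₁ := e0 ▸ cz_mul hc (cz_conj hc sn)
  have z2 : ⁅w, s₁⁆ * ⁅w, s₁⁆ = 1 := by
    rw [e0, mul_assoc, ← mul_assoc _ w, ← hc _ w', mul_assoc, sq_cancel w2, sq_conj w2]
  have out : ∀ r ∈ c.S, r ∉ R₁ → ∀ {k}, Cz k R₁ → r * k * r⁻¹ = s₁ * k * s₁⁻¹ := fun r hr nr k hk => by
    rw [show r * k * r⁻¹ = s₁ * (s₁⁻¹ * r * k * (s₁⁻¹ * r)⁻¹) * s₁⁻¹ by group,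
      conj_eq_of_comm (hk _ (coset l hr nr)).symm]
  have zS : Cz ⁅w, s₁⁆ c.S := fun r hr => by
    by_cases e : r ∈ R₁
    · exact cz r e
    · refine (comm_of_conj_eq ?_).symm
      rw [out r hr e cz, e0, conj_mul', NE.conj_conj s₁ s₁, conj_eq_of_comm (hc _ h.tri.ss).symm, hc _ w']
  obtain ⟨e4, e⟩ := h'.tri.four_of (coset l' (l.le hw) nw) z2 fun r hr => by
    by_cases e : r ∈ R₁
    · rw [cm1.2 (hc r e)]; exact one_mem _
    · have : ⁅w, r⁆ = ⁅w, s₁⁆ := by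
        rw [e0, ← out r (l'.le hr) e hc, commutatorElement_def, inv_of_sq w2]; group
      rw [this]; exact mem_zpowers _
  refine nw (uniq c hX hE h h' m ⟨_, l.le (e0 ▸ mul_mem hw w'), z2, zS, fun e' => ?_⟩ ▸ hw)
  have h1 : supp R x ≤ zpowers ⁅w, s₁⁆ := by
    rw [e, conj_eq_of_comm e']
    exact (closure_le _).2 (by rintro _ (rfl | rfl) <;> exact mem_zpowers _)
  have h2 := card_le_of_le h1
  by_cases e1 : ⁅w, s₁⁆ = 1
  · rw [e4.card, e1, zpowers_one_eq_bot, card_bot] at h2; omega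
  · rw [e4.card, card_zp2 z2 e1] at h2; omega

theorem no16 (hA : A ≤ R₁) (el : El 16 A) (hc : ∀ a ∈ A, Cz a R₁) (hf : Nat.card (fix A s₁) ≤ 4) : False := by
  have l := loc c hE h
  have un : ∀ g, cj g A ≤ c.S → g ∈ normalizer (A : Set G) := fun g hg =>
    cj_eq_iff.1 (el16_unique c.r4 el hA l.le l.ix l.mem hc hf (el.cj g) hg)
  have nS : normalizer (c.S : Set G) ≤ normalizer (A : Set G) := fun g hg =>
    un g (cj_le_iff.2 fun a ha => conj_mem_of_norm hg (l.le (hA ha)))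
  obtain ⟨R, x, s, h', y, -, hy, ny⟩ := c.exists_move (hA.trans l.le) (le_normalizer.trans nS) (fun m hm _ => nS hm)
    (fun e => by have := el.card; rw [e, card_bot] at this; omega) (ab el.sq)
  exact ny (conj_mem_of_norm (un x (cj_le_iff.2 fun a ha => h'.crit.le (conj_mem_of_norm h'.tri.xn
    (om_le c hX hE h m h' (hA ha) (el.sq a ha) (hc a ha))))) hy)

theorem exists_sd : ∃ z u, Sd c.S R₁ ρ s₁ z u :=
  (side (loc c hE h) m).resolve_right fun ⟨_, hA, el, hc, hf⟩ => no16 c hX hE h m hA el hc (hf _ h.mem h.tri.s_not)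

end

theorem sd_mv (q : Sd S R x s z u) : Mv S x := ⟨z, q.zP, q.z2, q.zc, fun e => q.uz (by rw [← q.xz, conj_eq_of_comm e])⟩

/-- `W = Ω₁Z(R)`. -/
structure Om (R W : Subgroup G) : Prop where
  mem : ∀ w, w ∈ W ↔ w ∈ R ∧ w * w = 1 ∧ Cz w R
  norm : normalizer (R : Set G) ≤ normalizer (W : Set G)

theorem exists_om (R : Subgroup G) : ∃ W, Om R W := by
  obtain ⟨W, hW, -, nW⟩ := exists_omz (R := R) (A := ⊥) bot_le fun g _ => nbot g
  exact ⟨W, fun w => (hW w).trans (and_congr_right fun _ => and_congr mem_bot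
    (forall₂_congr fun r _ => cmb.trans eq_comm)), fun g hg => nW g hg (nbot g)⟩

variable {W : Subgroup G} {d : G}

theorem Om.le (o : Om R W) : W ≤ R := fun w hw => ((o.mem w).1 hw).1
theorem Om.sq (o : Om R W) : ∀ w ∈ W, w * w = 1 := fun w hw => ((o.mem w).1 hw).2.1
theorem Om.cz (o : Om R W) : ∀ w ∈ W, Cz w R := fun w hw => ((o.mem w).1 hw).2.2

theorem Om.U_le (o : Om R W) (q : Sd S R x s z u) : (closure {z, u} : Subgroup G) ≤ W := fun v hv =>
  (o.mem v).2 ⟨q.UR hv, q.el.sq v hv, q.Uc hv⟩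

theorem Om.supp_eq (o : Om R W) (q : Sd S R x s z u) : supp W x = closure {z, u} :=
  le_antisymm (TriA.supp_le' q.xU fun w hw => q.om w (o.le hw) (o.sq w hw) (o.cz w hw)) (q.U_supp (o.U_le q))

section
variable (c : Ctx G) (hX : c.AllX) (hE : c.AllE) (h : Bas c.S R₁ ρ s₁) (q : Sd c.S R₁ ρ s₁ z u) (o : Om R₁ W)
include hX hE h q o

/-- The fixed points of `ρ` on `W` are central. -/
theorem fix_cz (hd : d ∈ fix W ρ) : Cz d c.S := by
  obtain ⟨dW, dx⟩ := mem_fix.1 hd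
  have sW := o.norm h.tri.sn
  have key : s₁ * d = d * s₁ := by
    by_contra ne
    have d' : s₁ * d * s₁⁻¹ ∈ fix W ρ := conj_mem_of_norm (h.tri.s_sub o.le sW (o.norm h.tri.xn)).2 hd
    have e' := mem_fix.1 (mul_mem hd d')
    have ez : d * (s₁ * d * s₁⁻¹) ≠ z := fun e => q.z1 (q.fpf q.zU (e ▸ e'.2))
    have e1 : d * (s₁ * d * s₁⁻¹) ≠ 1 := fun e =>
      ne (comm_of_conj_eq ((eq_inv_of_mul_eq_one_right e).trans (inv_of_sq (o.sq d dW))))
    have zW := o.U_le q q.zU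
    have uW := o.U_le q q.uU
    have h4 := (four q.z2 (o.sq _ e'.1) (q.zc _ (q.le (o.le e'.1))) q.z1 e1 ez).1
    have hF : (closure {z, d * (s₁ * d * s₁⁻¹)} : Subgroup G) ≤ fix W s₁ := (closure_le _).2 (by
      rintro _ (rfl | rfl)
      · exact mem_fix.2 ⟨zW, (q.zc _ h.mem).symm⟩
      · refine mem_fix.2 ⟨e'.1, comm_of_conj_eq ?_⟩
        rw [conj_mul', NE.conj_conj s₁ s₁, conj_eq_of_comm (o.cz d dW _ h.tri.ss).symm,
          comm_of_sq o.sq dW (mem_fix.1 d').1])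
    have k1 := card_le_of_le hF
    rw [h4.card] at k1
    have k2 : Nat.card W ≤ 16 := by
      simpa using c.r4' W ⊥ W bot_le le_rfl fun y hy => mem_bot.2 (o.sq y hy)
    have su := q.bu s₁ h.mem h.tri.s_not
    have nu : u ∉ fix W s₁ := fun e => q.zu_u (su.symm.trans (conj_eq_of_comm (mem_fix.1 e).2))
    have nd : d ∉ fix W s₁ := fun e => ne (mem_fix.1 e).2
    have nud : u * d ∉ fix W s₁ := fun e => ez (by
      have e2 := conj_eq_of_comm (mem_fix.1 e).2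
      rw [conj_mul', su, q.zu, mul_assoc, mul_right_inj] at e2
      calc d * (s₁ * d * s₁⁻¹) = z * (s₁ * d * s₁⁻¹) * (s₁ * d * s₁⁻¹) := by rw [e2]
        _ = z := by rw [mul_assoc, sq_conj (o.sq d dW), mul_one])
    have k3 : 4 * Nat.card (fix W s₁) ≤ Nat.card W := by
      obtain ⟨m1, -, m3⟩ := ext_elem (A := fix W s₁) (fun a ha => o.sq a ha.1) q.u2
        fun a ha => comm_of_sq o.sq uW ha.1
      obtain ⟨-, -, m4⟩ := ext_elem (A := ext (fix W s₁) u) (x := d)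
        (fun a ha => o.sq a (ext_le.2 ⟨inf_le_left, uW⟩ ha)) (o.sq d dW)
        fun a ha => comm_of_sq o.sq dW (ext_le.2 ⟨inf_le_left, uW⟩ ha)
      have := card_le_of_le (ext_le.2 ⟨ext_le.2 ⟨inf_le_left, uW⟩, dW⟩ : ext (ext (fix W s₁) u) d ≤ W)
      rw [m4 fun e => ((m1 d).1 e).elim nd nud, m3 nu] at this
      omega
    exact no16 c hX hE h (sd_mv q) o.le ⟨by omega, o.sq⟩ o.cz (by omega)
  intro r hr
  by_cases e : r ∈ R₁
  · exact o.cz d dW r e
  · have := o.cz d dW _ (coset q.loc hr e)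
    rw [← mul_inv_cancel_left s₁ r, ← mul_assoc, ← key, mul_assoc, this, ← mul_assoc]

/-- All basic triples fix the fixed points of `ρ` on `W`. -/
theorem fix_fix (h' : Bas c.S R x s) (hd : d ∈ fix W ρ) : x * d = d * x := by
  by_contra ne
  obtain ⟨dW, dx⟩ := mem_fix.1 hd
  have m' : Mv c.S x := ⟨d, q.le (o.le dW), o.sq d dW, fix_cz c hX hE h q o hd, ne⟩
  obtain rfl := uniq c hX hE h' h m' (sd_mv q)
  obtain ⟨z', u', q'⟩ := exists_sd c hX hE h' m'
  have zz : z' = z := by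
    obtain ⟨t, ht, e, he, e1⟩ := (q.od.mono o.le (o.norm q.xn)).decomp (o.U_le q' q'.uU)
    have e2 := q'.cmu h.mem h.tri.s_not
    rw [e1, cm_mul, cm1.2 (fix_cz c hX hE h q o he _ h.mem).symm, mul_one, mul_inv_cancel, mul_one] at e2
    rw [o.supp_eq q] at ht
    rcases q.cmU h.mem ht with e3 | e3
    · exact (q'.z1 (e2.symm.trans e3)).elim
    · exact e2.symm.trans e3.1
  subst zz
  rcases h.toT2.gam c.syl (c.r4' _) q.xn q'.xn q.cube q'.cube bot_le o.le (o.norm q.xn) (nbot _) (o.norm q'.xn)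
    (nbot _) (fun k hk => mem_bot.2 (o.sq k hk)) (fun r hr k hk => cmb.2 (o.cz k hk r hr).symm)
    (by rw [sup_bot_eq, o.supp_eq q, q.el.card, card_bot]) (by rw [sup_bot_eq, o.supp_eq q', q'.el.card, card_bot])
    (fun e => q.z1 (mem_bot.1 (e (by
      rw [sup_bot_eq, sup_bot_eq, o.supp_eq q, o.supp_eq q']; exact ⟨q.zU, q'.zU⟩)))) with e | e
  · have := cmb.1 (e d dW)
    rw [mul_assoc, ← mul_assoc d, ← dx, mul_assoc, mul_right_inj] at this
    exact ne this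
  · have := cmb.1 (e d dW)
    rw [mul_assoc, ← mul_assoc d, ← dx, mul_assoc, mul_right_inj] at this
    exact ne (by rw [← mul_inv_cancel_right (x * d) x⁻¹, mul_assoc x, ← this, inv_inv, mul_inv_cancel_left])

theorem fix_bot : fix W ρ = ⊥ := by
  by_contra ne
  have nS : normalizer (c.S : Set G) ≤ normalizer (fix W ρ : Set G) := fun g hg =>
    mem_normalizer_of_conj_mem fun d hd => mem_fix.2
      ⟨conj_mem_of_norm (o.norm (norm c hX hE h (sd_mv q) hg)) (mem_fix.1 hd).1, by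
        have := conj_comm g (fix_fix c hX hE h q o (h.cj (inv_mem hg)) hd)
        rwa [show g * (g⁻¹ * ρ * g⁻¹⁻¹) * g⁻¹ = ρ by group] at this⟩
  obtain ⟨R, x, s, h', y, -, hy, ny⟩ := c.exists_move (X := fix W ρ) (inf_le_left.trans (o.le.trans q.le))
    (le_normalizer.trans nS) (fun m hm _ => nS hm) ne (ab fun a ha => o.sq a ha.1)
  exact ny (by rwa [conj_eq_of_comm (fix_fix c hX hE h q o h' hy)])

end

theorem normU (h : EC S R₁ ρ s₁ z u) {g : G} (hg : g ∈ normalizer (R₁ : Set G)) :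
    g ∈ normalizer ((closure {z, u} : Subgroup G) : Set G) := by
  have UR : (closure {z, u} : Subgroup G) ≤ R₁ := (closure_le _).2 (by
    rintro _ (rfl | rfl)
    exacts [h.z_mem, h.u_mem])
  exact mem_normalizer_of_conj_mem fun v hv => h.om _ (conj_mem_of_norm hg (UR hv)) (sq_conj (h.el.sq v hv) g)
    (cz_conj (fun r hr => (h.czU hr v hv).symm) hg)

end E1

theorem Ctx.exists_ec (c : Ctx G) (hX : c.AllX) (hE : c.AllE) : ∃ R₁ ρ s₁ z u, EC c.S R₁ ρ s₁ z u := by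
  obtain ⟨R₁, ρ, s₁, h, m⟩ := E1.exists_mv c
  obtain ⟨z, u, q⟩ := E1.exists_sd c hX hE h m
  obtain ⟨W, o⟩ := E1.exists_om R₁
  refine ⟨R₁, ρ, s₁, z, u, h, q.loc.ix, q.cube, q.el, q.zR, q.uR, q.z1, q.zc,
    (q.bu _ h.mem h.tri.s_not).trans q.zu, q.xz, q.xu.trans q.zu,
    fun y hy => ⟨fun e => (q.uc y e).symm, q.mem_of_comm hy⟩, fun w hw w2 hc => ?_, fun R x s h' => ?_,
    E1.norm c hX hE h m⟩
  · obtain ⟨t, ht, d, hd, e⟩ := (q.od.mono o.le (o.norm q.xn)).decomp ((o.mem w).2 ⟨hw, w2, hc⟩)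
    rw [E1.fix_bot c hX hE h q o, mem_bot] at hd
    rw [e, hd, mul_one, ← o.supp_eq q]
    exact ht
  · exact (em _).symm.imp_left fun e => E1.uniq c hX hE h' h ⟨z, q.zP, q.z2, q.zc, e⟩ m

theorem Ctx.exists_eh (c : Ctx G) (hE : c.AllE) (h : EC c.S R₁ ρ s₁ z u) : ∃ R₂ x s₂, EH c.S R₁ ρ s₁ z u R₂ x s₂ := by
  obtain ⟨R, x, s, h', y, yR, hy, ny⟩ := c.exists_move (X := closure {z, u})
    ((closure_le _).2 (by
      rintro _ (rfl | rfl)
      exacts [EB.le h h.z_mem, EB.le h h.u_mem])) h.normU.1 (fun m hm _ => E1.normU h (h.norm hm))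
    (fun e => by have := h.el.card; rw [e, card_bot] at this; omega) (E1.ab h.el.sq)
  have xz : x * z = z * x := (h.uniq R x s h').resolve_left fun e =>
    ny ((conj_mem_norm (E1.normU h (e ▸ h'.tri.xn))).2 hy)
  have zR : z ∈ R := h'.crit.cent z (EB.le h h.z_mem) fun r hr => h.cz r (h'.crit.le hr)
  have k : u ∈ R ∧ x * u * x⁻¹ ∉ closure {z, u} := by
    rcases h.memU.1 hy with e | e | e | e <;> rw [e] at ny yR
    · exact (ny (by simp)).elim
    · exact (ny (by rw [conj_eq_of_comm xz]; exact EB.zU)).elim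
    · exact ⟨yR, ny⟩
    · exact ⟨(mul_mem_cancel_right zR).1 yR, fun e' =>
        ny (by rw [conj_mul', conj_eq_of_comm xz]; exact mul_mem e' EB.zU)⟩
  exact ⟨R, x, s, h, h', (hE R x s h').1, xz, k.1, k.2⟩

end Cfsg.Agent.GHK
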