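import Mathlib
import Cfsg.Agent.GHK.Defs3
import Cfsg.Agent.GHK.XAa
import Cfsg.Agent.GHK.HamB

/-! A normal cyclic subgroup whose involution is moved: the end. See `stubs/Cfsg/Agent/GHK/PLAN2.md`. -/

set_option autoImplicit false
set_option linter.unusedSectionVars false

namespace Cfsg.Agent.GHK

open Cfsg.Agent.Inv.Fz Cfsg.Agent.NE Subgroup
open scoped commutatorElement

variable {G : Type*} [Group G] [Finite G] {S R K N Θ Θ' H : Subgroup G} {x s g v a b a' b' y : G} {n n' : ℕ}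

namespace XAb

theorem zz1 (h : orderOf a = 2 ^ n) (h1 : 1 ≤ n) : zz a n ≠ 1 := fun e => by
  have := Nat.le_of_dvd (by positivity) (orderOf_dvd_of_pow_eq_one e)
  rw [h, Nat.pow_le_pow_iff_right (by norm_num)] at this
  omega

theorem zz2 (h : orderOf a = 2 ^ n) (h1 : 1 ≤ n) : zz a n * zz a n = 1 := by
  rw [← pow_add, ← two_mul, ← pow_succ', Nat.sub_add_cancel h1, ← h, pow_orderOf_eq_one]

theorem sq_cases {z r : G} (hz : z * z = 1) (hr : r ∈ zpowers z) : r = 1 ∨ r = z := DihA.of_sq hz hr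

theorem tc (h : orderOf a = 2 ^ n) (h1 : 1 ≤ n) {r : G} (hr : r ∈ zpowers a) (h2 : r * r = 1) :
    r = 1 ∨ r = zz a n := by
  refine (em _).imp_right fun n1 => ?_
  exact ((sq_cases h2 (zz_mem h (zpowers_le.2 hr) (zpowers_ne_bot.2 n1))).resolve_left (zz1 h h1)).symm

theorem cnt {D Z : Subgroup G} {t : G} (h : ∀ d ∈ D, d * t * d⁻¹ * t⁻¹ ∈ Z) :
    Nat.card D ≤ Nat.card Z * Nat.card (D ⊓ centralizer {t} : Subgroup G) := by
  rw [card_eq_card_quotient_mul_card_subgroup ((centralizer {t}).subgroupOf D), ← inf_subgroupOf_left,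
    Nat.card_congr (subgroupOfEquivOfLe (inf_le_left : D ⊓ centralizer {t} ≤ D)).toEquiv,
    inf_subgroupOf_left]
  refine Nat.mul_le_mul_right _ (Nat.card_le_card_of_injective
    (fun q : D ⧸ (centralizer {t}).subgroupOf D => (⟨_, h q.out q.out.2⟩ : Z)) fun a b e => ?_)
  rw [← a.out_eq', ← b.out_eq', QuotientGroup.eq, mem_subgroupOf, mem_centralizer_singleton_iff]
  have e' : (a.out : G) * t * (a.out : G)⁻¹ = b.out * t * (b.out : G)⁻¹ :=
    mul_right_cancel (congrArg Subtype.val e)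
  rw [coe_mul, coe_inv, eq_comm]
  calc _ = (a.out : G)⁻¹ * (a.out * t * (a.out : G)⁻¹) * b.out := by group
    _ = _ := by rw [e']; group

theorem sq_mem {L : Subgroup G} (hL : L ≤ R) (h : Nat.card R ≤ 2 * Nat.card L) {r : G} (hr : r ∈ R) :
    r * r ∈ L := by
  have e := card_mul_relIndex hL
  have p : 0 < Nat.card L := Nat.card_pos
  have p' : 0 < Nat.card R := Nat.card_pos
  have : L.relIndex R = 1 ∨ L.relIndex R = 2 := by
    rcases hi : L.relIndex R with _ | _ | _ | i <;> rw [hi] at e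
    · omega
    · exact .inl rfl
    · exact .inr rfl
    · nlinarith
  rcases this with i | i
  · exact relIndex_eq_one.1 i (mul_mem hr hr)
  · exact mul_self_mem_of_index_two i ⟨r, hr⟩

/-- The letters of the configuration. -/
structure XL (S R T : Subgroup G) (a a' s e : G) (n k : ℕ) : Prop where
  two : 2 ≤ n
  ord : orderOf a = 2 ^ n
  ord' : orderOf a' = 2 ^ n
  eq : T = closure {a, a'}
  comm : Commute a a'
  disj : zpowers a ⊓ zpowers a' = ⊥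
  le : R ≤ S
  TR : T ≤ R
  eR : e ∈ R
  dec : ∀ r ∈ R, ∃ t ∈ T, ∃ d ∈ zpowers e, r = t * d
  td : T ⊓ zpowers e = ⊥
  sm : s ∈ S
  sn : s ∉ R
  ix : Ix S R s
  ss : s * s = 1
  se : Commute s e
  sa : s * a * s⁻¹ = a⁻¹
  sa' : s * a' * s⁻¹ = a * a'
  ea : e * a * e⁻¹ = a ^ k
  ea' : e * a' * e⁻¹ = a' ^ k

namespace XL

variable {T : Subgroup G} {e t t' r w : G} {k : ℕ} (h : XL S R T a a' s e n k)
include h

theorem one : 1 ≤ n := h.two.trans' (by norm_num)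
theorem aT : a ∈ T := h.eq ▸ subset_closure (by simp)
theorem aT' : a' ∈ T := h.eq ▸ subset_closure (by simp)

theorem mem (ht : t ∈ T) : ∃ p q : ℤ, t = a ^ p * a' ^ q := by
  rw [h.eq] at ht
  induction ht using closure_induction with
  | mem x hx =>
    rcases hx with rfl | rfl
    exacts [⟨1, 0, by simp⟩, ⟨0, 1, by simp⟩]
  | one => exact ⟨0, 0, by simp⟩
  | mul x y _ _ hx hy =>
    obtain ⟨p, q, rfl⟩ := hx
    obtain ⟨p', q', rfl⟩ := hy
    exact ⟨p + p', q + q', by rw [(h.comm.symm.zpow_zpow q p').mul_mul_mul_comm, zpow_add, zpow_add]⟩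
  | inv x _ hx =>
    obtain ⟨p, q, rfl⟩ := hx
    exact ⟨-p, -q, by rw [(h.comm.zpow_zpow p q).eq, mul_inv_rev, zpow_neg, zpow_neg]⟩

theorem cm (ht : t ∈ T) (ht' : t' ∈ T) : Commute t t' := by
  obtain ⟨p, q, rfl⟩ := h.mem ht
  obtain ⟨p', q', rfl⟩ := h.mem ht'
  exact ((Commute.zpow_zpow_self a p p').mul_right (h.comm.zpow_zpow p q')).mul_left
    ((h.comm.symm.zpow_zpow q p').mul_right (Commute.zpow_zpow_self a' q q'))

theorem fx (ht : t ∈ T) (ht' : t' ∈ T) : t * t' * t⁻¹ = t' := conj_eq_of_comm (h.cm ht ht')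

theorem pw (ht : t ∈ T) : t ^ 2 ^ n = 1 := by
  obtain ⟨p, q, rfl⟩ := h.mem ht
  rw [(h.comm.zpow_zpow p q).mul_pow, ← zpow_natCast, ← zpow_natCast, zpow_comm a, zpow_comm a', zpow_natCast,
    zpow_natCast, ← h.ord, pow_orderOf_eq_one, h.ord, ← h.ord', pow_orderOf_eq_one, one_zpow, one_zpow, mul_one]

theorem split {u v : G} (hu : u ∈ zpowers a) (hv : v ∈ zpowers a') (e : u * v = 1) : u = 1 ∧ v = 1 := by
  have : u = 1 := mem_bot.1 (h.disj ▸ mem_inf.2 ⟨hu, eq_inv_of_mul_eq_one_left e ▸ inv_mem hv⟩)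
  exact ⟨this, by rwa [this, one_mul] at e⟩

theorem sc (hr : r ∈ R) : ∃ κ : ℕ, Odd κ ∧ ∀ t ∈ T, r * t * r⁻¹ = t ^ κ := by
  have e1 : ∀ t ∈ T, e * t * e⁻¹ = t ^ k := fun t ht => by
    obtain ⟨p, q, rfl⟩ := h.mem ht
    rw [conj_mul', ← conj_zpow, ← conj_zpow, h.ea, h.ea', (h.comm.zpow_zpow p q).mul_pow, ← zpow_natCast,
      ← zpow_natCast, ← zpow_natCast, ← zpow_natCast, zpow_comm a, zpow_comm a']
  have e2 : ∀ i : ℕ, ∀ t ∈ T, e ^ i * t * (e ^ i)⁻¹ = t ^ k ^ i := fun i => by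
    induction i with
    | zero => simp
    | succ i ih => intro t ht; rw [pow_succ', ← conj_conj, ih t ht, ← conj_pow, e1 t ht, ← pow_mul, pow_succ']
  obtain ⟨t, ht, d, hd, rfl⟩ := h.dec r hr
  obtain ⟨i, rfl⟩ := (mem_powers_iff_mem_zpowers.2 hd : ∃ i : ℕ, e ^ i = d)
  have e3 : ∀ u ∈ T, t * e ^ i * u * (t * e ^ i)⁻¹ = u ^ k ^ i := fun u hu => by
    rw [← conj_conj, e2 i u hu, h.fx ht (pow_mem hu _)]
  refine ⟨k ^ i, Nat.not_even_iff_odd.1 fun ⟨j, hj⟩ => zz1 h.ord h.one ?_, e3⟩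
  have := e3 _ (pow_mem h.aT (2 ^ (n - 1)))
  rwa [hj, ← two_mul, pow_mul, pow_two, zz2 h.ord h.one, one_pow, conj_eq_one_iff] at this

theorem fo (hr : r ∈ R) (ht : t ∈ T) (h2 : t * t = 1) : r * t * r⁻¹ = t := by
  obtain ⟨κ, ⟨j, rfl⟩, e⟩ := h.sc hr
  rw [e t ht, pow_succ, pow_mul, pow_two, h2, one_pow, one_mul]

theorem decS (hy : y ∈ S) : ∃ t ∈ T, ∃ d ∈ zpowers e, (y ∈ R ∧ y = t * d) ∨ (y ∉ R ∧ y = t * (d * s)) := by
  by_cases l : y ∈ R
  · obtain ⟨t, ht, d, hd, e⟩ := h.dec y l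
    exact ⟨t, ht, d, hd, .inl ⟨l, e⟩⟩
  · obtain ⟨t, ht, d, hd, e⟩ := h.dec _ (h.ix.mul_mem hy h.sm l h.sn)
    exact ⟨t, ht, d, hd, .inr ⟨l, by rw [← mul_assoc, ← e, mul_assoc, h.ss, mul_one]⟩⟩

theorem sT (ht : t ∈ T) : s * t * s⁻¹ ∈ T := by
  obtain ⟨p, q, rfl⟩ := h.mem ht
  rw [conj_mul', ← conj_zpow, ← conj_zpow, h.sa, h.sa']
  exact mul_mem (zpow_mem (inv_mem h.aT) _) (zpow_mem (mul_mem h.aT h.aT') _)

theorem nT (hy : y ∈ S) (ht : t ∈ T) : y * t * y⁻¹ ∈ T := by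
  have a : ∀ r ∈ R, ∀ t ∈ T, r * t * r⁻¹ ∈ T := fun r hr t ht => by
    obtain ⟨κ, -, e⟩ := h.sc hr
    exact e t ht ▸ pow_mem ht _
  obtain ⟨u, hu, d, hd, ⟨l, -⟩ | ⟨-, rfl⟩⟩ := h.decS hy
  · exact a _ l t ht
  · rw [← mul_assoc u, ← conj_conj]
    exact a _ (mul_mem (h.TR hu) (zpowers_le.2 h.eR hd)) _ (h.sT ht)

theorem decA (hy : y ∈ S) : ∃ t ∈ T, ∃ α ∈ S, Commute α e ∧ Commute α s ∧ (α ∈ zpowers e ∨ α * s ∈ zpowers e) ∧
    y = t * α := by
  obtain ⟨t, ht, d, hd, ⟨-, rfl⟩ | ⟨-, rfl⟩⟩ := h.decS hy <;>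
    have a : Commute e d := comm_zpowers rfl hd <;> have b : Commute s d := comm_zpowers h.se hd <;>
    have c := h.le (zpowers_le.2 h.eR hd)
  · exact ⟨t, ht, d, c, a.symm, b.symm, .inl hd, rfl⟩
  · exact ⟨t, ht, d * s, mul_mem c h.sm, a.symm.mul_left h.se, b.symm.mul_left (.refl s),
      .inr (by rwa [mul_assoc, h.ss, mul_one]), rfl⟩

omit h in
theorem cf {α β : G} (c : Commute α β) :
    ⁅t * α, t' * β⁆ = t * (α * t' * α⁻¹) * (β * t⁻¹ * β⁻¹) * t'⁻¹ := by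
  rw [commutatorElement_def, show t * α * (t' * β) * (t * α)⁻¹ * (t' * β)⁻¹ =
    t * (α * t' * α⁻¹) * (α * β * α⁻¹ * t⁻¹ * β⁻¹) * t'⁻¹ by group, c.eq, mul_inv_cancel_right]

theorem cT (hy : y ∈ S) (hw : w ∈ S) : ⁅y, w⁆ ∈ T := by
  obtain ⟨t, ht, α, a0, a1, a2, -, rfl⟩ := h.decA hy
  obtain ⟨t', ht', β, b0, -, -, b3, rfl⟩ := h.decA hw
  have c : Commute α β := by
    rcases b3 with b3 | b3
    · exact comm_zpowers a1 b3
    · simpa using Commute.mul_right (comm_zpowers a1 b3) a2.inv_right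
  rw [cf c]
  exact mul_mem (mul_mem (mul_mem ht (h.nT a0 ht')) (h.nT b0 (inv_mem ht))) (inv_mem ht')

theorem zT : zz a n ∈ T := pow_mem h.aT _
theorem zT' : zz a' n ∈ T := pow_mem h.aT' _

theorem sz : s * zz a n * s⁻¹ = zz a n := by
  rw [← conj_pow, h.sa, inv_pow, inv_of_sq (zz2 h.ord h.one)]

theorem om (ht : t ∈ T) (h2 : t * t = 1) :
    t ∈ zpowers (zz a n) ∨ zz a' n * t ∈ zpowers (zz a n) := by
  obtain ⟨p, q, rfl⟩ := h.mem ht
  rw [(h.comm.symm.zpow_zpow q p).mul_mul_mul_comm] at h2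
  obtain ⟨a1, a2⟩ := h.split (mul_mem (zpow_mem_zpowers a p) (zpow_mem_zpowers a p))
    (mul_mem (zpow_mem_zpowers a' q) (zpow_mem_zpowers a' q)) h2
  have b : a ^ p ∈ zpowers (zz a n) := by
    rcases tc h.ord h.one (zpow_mem_zpowers a p) a1 with e | e <;> rw [e]
    exacts [one_mem _, mem_zpowers _]
  rcases tc h.ord' h.one (zpow_mem_zpowers a' q) a2 with e | e <;> rw [e]
  · exact .inl (by rwa [mul_one])
  · right
    rwa [← mul_assoc, (h.cm h.zT' (zpow_mem h.aT p)).eq, mul_assoc, zz2 h.ord' h.one, mul_one]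

theorem out (hy : y ∈ S) (l : y ∉ R) (ht : t ∈ T) (h2 : t * t = 1) (c : y * t * y⁻¹ = t) :
    t ∈ zpowers (zz a n) := by
  have r : s * y ∈ R := (h.ix y hy).resolve_left l
  have e1 := h.fo r ht h2
  rw [← conj_conj, c] at e1
  refine (h.om ht h2).resolve_right fun m => zz1 h.ord h.one ?_
  have e2 : s * (zz a' n * t) * s⁻¹ = zz a' n * t := conj_eq_of_comm (comm_zpowers (comm_of_conj_eq h.sz) m)
  rwa [conj_mul', e1, mul_left_inj, ← conj_pow, h.sa', h.comm.mul_pow, mul_eq_right] at e2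

theorem czz : Cz (zz a n) S := fun y hy => by
  obtain ⟨t, ht, d, hd, ⟨l, -⟩ | ⟨-, rfl⟩⟩ := h.decS hy
  · exact (comm_of_conj_eq (h.fo l h.zT (zz2 h.ord h.one))).symm
  · refine (comm_of_conj_eq ?_).symm
    rw [← mul_assoc t, ← conj_conj, h.sz,
      h.fo (mul_mem (h.TR ht) (zpowers_le.2 h.eR hd)) h.zT (zz2 h.ord h.one)]

theorem card_z : Nat.card (zpowers (zz a n)) = 2 := by
  rw [Nat.card_zpowers]
  exact orderOf_eq_prime (by rw [pow_two, zz2 h.ord h.one]) (zz1 h.ord h.one)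

theorem sq_z : ∀ u ∈ zpowers (zz a n), u * u = 1 := fun u hu => by
  rcases sq_cases (zz2 h.ord h.one) hu with rfl | rfl
  exacts [mul_one _, zz2 h.ord h.one]

theorem exU : ∃ U : Subgroup G, El 4 U ∧ ∀ u, u ∈ U ↔ u ∈ T ∧ u * u = 1 := by
  obtain ⟨a1, a2, a3⟩ := ext_elem h.sq_z (zz2 h.ord' h.one) fun u hu =>
    h.cm h.zT' (zpowers_le.2 h.zT hu)
  refine ⟨_, ⟨by rw [a3 fun l => zz1 h.ord' h.one (mem_bot.1 (h.disj ▸
    ⟨zpowers_le.2 (pow_mem (mem_zpowers a) _) l, pow_mem (mem_zpowers a') _⟩)), h.card_z], a2⟩, fun u =>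
    ⟨fun hu => ⟨ext_le.2 ⟨zpowers_le.2 h.zT, h.zT'⟩ hu, a2 u hu⟩, fun hu => (a1 u).2 (h.om hu.1 hu.2)⟩⟩

theorem conj_s (ht : t ∈ T) (h2 : t * s * (t * s) = 1) : IsConj (t * s) s := by
  obtain ⟨p, q, rfl⟩ := h.mem ht
  have e1 : a ^ q * (a' ^ q * a' ^ q) = 1 := by
    rw [← h2, show a ^ p * a' ^ q * s * (a ^ p * a' ^ q * s) =
      a ^ p * a' ^ q * (s * (a ^ p * a' ^ q) * s⁻¹) * (s * s) by group, h.ss, mul_one, conj_mul', ← conj_zpow,
      ← conj_zpow, h.sa, h.sa', inv_zpow, ← mul_assoc (a ^ p * a' ^ q), h.fx (zpow_mem h.aT p) (zpow_mem h.aT' q),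
      h.comm.mul_zpow, ← mul_assoc, ← mul_assoc, (h.comm.zpow_zpow q q).eq]
  have e2 := (h.split (zpow_mem_zpowers a q) (mul_mem (zpow_mem_zpowers a' q) (zpow_mem_zpowers a' q)) e1).1
  rw [← orderOf_dvd_iff_zpow_eq_one, h.ord, ← h.ord', orderOf_dvd_iff_zpow_eq_one] at e2
  rw [e2, mul_one]
  refine (isConj_iff.2 ⟨(a' ^ p)⁻¹, ?_⟩).symm
  rw [inv_inv, show (a' ^ p)⁻¹ * s * a' ^ p = (a' ^ p)⁻¹ * (s * a' ^ p * s⁻¹) * s by group, ← conj_zpow, h.sa',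
    h.comm.mul_zpow, (h.comm.zpow_zpow p p).eq, inv_mul_cancel_left]

theorem jj2 : jj a n * jj a n = zz a n := by
  have := h.two
  rw [← pow_add, ← two_mul, ← pow_succ', show n - 2 + 1 = n - 1 by omega]

theorem four (ht : t ∈ T) : (t ^ 2 ^ (n - 2)) ^ 4 = 1 := by
  have := h.two
  rw [← pow_mul, ← h.pw ht, show 4 = 2 ^ 2 from rfl, ← pow_add, show n - 2 + 2 = n by omega]

omit h in
theorem mod4 {κ i : ℕ} (h4 : t ^ 4 = 1) (e : κ % 4 = i) : t ^ κ = t ^ i := by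
  rw [← e, ← pow_mod_orderOf, ← pow_mod_orderOf t (κ % 4), Nat.mod_mod_of_dvd _ (orderOf_dvd_of_pow_eq_one h4)]

end XL

variable {T : Subgroup G} {e : G} {k : ℕ} (c : Ctx G) (h : XL c.S R T a a' s e n k)
include h

theorem case0 (e1 : e = 1) : False := by
  obtain ⟨E, hE, el⟩ := c.rank3
  obtain ⟨U, hU, mU⟩ := h.exU
  have TR : R ≤ T := fun r hr => by
    obtain ⟨t, ht, d, hd, rfl⟩ := h.dec r hr
    rw [e1, zpowers_one_eq_bot, mem_bot] at hd
    rwa [hd, mul_one]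
  by_cases l : E ≤ R
  · have := card_le_of_le (fun u hu => (mU u).2 ⟨TR (l hu), el.sq u hu⟩ : E ≤ U)
    rw [el.card, hU.card] at this
    omega
  obtain ⟨y, hy, yR⟩ := SetLike.not_le_iff_exists.1 l
  obtain ⟨a1, -, a3⟩ := ext_elem h.sq_z (el.sq y hy) fun u hu => comm_zpowers (h.czz y (hE hy)).symm hu
  have k : ∀ u ∈ E, u ∈ R → u ∈ zpowers (zz a n) := fun u hu uR =>
    h.out (hE hy) yR (TR uR) (el.sq u hu) (conj_eq_of_comm (comm_of_sq el.sq hy hu))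
  have := card_le_of_le (fun u hu => (a1 u).2 ((em (u ∈ R)).imp (k u hu) fun uR =>
    k _ (mul_mem hy hu) (h.ix.mul_mem (hE hy) (hE hu) yR uR)) : E ≤ ext (zpowers (zz a n)) y)
  rw [el.card, a3 fun m => yR (h.TR (zpowers_le.2 h.zT m)), h.card_z] at this
  omega

theorem conj_d (hz : ∀ v ∈ T, v ≠ 1 → v * v = 1 → IsConj v (zz a n)) (hs : IsConj s (zz a n)) {r : ℕ}
    (o : orderOf e = 2 ^ r) (r1 : 1 ≤ r) : IsConj (zz e r) (zz a n) := by
  have sN : s ∈ normalizer (T : Set G) := mem_normalizer_of_conj_mem fun t ht => h.sT ht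
  have mM := fun g => mem_ext (g := g) sN (h.ss ▸ one_mem T)
  have cM : ∀ y ∈ c.S, ∀ w ∈ c.S, y * w * y⁻¹ * w⁻¹ ∈ ext T s := fun y hy w hw => le_ext T s (h.cT hy hw)
  have dM : ∀ y ∈ c.S, y * y ∈ ext T s → y ∉ ext T s → y * zz e r ∈ ext T s := fun y hy y2 yn => by
    obtain ⟨μ, hμ, d, hd, rfl⟩ : ∃ μ ∈ ext T s, ∃ d ∈ zpowers e, y = μ * d := by
      obtain ⟨t, ht, d, hd, ⟨-, e⟩ | ⟨-, e⟩⟩ := h.decS hy
      · exact ⟨t, le_ext T s ht, d, hd, e⟩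
      · exact ⟨t * s, mul_mem (le_ext T s ht) (self_mem_ext T s), d, hd, by
          rw [e, mul_assoc, comm_zpowers h.se hd]⟩
    have dR := zpowers_le.2 h.eR hd
    have μS : μ ∈ c.S := ext_le.2 ⟨h.TR.trans h.le, h.sm⟩ hμ
    rw [show μ * d * (μ * d) = μ * (d * μ * d⁻¹ * μ⁻¹) * μ * (d * d) by group,
      mul_mem_cancel_left (mul_mem (mul_mem hμ (cM _ (h.le dR) _ μS)) hμ), mM] at y2
    have d2 : d * d = 1 := mem_bot.1 (h.td ▸ ⟨y2.resolve_right fun l =>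
      h.sn ((mul_mem_cancel_right (mul_mem dR dR)).1 (h.TR l)), mul_mem hd hd⟩)
    rcases tc o r1 hd d2 with rfl | rfl
    · exact absurd (by rwa [mul_one]) yn
    · rwa [mul_assoc, d2, mul_one]
  have fS : zz e r ∈ c.S := pow_mem (h.le h.eR) _
  obtain ⟨g, g1, -, -⟩ := c.noIdx.transfer c.syl cM (fun y hy w hw y2 w2 yn wn => by
    have := mul_mem (mul_mem (dM y hy y2 yn) (cM _ fS w hw)) (dM w hw w2 wn)
    rwa [show y * zz e r * (zz e r * w * (zz e r)⁻¹ * w⁻¹) * (w * zz e r) = y * (zz e r * zz e r) * w by group,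
      zz2 o r1, mul_one] at this) (zz2 o r1) (IsPGroup.of_bot (p := 2) (G := G))
    fun u hu => by rw [mem_bot.1 hu, mul_one, one_mul]
  have g2 : g * zz e r * g⁻¹ * (g * zz e r * g⁻¹) = 1 := by rw [← conj_mul', zz2 o r1, mul_one, mul_inv_cancel]
  refine (isConj_iff.2 ⟨g, rfl⟩).trans ?_
  rcases (mM _).1 g1 with l | l
  · exact hz _ l (fun e => zz1 o r1 (conj_eq_one_iff.1 e)) g2
  · have e0 := h.sT l
    have e' : s * (s * (g * zz e r * g⁻¹)) * s⁻¹ * s = g * zz e r * g⁻¹ := by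
      rw [inv_mul_cancel_right, sq_cancel h.ss]
    exact e' ▸ (h.conj_s e0 (by rw [e', g2])).trans hs

theorem caseA {f : G} (fe : f ∈ zpowers e) (f1 : f ≠ 1) (f2 : f * f = 1) (hf : IsConj f (zz a n)) {κ : ℕ}
    (e4 : κ % 4 = 1) (sf : ∀ t ∈ T, f * t * f⁻¹ = t ^ κ) : False := by
  obtain ⟨U, hU, mU⟩ := h.exU
  have fT : f ∉ T := fun l => f1 (mem_bot.1 (h.td ▸ ⟨l, fe⟩))
  have fS := h.le (zpowers_le.2 h.eR fe)
  have cls : ∀ y ∈ c.S, y * f * y⁻¹ * f⁻¹ ∈ U := fun y hy => by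
    have m : y * f * y⁻¹ * f⁻¹ ∈ T := h.cT hy fS
    have i : f * (y * f * y⁻¹ * f⁻¹) * f⁻¹ = (y * f * y⁻¹ * f⁻¹)⁻¹ := by
      rw [show f * (y * f * y⁻¹ * f⁻¹) * f⁻¹ = f * y * f * y⁻¹ * (f * f)⁻¹ by group, f2]
      rw [inv_one, mul_one, mul_inv_rev, mul_inv_rev, mul_inv_rev, inv_inv, inv_inv, inv_of_sq f2]
      simp only [mul_assoc]
    refine (mU _).2 ⟨m, ?_⟩
    generalize y * f * y⁻¹ * f⁻¹ = w at m i
    rw [sf w m, ← mul_eq_one_iff_eq_inv, ← pow_succ, show κ + 1 = 2 * (2 * (κ / 4) + 1) by omega, pow_mul,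
      pow_two] at i
    have := DihA.odd_gen (h.pw (mul_mem m m)) (odd_two_mul_add_one (κ / 4))
    rwa [i, zpowers_one_eq_bot, mem_bot] at this
  have cd := cnt cls
  set C := c.S ⊓ centralizer {f}
  obtain ⟨g, g1, g2⟩ := c.extremal (h.le (h.TR h.zT)) h.czz hf (c.pS.to_le (inf_le_left : C ≤ c.S))
    fun r hr => (mem_centralizer_singleton_iff.1 hr.2).symm
  have nz : zz a n ∉ cj g T := fun l => fT (by rwa [← g1, conj_mem_cj] at l)
  by_cases l : cj g C ≤ R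
  swap
  · obtain ⟨_, ⟨u, hu, rfl⟩, yR⟩ := SetLike.not_le_iff_exists.1 l
    have sC : s ∈ C := ⟨h.sm, mem_centralizer_singleton_iff.2 (comm_zpowers h.se fe)⟩
    have zC : zz a' n ∈ C := ⟨h.le (h.TR h.zT'), mem_centralizer_singleton_iff.2 (comm_of_conj_eq
      (h.fo (zpowers_le.2 h.eR fe) h.zT' (zz2 h.ord' h.one))).symm⟩
    have m := h.cT (g2 (conj_mem_cj.2 sC)) (g2 (conj_mem_cj.2 zC))
    rw [← conjugate_commutatorElement, commutatorElement_def, ← conj_pow, h.sa', h.comm.mul_pow,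
      mul_inv_cancel_right] at m
    have := h.out (g2 ⟨u, hu, rfl⟩) yR m (by rw [← conj_mul', zz2 h.ord h.one, mul_one, mul_inv_cancel])
      (conj_eq_of_comm (conj_comm g (h.czz u hu.1).symm))
    rcases sq_cases (zz2 h.ord h.one) this with e | e
    · exact zz1 h.ord h.one (conj_eq_one_iff.1 e)
    · exact nz (e ▸ conj_mem_cj.2 h.zT)
  have a2 : a * a ∈ cj g C := sq_mem l (by
    rw [h.ix.card h.le h.sm h.sn, hU.card] at cd
    rw [card_cj]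
    omega) (h.TR h.aT)
  have key : ∀ r ∈ cj g C, ∀ t ∈ T, ∃ u ∈ U, r * t * r⁻¹ = u * t := fun r hr t ht => by
    obtain ⟨κ, -, e⟩ := h.sc (l hr)
    have m : ⁅r, a * a⁆ ∈ zpowers a ⊓ cj g T := by
      refine mem_inf.2 ⟨?_, ?_⟩
      · rw [commutatorElement_def, e _ (mul_mem h.aT h.aT)]
        exact mul_mem (pow_mem (mul_mem (mem_zpowers a) (mem_zpowers a)) _)
          (inv_mem (mul_mem (mem_zpowers a) (mem_zpowers a)))
      · have := h.cT (mem_cj.1 hr).1 (mem_cj.1 a2).1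
        rw [mem_cj]
        convert this using 1
        simp only [commutatorElement_def]
        group
    have m1 : ⁅r, a * a⁆ = 1 := by
      by_contra n1
      exact nz (zz_mem h.ord (inf_le_left : zpowers a ⊓ cj g T ≤ _)
        (fun e => n1 (mem_bot.1 (e ▸ m)))).2
    rw [commutatorElement_def, e _ (mul_mem h.aT h.aT), mul_inv_eq_one, ← pow_two, ← pow_mul,
      pow_eq_pow_iff_modEq, h.ord] at m1
    have m2 : t ^ (2 * κ) = t ^ 2 :=
      pow_eq_pow_iff_modEq.2 (m1.of_dvd (orderOf_dvd_of_pow_eq_one (h.pw ht)))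
    refine ⟨t ^ κ * t⁻¹, (mU _).2 ⟨mul_mem (pow_mem ht _) (inv_mem ht), ?_⟩, by rw [e t ht]; group⟩
    rw [show t ^ κ * t⁻¹ * (t ^ κ * t⁻¹) = t ^ (2 * κ) * (t ^ 2)⁻¹ by group, m2, mul_inv_cancel]
  have sC : g * s * g⁻¹ ∈ cj g C :=
    conj_mem_cj.2 ⟨h.sm, mem_centralizer_singleton_iff.2 (comm_zpowers h.se fe)⟩
  have jC : g * jj a' n * g⁻¹ ∈ cj g C := conj_mem_cj.2 ⟨h.le (h.TR (pow_mem h.aT' _)),
    mem_centralizer_singleton_iff.2 (comm_of_conj_eq (by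
      rw [sf _ (pow_mem h.aT' _), XL.mod4 (h.four h.aT') e4, pow_one])).symm⟩
  have e1 : ⁅g * s * g⁻¹, g * jj a' n * g⁻¹⁆ = g * jj a n * g⁻¹ := by
    rw [← conjugate_commutatorElement, commutatorElement_def, ← conj_pow, h.sa', h.comm.mul_pow,
      mul_inv_cancel_right]
  obtain ⟨t1, h1, d1, m1, x1⟩ := h.dec _ (l sC)
  obtain ⟨t2, h2, d2, m2, x2⟩ := h.dec _ (l jC)
  obtain ⟨u1, v1, y1⟩ := key _ sC t2 h2
  obtain ⟨u2, v2, y2⟩ := key _ jC _ (inv_mem h1)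
  have dS := fun d (hd : d ∈ zpowers e) => h.le (zpowers_le.2 h.eR hd)
  rw [x1, ← conj_conj, h.fx h1 (h.nT (dS _ m1) h2)] at y1
  rw [x2, ← conj_conj, h.fx h2 (h.nT (dS _ m2) (inv_mem h1))] at y2
  have w1 := ((mU _).1 v1).1
  have w2 := ((mU _).1 v2).1
  rw [x1, x2, XL.cf (comm_zpowers (comm_zpowers rfl m1).symm m2), y1, y2,
    show t1 * (u1 * t2) * (u2 * t1⁻¹) * t2⁻¹ = t1 * (u1 * t2 * u2) * t1⁻¹ * t2⁻¹ by group,
    h.fx h1 (mul_mem (mul_mem w1 h2) w2), mul_assoc, mul_assoc, ← mul_assoc t2, h.fx h2 w2] at e1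
  have := hU.sq _ (mul_mem v1 v2)
  rw [e1, ← conj_mul', h.jj2, conj_eq_one_iff] at this
  exact zz1 h.ord h.one this

theorem caseB (hz : ∀ v ∈ T, v ≠ 1 → v * v = 1 → IsConj v (zz a n)) (e2 : e * e = 1) {κ : ℕ}
    (e4 : κ % 4 = 3) (se : ∀ t ∈ T, e * t * e⁻¹ = t ^ κ) : False := by
  have a4 : ∀ i, a ^ (4 * (2 * i + 1)) = 1 → n = 2 := fun i e => by
    rw [pow_mul] at e
    have := DihA.odd_gen (h.pw (pow_mem h.aT 4)) (odd_two_mul_add_one i)
    rw [e, zpowers_one_eq_bot, mem_bot, ← orderOf_dvd_iff_pow_eq_one, h.ord, show 4 = 2 ^ 2 from rfl,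
      Nat.pow_dvd_pow_iff_le_right (by norm_num)] at this
    exact le_antisymm this h.two
  have a2 : a * a ≠ 1 := fun e => by
    rw [← pow_two, ← orderOf_dvd_iff_pow_eq_one, h.ord] at e
    have := (Nat.pow_dvd_pow_iff_le_right (k := n) (l := 1) (by norm_num : 1 < 2)).1 e
    have := h.two
    omega
  by_cases n2 : n = 2
  · subst n2
    have p4 : a' ^ 4 = 1 := h.pw h.aT'
    refine c.not_gs (k := 0) (a := a') (b := a * a') (t := s) (u := e) ⟨p4, by rw [← mul_assoc, h.comm.eq],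
      h.ss, e2, h.se, by rw [← h.sa', inv_mul_cancel_right], ?_⟩ (fun l => a2 ?_) (le_antisymm (fun y hy => ?_) ?_)
    · rw [← mul_inv_eq_iff_eq_mul, se _ h.aT', XL.mod4 p4 e4, ← mul_eq_one_iff_eq_inv, ← pow_succ, p4]
    · rwa [← mul_assoc, ← h.comm.eq, mul_assoc, (h.comm.mul_right h.comm).mul_pow, ← pow_two, ← pow_mul,
        show a' ^ (2 * 2 ^ (0 + 1)) = 1 from p4, mul_one, zero_add, pow_one, pow_two] at l
    · set X := closure ({a', a * a', s, e} : Set G)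
      have m1 : a' ∈ X := subset_closure (by simp)
      have m2 : a * a' ∈ X := subset_closure (by simp)
      have TX : T ≤ X := h.eq ▸ (closure_le _).2 (by
        rintro _ (rfl | rfl)
        exacts [(mul_mem_cancel_right m1).1 m2, m1])
      have eX : zpowers e ≤ X := zpowers_le.2 (subset_closure (by simp))
      obtain ⟨t, ht, d, hd, ⟨-, rfl⟩ | ⟨-, rfl⟩⟩ := h.decS hy
      exacts [mul_mem (TX ht) (eX hd), mul_mem (TX ht) (mul_mem (eX hd) (subset_closure (by simp)))]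
    · refine (closure_le _).2 ?_
      rintro _ (rfl | rfl | rfl | rfl)
      exacts [h.le (h.TR h.aT'), h.le (h.TR (mul_mem h.aT h.aT')), h.sm, h.le h.eR]
  obtain ⟨U, hU, mU⟩ := h.exU
  refine c.not_b8 hU (fun u hu => h.le (h.TR ((mU u).1 hu).1))
    (fun y hy => mem_normalizer_of_conj_mem fun u hu => (mU _).2 ⟨h.nT hy ((mU u).1 hu).1, by
      rw [← conj_mul', hU.sq u hu, mul_one, mul_inv_cancel]⟩)
    (fun u hu v hv u1 v1 => (hz u ((mU u).1 hu).1 u1 (hU.sq u hu)).trans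
      (hz v ((mU v).1 hv).1 v1 (hU.sq v hv)).symm) fun E hE nE sq => ?_
  refine hU.card ▸ card_le_of_le fun y hy => (mU y).2 ⟨?_, sq y hy⟩
  have k : ∀ t ∈ T, y * t * y⁻¹ * (y * t * y⁻¹) = t * t := fun t ht => by
    have := sq _ (mul_mem hy ((conj_mem_norm (nE (h.le (h.TR ht)))).2 (inv_mem hy)))
    rwa [show y * (t * y⁻¹ * t⁻¹) * (y * (t * y⁻¹ * t⁻¹)) = y * t * y⁻¹ * t⁻¹ * (y * t * y⁻¹ * t⁻¹) by group,
      (h.cm (inv_mem ht) (h.nT (hE hy) ht)).mul_mul_mul_comm, ← mul_inv_rev, mul_inv_eq_one] at this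
  obtain ⟨t, ht, d, hd, ⟨-, rfl⟩ | ⟨-, rfl⟩⟩ := h.decS (hE hy)
  · rcases sq_cases e2 hd with rfl | rfl
    · rwa [mul_one]
    · have := k a h.aT
      rw [← conj_conj, se a h.aT, h.fx ht (pow_mem h.aT _), ← pow_add,
        show κ + κ = 4 * (2 * (κ / 4) + 1) + 2 by omega, pow_add, pow_two, mul_eq_right] at this
      exact absurd (a4 _ this) n2
  · obtain ⟨κ', ⟨j, rfl⟩, e⟩ := h.sc (mul_mem (h.TR ht) (zpowers_le.2 h.eR hd))
    have := k a' h.aT'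
    rw [← mul_assoc t, ← conj_conj, h.sa', e _ (mul_mem h.aT h.aT'), h.comm.mul_pow,
      (h.comm.symm.pow_pow _ _).mul_mul_mul_comm, ← mul_inv_eq_one, mul_assoc] at this
    have m := pow_mem (mem_zpowers a) (2 * j + 1)
    have m' := pow_mem (mem_zpowers a') (2 * j + 1)
    have e1 := (h.split (mul_mem m m) (mul_mem (mul_mem m' m')
      (inv_mem (mul_mem (mem_zpowers a') (mem_zpowers a')))) this).1
    have := DihA.odd_gen (h.pw (mul_mem h.aT h.aT)) (odd_two_mul_add_one j)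
    rw [(Commute.refl a).mul_pow, e1, zpowers_one_eq_bot, mem_bot] at this
    exact absurd this a2

theorem fin (hz : ∀ v ∈ T, v ≠ 1 → v * v = 1 → IsConj v (zz a n)) (hs : IsConj s (zz a n)) : False := by
  by_cases e1 : e = 1
  · exact case0 c h e1
  obtain ⟨r, o⟩ : ∃ r, orderOf e = 2 ^ r := by
    obtain ⟨r, hr⟩ := IsPGroup.iff_orderOf.1 c.pS ⟨e, h.le h.eR⟩
    exact ⟨r, by rw [← hr, orderOf_mk]⟩
  have r1 : 1 ≤ r := Nat.pos_of_ne_zero fun l => e1 (orderOf_eq_one_iff.1 (by rw [o, l, pow_zero]))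
  obtain ⟨κ, ⟨j, hj⟩, sf⟩ := h.sc (pow_mem h.eR (2 ^ (r - 1)))
  by_cases e4 : κ % 4 = 1
  · exact caseA c h (pow_mem (mem_zpowers e) _) (zz1 o r1) (zz2 o r1) (conj_d c h hz hs o r1) e4 sf
  have e3 : κ % 4 = 3 := by omega
  obtain rfl : r = 1 := by
    by_contra n1
    obtain ⟨κ', ⟨i, rfl⟩, sf'⟩ := h.sc (pow_mem h.eR (2 ^ (r - 2)))
    have jT : jj a n ∈ T := pow_mem h.aT _
    have := sf _ jT
    rw [show r - 1 = r - 2 + 1 by omega, pow_succ, pow_mul, pow_two, ← conj_conj, sf' _ jT,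
      sf' _ (pow_mem jT _), ← pow_mul, XL.mod4 (h.four h.aT) e3,
      XL.mod4 (i := 1) (h.four h.aT) (by
        rw [show (2 * i + 1) * (2 * i + 1) = 1 + 4 * (i * i + i) by ring, Nat.add_mul_mod_self_left]),
      pow_one, pow_succ, pow_two, h.jj2, eq_comm, mul_eq_right] at this
    exact zz1 h.ord h.one this
  exact caseB c h hz (by simpa [zz] using zz2 o r1) e3 (by simpa using sf)

end XAb

theorem Ctx.x2a_end (c : Ctx G) (h : XA c.S R x s a b n) {t : G} (ht : t ∈ supp R x) (h2 : b * t * (b * t) = 1)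
    (hc : IsConj (b * t) (zz a n)) : False := by
  obtain ⟨s₁, e, k, l1, l2, l3, l4, l5, l6, l7, l8, l9⟩ := h.letters
  obtain ⟨hm, hd⟩ := h.hom
  have TR := supp_le h.loc.tri.xn
  have sn : s₁ ∉ R := fun l => h.b_not (inv_mem_iff.1 ((mul_mem_cancel_right l).1 (TR l2)))
  have X : XAb.XL c.S R (supp R x) a (x * a * x⁻¹) s₁ e n k :=
    ⟨h.two, h.ord, (BsA.ord_cj x a).trans h.ord, hm.eq, hm.comm, hm.disj, h.loc.le, TR,
      (l4.ge (mem_zpowers e)).1, fun r hr => l4 ▸ h.loc.tri.od.decomp hr, l4 ▸ hd, l1, sn,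
      fun y hy => (em _).imp_right fun l => h.loc.ix.mul_mem l1 hy sn l, l3, l5, l6, l7, l8, l9⟩
  have m := X.sT (mul_mem (inv_mem l2) ht)
  have e : s₁ * ((b⁻¹ * s₁)⁻¹ * t) * s₁⁻¹ * s₁ = b * t := by group
  exact XAb.fin c X (fun v hv => h.conj_z hv) ((X.conj_s m (by rw [e, h2])).symm.trans (e ▸ hc))

end Cfsg.Agent.GHK
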