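import Mathlib
import Cfsg.Agent.GHK.Defs3
import Cfsg.Agent.GHK.EB
import Cfsg.Agent.GHK.CIa
import Cfsg.Agent.S3105
import Cfsg.Agent.S3106

/-! All triples of index two: `N(F)` induces `L₃(2)`. See `stubs/Cfsg/Agent/GHK/PLAN2.md`. -/

set_option autoImplicit false
set_option linter.unusedSectionVars false

namespace Cfsg.Agent.GHK

open Cfsg.Agent.Inv.Fz Cfsg.Agent.NE Subgroup
open scoped commutatorElement

variable {G : Type*} [Group G] [Finite G] {S R₁ R₂ F : Subgroup G} {ρ s₁ z u x s₂ f v w a : G}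

namespace E5a

/-- `g` induces on `F` the transvection with axis `W` and centre `c`. -/
def Tr (F : Subgroup G) (g : G) (W : Subgroup G) (c : G) : Prop :=
  ∀ v ∈ F, (v ∈ W → g * v * g⁻¹ = v) ∧ (v ∉ W → g * v * g⁻¹ = v * c)

theorem Tr.cj {g c k : G} {W : Subgroup G} (h : Tr F g W c) (hk : k ∈ normalizer (F : Set G)) :
    Tr F (k * g * k⁻¹) (cj k W) (k * c * k⁻¹) := fun v hv => by
  obtain ⟨v, rfl⟩ : ∃ w, v = k * w * k⁻¹ := ⟨k⁻¹ * v * k, by group⟩
  obtain ⟨h1, h2⟩ := h v ((conj_mem_norm hk).1 hv)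
  rw [conj_mem_cj, conj_inv, conj_mul, conj_mul, conj_mul]
  exact ⟨fun e => by rw [h1 e], fun e => by rw [h2 e]⟩

theorem z4 {C : Type*} [Group C] (e : C ≃* Multiplicative (ZMod 4) × (Fin 3 → Multiplicative (ZMod 2))) :
    ∃ y : C, y * y ≠ 1 ∧ y * y * (y * y) = 1 ∧ ∀ r : C, r * r = 1 ∨ r * r = y * y := by
  obtain ⟨y, hy⟩ := e.surjective (Multiplicative.ofAdd 1, 1)
  have k2 : ∀ t : Multiplicative (ZMod 2), t * t = 1 := by decide
  have k4 : ∀ t : Multiplicative (ZMod 4), t * t = 1 ∨ t * t = Multiplicative.ofAdd 1 * Multiplicative.ofAdd 1 := by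
    decide
  refine ⟨y, fun k => ?_, e.injective ?_, fun r => (k4 (e r).1).imp
    (fun k => e.injective (by rw [map_mul, map_one]; exact Prod.ext k (funext fun i => k2 _)))
    fun k => e.injective (by rw [map_mul, map_mul, hy]; exact Prod.ext k (funext fun i => k2 _))⟩
  · have := congrArg Prod.fst (congrArg e k)
    rw [map_mul, hy, e.map_one] at this
    exact absurd this (by decide)
  · simp only [map_mul, hy, e.map_one]
    decide

theorem cz_conj {g : G} (hg : g ∈ normalizer (F : Set G)) (h : Cz a F) : Cz (g * a * g⁻¹) F := by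
  have := (BsA.cz_cj (g := g)).2 h
  rwa [cj_eq_iff.2 hg] at this

variable (h : EF S R₁ ρ s₁ z u R₂ x s₂ f F)
include h

theorem mz : z ∈ F := h.F_eq.ge (subset_closure (by simp))
theorem mu : u ∈ F := h.F_eq.ge (subset_closure (by simp))
theorem mf : f ∈ F := h.F_eq.ge (subset_closure (by simp))

theorem le_of {W : Subgroup G} (h1 : z ∈ W) (h2 : u ∈ W) (h3 : f ∈ W) : F ≤ W := by
  rw [h.F_eq, closure_le]
  simp [Set.insert_subset_iff, h1, h2, h3]

theorem cF {v w : G} (hv : v ∈ F) (hw : w ∈ F) : v * w = w * v := comm_of_sq h.elF.sq hv hw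

theorem tr_of {g : G} (h1 : g * z * g⁻¹ = z) (h2 : g * u * g⁻¹ = u) (h3 : g * f * g⁻¹ = f * z) :
    Tr F g (closure {z, u}) z := fun v hv => by
  have k : ∀ w ∈ closure {z, u}, g * w * g⁻¹ = w := fun w hw => by
    rcases h.toEH.toEC.memU.1 hw with e | e | e | e <;> rw [e]
    exacts [by simp, h1, h2, by rw [conj_mul', h1, h2]]
  refine ⟨k v, fun e => ?_⟩
  have := k _ ((h.memF.1 hv).resolve_left e)
  rw [conj_mul', h3, mul_assoc, mul_right_inj] at this
  rw [cF h hv (mz h), eq_inv_mul_of_mul_eq this, inv_of_sq (h.elF.sq z (mz h))]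

theorem rF (he : ρ * f * ρ⁻¹ ∈ F) : ρ ∈ normalizer (F : Set G) :=
  cj_eq_iff.1 (cj_eq_of_le (map_le_iff_le_comap.2 (le_of h (show ρ * z * ρ⁻¹ ∈ F from h.rz.symm ▸ mu h)
    (show ρ * u * ρ⁻¹ ∈ F from h.ru.symm ▸ mul_mem (mu h) (mz h)) he)))

theorem rC (he : ρ * f * ρ⁻¹ ∈ F) : ρ ∈ normalizer ((S ⊓ centralizer (F : Set G) : Subgroup G) : Set G) :=
  mem_normalizer_of_conj_mem fun _ hy =>
    ⟨h.bas.crit.le ((conj_mem_norm h.bas.tri.xn).2 (h.C_le hy).1),
      (conj_mem_norm (Loc.Mss.norm_cent (zpowers_le.2 (rF h he)) (mem_zpowers ρ))).2 hy.2⟩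

/-- The commutator of two conjugates of the transvection. -/
theorem step (he : ρ * f * ρ⁻¹ ∈ F) {g : G} (t : Tr F g (closure {z, u}) z) :
    Tr F ⁅ρ * g * ρ⁻¹, x * g * x⁻¹⁆ (closure {z, u}) z := by
  have t1 := t.cj (rF h he)
  have t2 := t.cj h.xF
  rw [cj_eq_iff.2 h.toEH.toEC.normU.2, h.rz] at t1
  rw [conj_eq_of_comm h.xz] at t2
  have zU : z ∈ closure {z, u} := subset_closure (by simp)
  have uU : u ∈ closure {z, u} := subset_closure (by simp)
  have a1 := (t1 z (mz h)).1 zU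
  have a2 := (t1 u (mu h)).1 uU
  have a3 := (t1 f (mf h)).2 h.f_not
  have b1 := (t2 z (mz h)).1 (by simpa only [conj_eq_of_comm h.xz] using (conj_mem_cj (g := x)).2 zU)
  have b3 := (t2 f (mf h)).1 (h.f_eq ▸ conj_mem_cj.2 uU)
  have b2 := (t2 u (mu h)).2 fun e => by
    have m := h.UU (mem_cj.1 e) (by simpa [mul_assoc] using uU)
    have m' := (conj_mem_cj (g := x)).2 m
    rw [cj_zpowers, conj_eq_of_comm h.xz, show x * (x⁻¹ * u * x) * x⁻¹ = u by group] at m'
    have := h.su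
    rw [conj_eq_of_comm (comm_zpowers (h.cz s₁ h.bas.mem).symm m'), left_eq_mul] at this
    exact h.z_ne this
  generalize ρ * g * ρ⁻¹ = p at a1 a2 a3 ⊢
  generalize x * g * x⁻¹ = q at b1 b2 b3 ⊢
  have iv : ∀ {p v w : G}, p * v * p⁻¹ = w → p⁻¹ * w * p = v := fun e => by rw [← e]; group
  have e : ∀ v, ⁅p, q⁆ * v * ⁅p, q⁆⁻¹ = p * (q * (p⁻¹ * (q⁻¹ * v * q) * p) * q⁻¹) * p⁻¹ := fun v => by
    rw [commutatorElement_def]; group
  have z2 := h.elF.sq z (mz h)
  have u2 := h.elF.sq u (mu h)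
  refine tr_of h ?_ ?_ ?_ <;> rw [e]
  · rw [iv b1, iv a1, b1, a1]
  · have c1 : q * (u * z) * q⁻¹ = u := by rw [conj_mul', b2, b1, mul_assoc, z2, mul_one]
    have c2 : p * (u * z) * p⁻¹ = u * z := by rw [conj_mul', a2, a1]
    rw [iv c1, iv c2, c1, a2]
  · have c1 : p * (f * u) * p⁻¹ = f := by rw [conj_mul', a3, a2, mul_assoc, u2, mul_one]
    rw [iv b3, iv c1, conj_mul' q, b3, b2, conj_mul' p, conj_mul' p, a3, a2, a1, mul_assoc, ← mul_assoc u, u2, one_mul]

end E5a

open E5a in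
theorem Ctx.e5a (c : Ctx G) (h : EF c.S R₁ ρ s₁ z u R₂ x s₂ f F) (he : ρ * f * ρ⁻¹ ∈ F) :
    Nat.card c.S = 64 ∨ El 16 (c.S ⊓ centralizer (F : Set G)) := by
  have : Fact (Nat.Prime 2) := ⟨Nat.prime_two⟩
  have hc := h.card
  have SN := h.nC
  have xN := h.xC
  have rN := rC h he
  have CR := h.C_le
  have FC : F ≤ c.S ⊓ centralizer (F : Set G) := fun v hv =>
    ⟨h.bas.crit.le (h.F_le hv).1, fun w hw => cF h hw hv⟩
  have memC : ∀ y, y ∈ c.S ⊓ centralizer (F : Set G) ↔ y ∈ c.S ∧ Cz y F := fun y => by rw [mem_inf, TriA.cz_iff]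
  generalize c.S ⊓ centralizer (F : Set G) = C at hc SN xN rN CR FC memC ⊢
  have CS : C ≤ c.S := fun y hy => ((memC y).1 hy).1
  set T := C.subgroupOf (normalizer (C : Set G)) with hT
  set π := QuotientGroup.mk' (oddCore (normalizer (C : Set G))) with hπ
  have pT : IsPGroup 2 T := (c.pS.to_le CS).comap_subtype
  have pS : IsPGroup 2 (c.S.subgroupOf (normalizer (C : Set G))) := c.pS.comap_subtype
  have hk : (Nat.card π.ker).Coprime 2 := GT.coprime_card_ker_mk'_pPrimeCore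
  have fs : Function.Surjective π := QuotientGroup.mk'_surjective _
  have syl := c.syl.mono SN le_top
  have cz : ∀ g : normalizer (C : Set G), π g = 1 → Cz (g : G) C := fun g e r hr => by
    have k := Inv.SR4J.eq_one_of_ker hk pT (x := g * ⟨r, le_normalizer hr⟩ * g⁻¹ * (⟨r, le_normalizer hr⟩)⁻¹)
      (mul_mem ((conj_mem_norm g.2).2 hr) (inv_mem hr)) (by simp [e])
    exact mul_inv_eq_iff_eq_mul.1 (mul_inv_eq_one.1 (congrArg Subtype.val k))
  have c1 : centralizer (T : Set (normalizer (C : Set G))) ≤ T ⊔ π.ker := by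
    rw [hπ, QuotientGroup.ker_mk']
    refine CIa.cent_le fun K hK pK g hg => ?_
    obtain ⟨n, hn, e⟩ := syl.exists_cj_le (pK.map (normalizer (C : Set G)).subtype) (map_subtype_le K)
    refine (conj_mem_norm hn).1 ((memC _).2 ⟨e (conj_mem_cj.2 (mem_map_of_mem _ hg)), fun v hv => ?_⟩)
    exact cz_conj hn (fun r hr => (congrArg Subtype.val (hK hg ⟨r, le_normalizer hr⟩ hr)).symm) v (FC hv)
  have nT : (T.map π).Normal := Normal.map inferInstance π fs
  have core : T.map π = pCore 2 _ := by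
    refine le_antisymm (GT.le_pCore (pT.map π)) fun q hq => ?_
    have QS : pCore 2 _ ≤ (c.S.subgroupOf (normalizer (C : Set G))).map π :=
      GT.pCore_le_sylow (Sylow.mapSurjective fs syl.toSylow)
    let W := ((centralizer ((pCore 2 (normalizer (C : Set G) ⧸ oddCore (normalizer (C : Set G))) : Subgroup _) :
      Set _)).comap π).map (normalizer (C : Set G)).subtype
    have Wn : ∀ g ∈ normalizer (C : Set G), ∀ v ∈ W, g * v * g⁻¹ ∈ W := by
      rintro g hg _ ⟨v, hv, rfl⟩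
      exact ⟨⟨g, hg⟩ * v * ⟨g, hg⟩⁻¹, Normal.conj_mem inferInstance v hv _, rfl⟩
    have zW : z ∈ W := ⟨⟨z, le_normalizer (FC (mz h))⟩, fun y hy => by
      obtain ⟨s, hs, rfl⟩ := QS hy
      rw [← map_mul, ← map_mul]
      exact congrArg π (Subtype.ext (h.cz s hs).symm), rfl⟩
    have uW : u ∈ W := h.rz ▸ Wn ρ rN z zW
    obtain ⟨s, hs, rfl⟩ := QS hq
    refine mem_map_of_mem π ((memC s).2 ⟨hs, fun v hv => ?_⟩)
    obtain ⟨v, hv', rfl⟩ := le_of h zW uW (h.f_eq ▸ Wn x xN u uW) hv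
    have vS : v ∈ c.S.subgroupOf (normalizer (C : Set G)) := CS (FC hv)
    exact congrArg Subtype.val (commutatorElement_eq_one_iff_mul_comm.1 (Inv.SR4J.eq_one_of_ker hk pS
      (mul_mem (mul_mem (mul_mem hs vS) (inv_mem hs)) (inv_mem vS)) (by
        rw [map_commutatorElement, commutatorElement_eq_one_iff_mul_comm]
        exact hv' _ hq)))
  have con : IsPConstrained 2 (normalizer (C : Set G) ⧸ oddCore (normalizer (C : Set G))) := by
    refine GT.isPConstrained_of_charP ?_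
    rw [← core, ← GT.map_centralizer_of_coprime_ker fs hk pT, map_le_iff_le_comap, comap_map_eq]
    exact c1
  have h4 := FG.SR.quotient (FG.SR.subgroup c.h4 (normalizer (C : Set G))) (oddCore _)
  have ns : ¬ Group.IsSolvable (normalizer (C : Set G) ⧸ oddCore (normalizer (C : Set G))) := by
    rintro ⟨n, hn⟩
    have k : ∀ n, ∃ g : normalizer (C : Set G), π g ∈ derivedSeries _ n ∧ Tr F g (closure {z, u}) z := fun n => by
      induction n with
      | zero =>
        obtain ⟨r, hr, e⟩ := h.onto z (subset_closure (by simp))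
        refine ⟨⟨r, SN (h.bas.crit.le hr)⟩, mem_top _, tr_of h
          (conj_eq_of_comm (h.toEH.toEC.czU hr z (subset_closure (by simp))))
          (conj_eq_of_comm (h.toEH.toEC.czU hr u (subset_closure (by simp)))) ?_⟩
        exact (mul_inv_eq_iff_eq_mul.1 e).trans (cF h (mz h) (mf h))
      | succ n ih =>
        obtain ⟨g, h1, h2⟩ := ih
        refine ⟨⁅⟨ρ, rN⟩ * g * ⟨ρ, rN⟩⁻¹, ⟨x, xN⟩ * g * ⟨x, xN⟩⁻¹⁆, ?_, step h he h2⟩
        simp only [map_commutatorElement, map_mul, map_inv]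
        exact commutator_mem_commutator (Normal.conj_mem inferInstance _ h1 _) (Normal.conj_mem inferInstance _ h1 _)
    obtain ⟨g, h1, h2⟩ := k n
    have := (h2 f (mf h)).2 h.f_not
    rw [conj_eq_of_comm (cz g (hn.le h1) f (FC (mf h))), left_eq_mul] at this
    exact h.z_ne this
  have oX : oddCore (normalizer (C : Set G) ⧸ oddCore (normalizer (C : Set G))) = ⊥ :=
    GT.pPrimeCore_quotient_pPrimeCore
  obtain ⟨e⟩ : Nonempty (C ≃* pCore 2 (normalizer (C : Set G) ⧸ oddCore (normalizer (C : Set G)))) := by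
    refine ⟨(MonoidHom.ofInjective (f := π.comp (inclusion le_normalizer)) ((injective_iff_map_eq_one _).2 fun y hy =>
      inclusion_injective le_normalizer (Inv.SR4J.eq_one_of_ker hk pT y.2 hy))).trans (MulEquiv.subgroupCongr ?_)⟩
    rw [← core, MonoidHom.range_comp, inclusion_range]
  have cC := Nat.card_congr e.toEquiv
  have el : IsElementaryAbelian 2 (pCore 2 (normalizer (C : Set G) ⧸ oddCore (normalizer (C : Set G)))) →
      ∀ y ∈ C, y * y = 1 := fun k y hy => congrArg Subtype.val (e.injective (a₁ := ⟨y, hy⟩ * ⟨y, hy⟩) (a₂ := 1) (by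
    rw [map_mul, map_one, ← pow_two]
    exact Subtype.ext (k.2 _ (e ⟨y, hy⟩).2)))
  rcases Inv.SR4J.l32_or_a5 ns con oX h4 with ⟨K, _, _, hK, hQ⟩ | hQ
  · rcases S3105.result ns con oX h4 hK hQ with ⟨k, k1 | k1⟩ | ⟨⟨e'⟩⟩
    · exact .inl (by omega)
    · exact .inr ⟨cC.trans k1, el k⟩
    exfalso
    obtain ⟨y, ne', y4, sq⟩ := z4 (e.trans e')
    have ne : (y : G) * y ≠ 1 := fun k => ne' (Subtype.ext k)
    have fx : ∀ g ∈ normalizer (C : Set G), g * (y * y) = y * y * g := fun g hg => comm_of_conj_eq (by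
      rcases sq ⟨_, (conj_mem_norm hg).2 y.2⟩ with k | k
      · exact (ne (Rec.conj_eq_one.1 ((conj_mul' g y y).trans (congrArg Subtype.val k)))).elim
      · exact (conj_mul' g y y).trans (congrArg Subtype.val k))
    exact ne (h.toEH.toEC.fpfU (h.om _ (CR (mul_mem y.2 y.2)).1 (congrArg Subtype.val y4)
      fun r hr => (fx r (SN (h.bas.crit.le hr))).symm) (fx ρ rN))
  · rcases S3106.result ns con oX h4 hQ with ⟨k, k1⟩ | ⟨k1, A, B, ⟨eA⟩, ⟨eB⟩, -, hs, hi⟩
    · exact .inr ⟨cC.trans k1, el k⟩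
    exfalso
    have cA : Nat.card A = 8 := by rw [Nat.card_congr eA.toEquiv, Nat.card_eq_fintype_card, QuaternionGroup.card]
    have cB : Nat.card B = 8 := by rw [Nat.card_congr eB.toEquiv, Nat.card_eq_fintype_card, DihedralGroup.card]
    have c8 : 8 ≤ Nat.card (A ⊓ B : Subgroup _) := by
      rw [hi, ← h.elF.card, ← Nat.card_congr (subgroupOfEquivOfLe FC).toEquiv,
        ← card_map_of_injective (f := e.toMonoidHom) e.injective]
      refine card_le_of_le ?_
      rintro _ ⟨v, hv, rfl⟩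
      refine mem_center_iff.2 fun q => ?_
      obtain ⟨q, rfl⟩ := e.surjective q
      exact (map_mul e q v).symm.trans ((congrArg e (Subtype.ext (((memC q).1 q.2).2 v hv))).trans (map_mul e v q))
    have e1 := eq_of_le_of_card_ge (inf_le_left : A ⊓ B ≤ A) (by omega)
    have e2 := eq_of_le_of_card_ge (inf_le_right : A ⊓ B ≤ B) (by omega)
    rw [← e2, e1, sup_idem] at hs
    rw [hs, card_top] at cA
    omega

end Cfsg.Agent.GHK
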