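import Mathlib
import Cfsg.Agent.GHK.Defs3
import Cfsg.Agent.GHK.EB
import Cfsg.Agent.GHK.U
import Cfsg.Agent.GHK.UPa

/-! All triples of index two: `C_S(F) = E₁₆`. See `stubs/Cfsg/Agent/GHK/PLAN2.md`. -/

set_option autoImplicit false
set_option linter.unusedSectionVars false

namespace Cfsg.Agent.GHK

open Cfsg.Agent.Inv.Fz Cfsg.Agent.NE Subgroup
open scoped commutatorElement

variable {G : Type*} [Group G] [Finite G] {S R₁ R₂ F : Subgroup G} {ρ s₁ z u x s₂ f v w a : G}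

/-- A subgroup strictly between `A` and `R`, where `|R : A| = 4`. -/
theorem E5b.between {A K R : Subgroup G} (hA : A ≤ K) (hK : K ≤ R) (h : Nat.card R = 4 * Nat.card A) (h1 : ¬ K ≤ A)
    (h2 : ¬ R ≤ K) : Nat.card K = 2 * Nat.card A := by
  obtain ⟨m, hm⟩ := card_dvd_of_le hA
  obtain ⟨k, hk⟩ := card_dvd_of_le hK
  have p : 0 < Nat.card A := Nat.card_pos
  have e : m * k = 4 := Nat.eq_of_mul_eq_mul_left p (by rw [← mul_assoc, ← hm, ← hk, h, mul_comm])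
  have m1 : m ≠ 1 := fun e => h1 (eq_of_le_of_card_ge hA (by rw [hm, e, mul_one])).ge
  have k1 : k ≠ 1 := fun e => h2 (eq_of_le_of_card_ge hK (by rw [hk, e, mul_one])).ge
  have : m ≤ 4 := Nat.le_of_dvd (by norm_num) ⟨k, e.symm⟩
  interval_cases m <;> omega

theorem E5b.cm_eq {a r v f : G} (h1 : a * f = f * a) (h2 : a * v = v * a) (h3 : r * v = v * r) (h4 : f * v = v * f)
    (h5 : a * ⁅r, f⁆ = ⁅r, f⁆ * a) : ⁅a * r, v * f⁆ = ⁅r, f⁆ := by
  have e : ∀ y, y * v = v * y → ⁅y, v * f⁆ = ⁅y, f⁆ := fun y hy => by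
    rw [← h4, UPL.cm_mul, UPL.cm1.2 hy, mul_one, mul_inv_cancel, mul_one]
  rw [UPL.mul_cm, e a h2, e r h3, UPL.cm1.2 h1, mul_one, conj_eq_of_comm h5]

theorem Ctx.e5b (c : Ctx G) (h : EF c.S R₁ ρ s₁ z u R₂ x s₂ f F) (he : ρ * f * ρ⁻¹ ∈ F)
    (h16 : El 16 (c.S ⊓ centralizer (F : Set G))) : ∃ a, T128 R₁ ρ a := by
  have h0 := h.card
  set A := c.S ⊓ centralizer (F : Set G) with hA
  set U : Subgroup G := closure {z, u} with hU
  have t := h.bas.tri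
  have od := t.od
  have RS := h.bas.crit.le
  have AR : A ≤ R₁ := h.C_le.trans inf_le_left
  have UF : U ≤ F := fun v hv => h.memF.2 (.inl hv)
  have fF : f ∈ F := h.F_eq ▸ subset_closure (by simp)
  have FR : F ≤ R₁ := h.F_le.trans inf_le_left
  have FA : F ≤ A := fun v hv => ⟨RS (FR hv), mem_centralizer_iff.2 fun w hw => comm_of_sq h.elF.sq hw hv⟩
  have UA := UF.trans FA
  have ρU := h.normU.2
  have nU : R₁ ≤ normalizer (U : Set G) := RS.trans h.normU.1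
  have ρF : ρ ∈ normalizer (F : Set G) := mem_normalizer_of_conj_mem fun y hy =>
    (h.memF.1 hy).elim (fun k => UF ((conj_mem_norm ρU).2 k)) fun k =>
      (mul_mem_cancel_left he).1 (conj_mul' ρ f y ▸ UF ((conj_mem_norm ρU).2 k))
  have ρA : ρ ∈ normalizer (A : Set G) := mem_normalizer_of_conj_mem fun y hy =>
    ⟨RS ((conj_mem_norm t.xn).2 (AR hy)), TriA.cz_iff.1 (Cz.conj (TriA.cz_iff.2 hy.2) ρF)⟩
  have cR : Nat.card R₁ = 4 * Nat.card A := by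
    have h1 := h.ix.card RS h.bas.mem t.s_not
    omega
  have ix : Ix F U f := fun y hy => h.memF.1 hy
  have ρf : ⁅ρ, f⁆ ∈ U := ix.mul_mem he (inv_mem fF) (fun k => h.f_not ((conj_mem_norm ρU).1 k))
    fun k => h.f_not (inv_mem_iff.1 k)
  have c1 : ∀ r ∈ R₁, ⁅ρ, r⁆ ∈ A → r ∈ A := fun r hr e => (h.memC hr).2 (UPL.cm1.1 (h.fpfU (h.commf r hr) (by
    refine comm_of_conj_eq ?_
    rw [UPL.cj_cm, show ρ * r * ρ⁻¹ = ⁅ρ, r⁆ * r by group, show ρ * f * ρ⁻¹ = ⁅ρ, f⁆ * f by group]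
    exact E5b.cm_eq ((h.memC (AR e)).1 e) (h.czU (AR e) _ ρf) (h.czU hr _ ρf) (h.czU (FR fF) _ ρf)
      (h.czU (AR e) _ (h.commf r hr)))))
  have DA : fix R₁ ρ ≤ A := fun d hd => c1 d (mem_fix.1 hd).1 (UPL.cm1.2 (mem_fix.1 hd).2 ▸ one_mem _)
  have odA := od.mono AR ρA
  have c2 : ∀ a ∈ A, ⁅ρ, a⁆ ∈ U := odA.chain UF FA (AR.trans nU)
    (fun k hk => comm_mem_supp hk |>.1 |> supp_le_idx ρF UF ρU fun _ a _ b => ix.mul_mem a b)
    fun r hr => comm_mem_supp hr |>.1 |> supp_le_idx ρA FA ρF fun _ a _ b a' b' =>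
      (ix_of_card FA a a' (by rw [h16.card, h.elF.card])).mul_mem a b a' b'
  have c3 : ∀ a ∈ A, ∃ v ∈ U, ∃ d ∈ fix R₁ ρ, a = v * d := fun a ha => by
    obtain ⟨v, hv, d, hd, e⟩ := odA.decomp ha
    exact ⟨v, supp_le_of ρA (AR.trans nU) UA c2 hv, d, mem_fix.2 ⟨AR (mem_fix.1 hd).1, (mem_fix.1 hd).2⟩, e⟩
  have UD : ∀ d ∈ fix R₁ ρ, d ∈ U → d = 1 := fun d hd k => h.fpfU k (mem_fix.1 hd).2
  have c4 : ∀ r ∈ R₁, ∀ a ∈ A, ⁅r, a⁆ ∈ U := fun r hr a ha => by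
    obtain ⟨y, hy, d, hd, rfl⟩ := od.decomp hr
    rw [UPL.mul_cm, UPL.cm1.2 (comm_of_sq h16.sq (DA hd) ha), mul_one, mul_inv_cancel, one_mul]
    exact supp_triv t.xn (RS.trans h.nC) nU UA c2 y hy a ha
  have c5 : ∀ d ∈ fix R₁ ρ, ∀ r ∈ R₁, r * d = d * r → r ∉ A → d = 1 := fun d hd r hr e n => by
    refine UD d hd (h.om d (AR (DA hd)) (h16.sq d (DA hd)) fun y hy => ?_)
    by_contra k
    have l : A ≤ R₁ ⊓ centralizer {d} := fun a ha => ⟨AR ha, mem_centralizer_singleton_iff.2 (comm_of_sq h16.sq ha (DA hd))⟩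
    have m : r ∈ R₁ ⊓ centralizer {d} := ⟨hr, mem_centralizer_singleton_iff.2 e⟩
    refine n (c1 r hr ((ix_of_card l m n (E5b.between l inf_le_left cR (fun k => n (k m)) fun j =>
      k (mem_centralizer_singleton_iff.1 (j hy).2).symm)).mul_mem ⟨(conj_mem_norm t.xn).2 hr, mem_centralizer_singleton_iff.2 ?_⟩ (inv_mem m)
        (fun k => n ((conj_mem_norm ρA).1 k)) fun k => n (inv_mem_iff.1 k)))
    simpa only [conj_eq_of_comm (mem_fix.1 hd).2] using conj_comm ρ e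
  have c6 : ∀ r ∈ R₁, r ∉ A → ∀ a ∈ A, r * a = a * r → a ∈ U := fun r hr n a ha e => by
    obtain ⟨v, hv, d, hd, rfl⟩ := c3 a ha
    rw [c5 d hd r hr (mul_left_cancel (a := v) (by rw [← mul_assoc, ← h.czU hr v hv, mul_assoc, e, mul_assoc])) n,
      mul_one]
    exact hv
  have c7 : ∀ r ∈ R₁, r * r ∈ U := fun r hr => by
    by_cases n : r ∈ A
    · exact h16.sq r n ▸ one_mem _
    · refine c6 r hr n _ ((h.memC (mul_mem hr hr)).2 (UPL.cm1.1 ?_)) (mul_assoc _ _ _).symm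
      rw [UPL.mul_cm, conj_eq_of_comm (h.czU hr _ (h.commf r hr)), h.el.sq _ (h.commf r hr)]
  have cT : Nat.card (supp R₁ ρ) = 16 := by
    rcases t.sec (c.r4' R₁) (UA.trans AR) le_rfl t.xn ρU c7 (by
      by_contra! k
      have := card_le_of_le fun r hr => c1 r hr (UA (k r hr))
      rw [cR, h16.card] at this
      omega) with k | k
    · rw [sup_eq_left.2 h.U_le, h.el.card] at k
      exact k.1
    · exact absurd (k.2.2 f (FR fF) ρf) h.f_not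
  obtain ⟨d, k | ⟨a, k⟩⟩ := h.t16 cT
  · refine (c.not_l34 (U := U) ⟨AR.trans RS, (supp_le t.xn).trans RS, h16, k, h.el, UA, h.U_le, fun a ha b hb =>
      TriA.cinv.1 (c4 b (supp_le t.xn hb) a ha), fun a ha b hb e => ?_⟩ h.fused).elim
    by_cases n : b ∈ A
    · obtain ⟨v, hv, y, hy, rfl⟩ := c3 b n
      rw [mem_bot.1 (d.le ⟨(mul_mem_cancel_left (h.U_le hv)).1 hb, hy⟩), mul_one]
      exact .inr hv
    · exact .inl (c6 b (supp_le t.xn hb) n a ha e.symm)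
  · refine ⟨a, k, ⟨?_, fun y hy => h16.sq y (DA hy)⟩, fun y hy e => UD y hy (h.om y (AR (DA hy)) (h16.sq y (DA hy))
      fun r hr => ?_)⟩
    · have e : supp R₁ ρ ⊔ fix R₁ ρ = R₁ := le_antisymm (sup_le (supp_le t.xn) inf_le_left) fun r hr => by
        obtain ⟨p, hp, q, hq, rfl⟩ := od.decomp hr
        exact mul_mem_sup hp hq
      have := GT.PG.card_sup_of_inf_eq_bot (H := fix R₁ ρ) (inf_le_left.trans le_norm_supp) ((inf_comm _ _).trans d)
      rw [sup_comm, e, cR, cT, h16.card] at this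
      omega
    · obtain ⟨p, hp, q, hq, rfl⟩ := od.decomp hr
      rw [← mul_assoc, e p hp, mul_assoc, comm_of_sq h16.sq (DA hy) (DA hq), mul_assoc]

end Cfsg.Agent.GHK
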