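import Mathlib
import Cfsg.Agent.GHK.Defs
import Cfsg.Agent.GHK.Basic
import Cfsg.Agent.GHK.HamD
import Cfsg.Agent.L4A.Top
import Cfsg.Agent.L5.Main
import Cfsg.Agent.Inv.Dihedral
import Cfsg.Agent.FG.SectRank

/-! Wreath products of groups of maximal class. See `stubs/Cfsg/Agent/GHK/PLAN.md`. -/

set_option autoImplicit false
set_option linter.unusedSectionVars false

namespace Cfsg.Agent.GHK

open Cfsg.Agent.Inv.Fz Cfsg.Agent.NE Subgroup
open scoped commutatorElement

variable {G : Type*} [Group G] [Finite G] {S P R K L N T V A B U : Subgroup G} {x s g b : G} {n : ℕ}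

namespace HamC

open Cfsg.Agent.L5 (WT)

/-- A subgroup `H` and an involution `σ` with `S = H ≀ ⟨σ⟩` give an embedding of the model. -/
theorem exists_wt {X : Type*} [Group X] {H : Subgroup G} {σ : G} (h : Wr S H σ) (f : X →* G)
    (hf : Function.Injective f) (hr : f.range = H) (hX : ∃ t : X, t ≠ 1) :
    ∃ ι : WT X →* G, Function.Injective ι ∧ ι.range = S := by
  have m1 : ∀ t, f t ∈ H := fun t => hr ▸ ⟨t, rfl⟩
  have m2 : ∀ t, σ * f t * σ⁻¹ ∈ cj σ H := fun t => mem_cj.2 (by simpa [mul_assoc] using m1 t)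
  have si : σ⁻¹ = σ := inv_eq_of_mul_eq_one_right h.sq
  have d : ∀ y ∈ H, y ∈ cj σ H → y = 1 := fun y h1 h2 => mem_bot.1 (h.disj ▸ mem_inf.2 ⟨h1, h2⟩)
  let f' : X →* G := (MulAut.conj σ).toMonoidHom.comp f
  have e' : ∀ t, f' t = σ * f t * σ⁻¹ := fun _ => rfl
  let ι : WT X →* G := WT.lift f f' σ h.sq (fun t => by rw [e']; group) fun t u => h.comm _ (m1 t) _ (m2 u)
  have ea : ∀ w, ι w = f w.a * (σ * f w.b * σ⁻¹) * cond w.e σ 1 := fun _ => rfl
  refine ⟨ι, (injective_iff_map_eq_one _).2 ?_, le_antisymm ?_ (h.gen.trans (sup_le (sup_le ?_ ?_) ?_))⟩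
  · rintro ⟨u, v, _ | _⟩ e <;> rw [ea] at e
    · simp only [cond_false, mul_one] at e
      have e1 : f u = 1 := d _ (m1 u) (by rw [eq_inv_of_mul_eq_one_left e]; exact inv_mem (m2 v))
      rw [e1, one_mul, conj_eq_one_iff] at e
      obtain rfl : u = 1 := hf (by rw [e1, map_one])
      obtain rfl : v = 1 := hf (by rw [e, map_one])
      rfl
    · exfalso
      simp only [cond_true] at e
      obtain ⟨t, ht⟩ := hX
      have e1 : σ⁻¹ = f u * (σ * f v * σ⁻¹) := (eq_inv_of_mul_eq_one_left e).symm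
      have e2 : σ⁻¹ * f t * σ⁻¹⁻¹ = f (u * t * u⁻¹) := by
        have c := h.comm _ (m1 t) _ (m2 v)
        generalize σ * f v * σ⁻¹ = w at c e1
        rw [e1, map_mul, map_mul, map_inv, mul_assoc (f u), ← c]; group
      have e3 : f (u * t * u⁻¹) = 1 := d _ (m1 _) (by rw [← e2, inv_inv, si]; simpa [si] using m2 t)
      exact ht (conj_eq_one_iff.1 (hf (by rw [e3, map_one])))
  · rintro _ ⟨w, rfl⟩
    rw [ea]
    refine mul_mem (mul_mem (h.le (m1 _)) (mul_mem (mul_mem h.mem (h.le (m1 _))) (inv_mem h.mem))) ?_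
    cases w.e
    exacts [one_mem _, h.mem]
  · intro y hy
    obtain ⟨t, rfl⟩ : y ∈ f.range := hr ▸ hy
    exact ⟨⟨t, 1, false⟩, by simp [ea]⟩
  · intro y hy
    obtain ⟨t, ht⟩ : σ⁻¹ * y * σ ∈ f.range := hr ▸ mem_cj.1 hy
    exact ⟨⟨1, t, false⟩, by simp [ea, ht, mul_assoc]⟩
  · exact zpowers_le.2 ⟨⟨1, 1, true⟩, by simp [ea]⟩

theorem card_le_four {X : Type*} [Group X] {E : Subgroup X} {p q r t : X}
    (h : ∀ y ∈ E, y = p ∨ y = q ∨ y = r ∨ y = t) : Nat.card E ≤ 4 := by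
  classical
  have e : Nat.card E = (E : Set X).ncard := rfl
  rw [e]
  refine (Set.ncard_le_ncard (t := (({p, q, r, t} : Finset X) : Set X)) (fun y hy => by simpa using h y hy)).trans ?_
  rw [Set.ncard_coe_finset]
  exact Finset.card_le_four

/-- The wreath product of a group with one involution has rank at most two. -/
theorem rank_wt {X : Type*} [Group X] {z : X} (hz : ∀ t : X, t * t = 1 → t = 1 ∨ t = z) {E : Subgroup (WT X)}
    (hE : ∀ y ∈ E, y * y = 1) : Nat.card E ≤ 4 := by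
  have k0 : ∀ u v : X, (⟨u, v, false⟩ : WT X) ∈ E → (u = 1 ∨ u = z) ∧ (v = 1 ∨ v = z) := fun u v hy => by
    have e := hE _ hy
    exact ⟨hz u (by simpa using congrArg WT.a e), hz v (by simpa using congrArg WT.b e)⟩
  by_cases hw : ∃ w ∈ E, w.e = true
  · obtain ⟨w, hw, we⟩ := hw
    have k1 : ∀ y ∈ E, y.e = false → y = 1 ∨ y = ⟨z, z, false⟩ := by
      rintro ⟨u, v, _ | _⟩ hy ye
      · have c : (⟨u, v, false⟩ : WT X) * w = w * ⟨u, v, false⟩ := by
          have e1 := inv_eq_of_mul_eq_one_right (hE _ (mul_mem hy hw))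
          rw [mul_inv_rev, inv_eq_of_mul_eq_one_right (hE _ hy), inv_eq_of_mul_eq_one_right (hE _ hw)] at e1
          exact e1.symm
        have c1 : u * w.a = w.a * v := by simpa [we] using congrArg WT.a c
        obtain ⟨hu | hu, hv | hv⟩ := k0 u v hy
        · left; rw [hu, hv]; rfl
        · left
          have : v = 1 := by simpa [hu] using c1
          rw [hu, this]; rfl
        · left
          have : u = 1 := by simpa [hv] using c1
          rw [hv, this]; rfl
        · right; rw [hu, hv]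
      · simp at ye
    refine card_le_four (p := 1) (q := ⟨z, z, false⟩) (r := w⁻¹) (t := ⟨z, z, false⟩ * w⁻¹) fun y hy => ?_
    cases ye : y.e
    · rcases k1 y hy ye with e | e <;> simp [e]
    · rcases k1 (y * w) (mul_mem hy hw) (by simp [ye, we]) with e | e
      · exact .inr (.inr (.inl (eq_inv_of_mul_eq_one_left e)))
      · exact .inr (.inr (.inr (eq_mul_inv_of_mul_eq e)))
  · refine card_le_four (p := ⟨1, 1, false⟩) (q := ⟨z, 1, false⟩) (r := ⟨1, z, false⟩) (t := ⟨z, z, false⟩) ?_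
    rintro ⟨u, v, _ | _⟩ hy
    · obtain ⟨hu | hu, hv | hv⟩ := k0 u v hy <;> simp [hu, hv]
    · exact absurd ⟨_, hy, rfl⟩ hw

theorem ix_closure {a : G} (hn : b * a * b⁻¹ ∈ zpowers a) (hb : b * b ∈ zpowers a) :
    Ix (closure {a, b}) (zpowers a) b := by
  have n1 : ∀ y ∈ zpowers a, b * y * b⁻¹ ∈ zpowers a := by
    rintro _ ⟨k, rfl⟩
    have := zpow_mem hn k
    rwa [conj_zpow] at this
  have n2 : ∀ y ∈ zpowers a, b⁻¹ * y * b ∈ zpowers a := fun y hy => by
    have := mul_mem (mul_mem (inv_mem hb) (n1 y hy)) hb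
    simpa [mul_assoc] using this
  intro y hy
  induction hy using closure_induction with
  | mem y hy =>
    rcases hy with rfl | rfl
    exacts [.inl (mem_zpowers _), .inr hb]
  | one => exact .inl (one_mem _)
  | mul y w _ _ h1 h2 =>
    rcases h1 with h1 | h1 <;> rcases h2 with h2 | h2
    · exact .inl (mul_mem h1 h2)
    · exact .inr (by simpa [mul_assoc] using mul_mem (n1 y h1) h2)
    · exact .inr (by simpa [mul_assoc] using mul_mem h1 h2)
    · exact .inl (by simpa [mul_assoc] using mul_mem (mul_mem (n2 _ h1) (inv_mem hb)) h2)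
  | inv y _ h1 =>
    rcases h1 with h1 | h1
    · exact .inl (inv_mem h1)
    · exact .inr (by simpa [mul_assoc] using mul_mem (n1 _ (inv_mem h1)) hb)

theorem zz_ne {a : G} (h : orderOf a = 2 ^ n) (h1 : 1 ≤ n) : zz a n ≠ 1 := fun e => by
  have := Nat.le_of_dvd (by positivity) (orderOf_dvd_of_pow_eq_one e)
  rw [h, Nat.pow_le_pow_iff_right (by norm_num)] at this
  omega

theorem zz_sq {a : G} (h : orderOf a = 2 ^ n) (h1 : 1 ≤ n) : zz a n * zz a n = 1 := by
  rw [← pow_add, ← two_mul, ← pow_succ', Nat.sub_add_cancel h1, ← h, pow_orderOf_eq_one]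

open Cfsg.Agent.L4A DihedralGroup in
/-- The coordinates of `DW k`. -/
def dw (k : ℕ) : DW k →* WT (DihedralGroup (2 ^ (k + 1 + 1))) :=
  MonoidHom.mk' (fun w => ⟨cond w.e (sr (-w.x)) (r w.x), cond w.f (sr (-w.y)) (r w.y), w.p⟩) (by
    rintro ⟨_, _, _ | _, _ | _, _ | _⟩ ⟨_, _, _ | _, _ | _, _ | _⟩ <;> ext <;> simp <;> ring)

open Cfsg.Agent.L4A DihedralGroup in
theorem dw_bij (k : ℕ) : Function.Bijective (dw k) := by
  refine (Nat.bijective_iff_surjective_and_card _).2 ⟨?_, ?_⟩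
  · rintro ⟨u | u, v | v, p⟩
    exacts [⟨⟨u, v, false, false, p⟩, rfl⟩, ⟨⟨u, -v, false, true, p⟩, by simp [dw]⟩,
      ⟨⟨-u, v, true, false, p⟩, by simp [dw]⟩, ⟨⟨-u, -v, true, true, p⟩, by simp [dw]⟩]
  · rw [DW.card, WT.card, DihedralGroup.nat_card]; ring

theorem sy (c : Ctx G) {X : Type*} [Group X] {ι : X →* G} (hi : Function.Injective ι) (hr : ι.range = c.S) :
    P4.Sy ι ⊤ ⊤ :=
  ⟨hi, by
    rw [← MonoidHom.range_eq_map, hr]
    exact ⟨le_top, c.syl.isPGroup, c.syl.not_dvd_relIndex⟩⟩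

theorem dih (c : Ctx G) {H : Subgroup G} {a σ : G} (hH : Mx H a b n) (h : Wr c.S H σ)
    (h1 : b * a * b⁻¹ = a⁻¹) (h2 : b * b = 1) : False := by
  obtain ⟨k, rfl⟩ : ∃ k, n = k + 1 + 1 := ⟨n - 2, by have := hH.two; omega⟩
  have ha : a ^ 2 ^ (k + 1 + 1) = 1 := hH.ord ▸ pow_orderOf_eq_one a
  obtain ⟨ι, hi, hr⟩ := exists_wt h (Inv.dihedralHom ha h2 h1) (Inv.dihedralHom_injective ha h2 h1 hH.ord hH.not_mem)
    ((Inv.range_dihedralHom ha h2 h1).trans hH.eq.symm) ⟨DihedralGroup.sr 0, fun e => by cases e⟩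
  have := c.simple
  have hs := sy c (ι := ι.comp (dw k)) (hi.comp (dw_bij k).1) (by
    rw [MonoidHom.range_comp, MonoidHom.range_eq_top.2 (dw_bij k).2, ← MonoidHom.range_eq_map, hr])
  refine c.ng ?_
  unfold Goal
  rcases L4A.simple_case hs with e | e | ⟨F, _, _, q, rfl, hq, e⟩ | ⟨F, _, _, q, hF, hq, e⟩
  · iterate 14 right
    exact .inl ⟨10, by norm_num, by norm_num, e⟩
  · iterate 14 right
    exact .inl ⟨11, by norm_num, by norm_num, e⟩
  · iterate 5 right
    exact .inl ⟨F, _, _, Nat.odd_iff.2 (by omega), by omega, e⟩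
  · iterate 6 right
    exact .inl ⟨F, _, _, q, hF, Nat.odd_iff.2 (by omega), by omega, e⟩

theorem semi (c : Ctx G) {H : Subgroup G} {σ : G} (hH : Cfsg.IsQuasiDihedral H) (h : Wr c.S H σ)
    (h1 : ∃ t : H, t ≠ 1) : False := by
  obtain ⟨ι, hi, hr⟩ := exists_wt h H.subtype (subtype_injective H) (range_subtype H) h1
  have := c.simple
  obtain ⟨z, a, s, x, χ, tx⟩ := L5.exists_tx (.inl hH)
  refine c.ng ?_
  unfold Goal
  rcases L5.St.res ⟨tx, sy c hi hr⟩ with ⟨F, _, _, o, ⟨e⟩⟩ | ⟨F, _, _, q, hF, o, ⟨e⟩⟩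
  · have r := FG.SR.of_injective c.h4 e.symm.toMonoidHom e.symm.injective
    have := mt not_rank_psl5 (not_not.2 r)
    have := Nat.odd_iff.1 o
    iterate 7 right
    exact .inl ⟨F, _, _, by omega, ⟨e⟩⟩
  · have r := FG.SR.of_injective c.h4 e.symm.toMonoidHom e.symm.injective
    have := mt (not_rank_psu5 hF) (not_not.2 r)
    have := Nat.odd_iff.1 o
    iterate 8 right
    exact .inl ⟨F, _, _, q, hF, by omega, ⟨e⟩⟩

theorem quat (c : Ctx G) {H : Subgroup G} {σ : G} {z : H} (hz : ∀ t : H, t * t = 1 → t = 1 ∨ t = z)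
    (h : Wr c.S H σ) (h1 : ∃ t : H, t ≠ 1) : False := by
  obtain ⟨ι, hi, hr⟩ := exists_wt h H.subtype (subtype_injective H) (range_subtype H) h1
  obtain ⟨E, hE, el⟩ := c.rank3
  have k := rank_wt hz (E := E.comap ι) fun y hy => hi (by rw [map_mul, map_one]; exact el.sq _ hy)
  have e : Nat.card (E.comap ι) = Nat.card E := by
    rw [← card_map_of_injective (K := E.comap ι) hi, map_comap_eq_self (hr ▸ hE)]
  rw [e, el.card] at k
  omega

end HamC

open HamC in
theorem Ctx.not_wr (c : Ctx G) {H : Subgroup G} {a σ : G} (hH : Mx H a b n) (h : Wr c.S H σ) : False := by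
  classical
  have n1 : 1 ≤ n := by have := hH.two; omega
  have ma : a ∈ H := hH.eq ▸ subset_closure (by simp)
  have mb : b ∈ H := hH.eq ▸ subset_closure (by simp)
  have mz : zz a n ∈ zpowers a := npow_mem_zpowers _ _
  have nt : ∃ t : H, t ≠ 1 := ⟨⟨b, mb⟩, fun e => hH.not_mem (by rw [show b = 1 from congrArg Subtype.val e]; exact one_mem _)⟩
  have ix : Ix H (zpowers a) b := hH.eq ▸ ix_closure
    (by
      rcases hH.inv with e | ⟨-, e⟩ <;> rw [e]
      exacts [inv_mem (mem_zpowers a), mul_mem (inv_mem (mem_zpowers a)) mz])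
    (by
      rcases hH.sq with e | e <;> rw [e]
      exacts [one_mem _, mz])
  rcases hH.inv with e | ⟨n3, e⟩
  · rcases hH.sq with e2 | e2
    · exact dih c hH h e e2
    refine quat c (z := ⟨zz a n, pow_mem ma _⟩) (fun t tt => ?_) h nt
    have tt' : (t : G) * t = 1 := congrArg Subtype.val tt
    rcases ix t t.2 with ht | ⟨k, ht⟩
    · by_cases t1 : (t : G) = 1
      · exact .inl (Subtype.ext t1)
      have := zz_mem hH.ord (zpowers_le.2 ht) (by simpa using t1)
      rw [mem_zpowers_iff_mem_range_orderOf, orderOf_eq_prime (p := 2) (by rw [sq, tt']) t1] at this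
      simp only [Finset.mem_image, Finset.mem_range] at this
      obtain ⟨i, hi, ei⟩ := this
      interval_cases i
      · exact absurd (ei.symm.trans (pow_zero _)) (zz_ne hH.ord n1)
      · exact .inr (Subtype.ext ((pow_one _).symm.trans ei))
    · exfalso
      have e3 : b * a ^ k * b⁻¹ = (a ^ k)⁻¹ := by rw [← conj_zpow, e, inv_zpow]
      have ht' : a ^ k = b * t := ht
      rw [ht'] at e3
      have e5 : b * b * ((t : G) * b⁻¹) = (t : G)⁻¹ * b⁻¹ := by rw [← mul_inv_rev, ← e3]; group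
      rw [inv_eq_of_mul_eq_one_right tt'] at e5
      exact zz_ne hH.ord n1 (e2 ▸ mul_right_cancel (e5.trans (one_mul _).symm))
  · obtain ⟨y, my, y2, y1, ya⟩ : ∃ y ∈ H, y * y = 1 ∧ y ≠ 1 ∧ y * a * y⁻¹ = a⁻¹ * zz a n := by
      rcases hH.sq with e2 | e2
      · exact ⟨b, mb, e2, fun e1 => hH.not_mem (e1 ▸ one_mem _), e⟩
      refine ⟨b * a, mul_mem mb ma, ?_, fun e1 => hH.not_mem ?_, by rw [← e]; group⟩
      · have : b * a * (b * a) = b * a * b⁻¹ * (b * b) * a := by group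
        rw [this, e, e2, mul_assoc a⁻¹, zz_sq hH.ord n1]; simp
      · rw [eq_inv_of_mul_eq_one_left e1]; exact inv_mem (mem_zpowers a)
    refine semi c ⟨n, n3, ?_, ⟨a, ma⟩, ⟨y, my⟩, ?_, ?_, Subtype.ext ?_⟩ h nt
    · rw [ix.card (zpowers_le.2 ma) mb hH.not_mem, Nat.card_zpowers, hH.ord, pow_succ']
    · rw [← orderOf_coe]; exact hH.ord
    · rw [← orderOf_coe]; exact orderOf_eq_prime (by rw [sq]; exact y2) y1
    · change y * a * y⁻¹ = a ^ (2 ^ (n - 1) - 1)
      rw [ya, inv_mul_eq_iff_eq_mul, ← pow_succ', Nat.sub_add_cancel Nat.one_le_two_pow]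

end Cfsg.Agent.GHK
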