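import Mathlib
import Cfsg.Agent.GHK.Defs3
import Cfsg.Agent.GHK.Y2
import Cfsg.Agent.GHK.GoodQ
import Cfsg.Agent.GHK.Aft
import Cfsg.Agent.GHK.UPa

/-! The configuration `Y×`: good supports. See `stubs/Cfsg/Agent/GHK/PLAN2.md`. -/

set_option autoImplicit false
set_option linter.unusedSectionVars false

namespace Cfsg.Agent.GHK

open Cfsg.Agent.Inv.Fz Cfsg.Agent.NE Subgroup
open scoped commutatorElement

variable {G : Type*} [Group G] [Finite G] {S R K N Θ Θ' H : Subgroup G} {x s g v a b a' b' y : G} {n n' : ℕ}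

namespace Y3

theorem comm_j (h : DQ Θ a b n) (h2 : 2 ≤ n) (hg : g ∈ normalizer (zpowers a : Set G)) :
    ⁅jj a n, g⁆ ∈ zpowers (zz a n) := by
  obtain ⟨t, ht⟩ := DihA.act_all h.ord hg
  have e : ⁅jj a n, g⁆ = jj a n * (g * jj a n * g⁻¹)⁻¹ := by rw [commutatorElement_def]; group
  rw [e, ht _ (DihA.jA h)]
  rcases Nat.even_or_odd t with k | k
  · rw [(DihA.j_pow h h2 t).1 k, mul_inv_cancel]
    exact one_mem _
  · rw [(DihA.j_pow h h2 t).2 k, inv_inv, DihA.jj2 h h2]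
    exact mem_zpowers _

theorem zm (h : DQ Θ a b n) : zz a n ∈ Θ := DihA.aL h (pow_mem (mem_zpowers a) _)

theorem jm (h : DQ Θ a b n) : jj a n ∈ Θ := DihA.aL h (DihA.jA h)

theorem conj_ne {u : G} (h : u ≠ 1) (g : G) : g * u * g⁻¹ ≠ 1 := fun e =>
  h (by rwa [mul_inv_eq_one, mul_eq_left] at e)

theorem conjS (hg : g ∈ S) (hv : v ∈ S) : g * v * g⁻¹ ∈ S := mul_mem (mul_mem hg hv) (inv_mem hg)

variable (h : YX S Θ a b y) (hq : DQ Θ a b n)
include h hq

theorem zz' : zz a n * (y * zz a n * y⁻¹) = y * zz a n * y⁻¹ * zz a n :=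
  h.comm _ (zm hq) _ (conj_mem_cj.2 (zm hq))

theorem w2 : zz a n * (y * zz a n * y⁻¹) * (zz a n * (y * zz a n * y⁻¹)) = 1 :=
  (h.el0 hq).sq _ (mul_mem (subset_closure (by simp)) (subset_closure (by simp)))

theorem ne : y * zz a n * y⁻¹ ≠ zz a n := fun e => hq.zz_ne.1 (mem_bot.1 (h.disj ▸
  mem_inf.2 ⟨zm hq, e ▸ conj_mem_cj.2 (zm hq)⟩))

theorem w1 : zz a n * (y * zz a n * y⁻¹) ≠ 1 := fun e =>
  ne h hq (mul_left_cancel (e.trans hq.zz_ne.2.1.symm))

theorem eq_w (hg : g ∈ S) (hc : Cz g S) (h1 : g ≠ 1) : g = zz a n * (y * zz a n * y⁻¹) :=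
  ((UPL.mem_zp2 (w2 h hq)).1 ((h.center hq hg).1 hc)).resolve_left h1

theorem wS : zz a n * (y * zz a n * y⁻¹) ∈ S :=
  mul_mem (h.le (zm hq)) (conjS h.mem (h.le (zm hq)))

theorem w_cz : Cz (zz a n * (y * zz a n * y⁻¹)) S := (h.center hq (wS h hq)).2 (mem_zpowers _)

theorem mem0 : v ∈ (closure {zz a n, y * zz a n * y⁻¹} : Subgroup G) ↔
    v = 1 ∨ v = zz a n ∨ v = y * zz a n * y⁻¹ ∨ v = zz a n * (y * zz a n * y⁻¹) :=
  (UPL.four hq.zz_ne.2.1 (UPL.sq_conj hq.zz_ne.2.1 y) (zz' h hq) hq.zz_ne.1 (conj_ne hq.zz_ne.1 y)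
    (ne h hq)).2 v

theorem le0 : (closure {zz a n, y * zz a n * y⁻¹} : Subgroup G) ≤ S :=
  (closure_le _).2 (by
    rintro _ (rfl | rfl)
    exacts [h.le (zm hq), conjS h.mem (h.le (zm hq))])

theorem not_xt (h2 : 2 ≤ n) (q : DQ Θ' a' b' n') (h2' : 2 ≤ n') (xt : XT S Θ' a' b') : False := by
  have e := eq_w h hq (xt.le (zm q)) (xt.comm q (one_mem _)).2 q.zz_ne.1
  have m := (h.z2 hq (Or.inl h2) (xt.le (jm q))).1 fun w hw => e ▸ comm_j q h2' (xt.na hw)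
  exact q.zz_ne.1 ((DihA.jj2 q h2').symm.trans ((h.el0 hq).sq _ m))

theorem yw (h2 : 2 ≤ n) {V : Subgroup G} {y' : G} (h' : YC S Θ' a' b' n' y') (hV : V ≤ Θ') :
    YW S V a n ∨ YW S (cj y V) a n := by
  have q := h'.gd.dq
  have e := eq_w h hq (wS h'.yx q) (w_cz h'.yx q) (w1 h'.yx q)
  have m := (h.z2 hq (Or.inl h2) (h'.yx.le (zm q))).1 fun w hw =>
    e ▸ (h'.yx.z2 q (Or.inl h'.two) (h'.yx.le (zm q))).2 (subset_closure (by simp)) w hw
  rcases (mem0 h hq).1 m with k | k | k | k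
  · exact absurd k q.zz_ne.1
  · exact Or.inl ⟨Θ', a', b', n', y', h', k, hV⟩
  · refine Or.inr ⟨_, _, _, n', _, h'.cj (le_normalizer h.mem), ?_, cj_mono hV⟩
    rw [show zz (y * a' * y⁻¹) n' = y * zz a' n' * y⁻¹ from conj_pow, k]
    exact (h.toYB.out hq h.mem h.not_norm).2.1
  · rw [← k] at e
    exact absurd (mul_eq_left.1 e) (conj_ne q.zz_ne.1 y')

end Y3

open Y3

theorem y3_four {z k u : G} (z2 : z * z = 1) (zk : z * k = k * z) (k4 : k * k * (k * k) = 1)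
    (hu : u ∈ (closure {z, k} : Subgroup G)) (u2 : u * u ≠ 1) :
    u = k ∨ u = k⁻¹ ∨ u = k * z ∨ u = k⁻¹ * z := by
  have cz : Cz z (zpowers k) := fun r hr => comm_zpowers zk hr
  have m : u ∈ ext (zpowers k) z := (closure_le (ext (zpowers k) z)).2 (by
    rintro _ (rfl | rfl)
    exacts [self_mem_ext _ _, le_ext _ _ (mem_zpowers _)]) hu
  have key : ∀ r ∈ zpowers k, r * r ≠ 1 → r = k ∨ r = k⁻¹ := by
    intro r hr r2
    have m2 : r ∈ ext (zpowers (k * k)) k := zpowers_le.2 (self_mem_ext _ _) hr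
    rcases (mem_ext (UPL.norm_of_cz fun r hr => comm_zpowers (mul_assoc k k k).symm hr)
      (mem_zpowers _)).1 m2 with m | m <;> rcases (UPL.mem_zp2 k4).1 m with e | e
    · exact absurd (by rw [e, mul_one]) r2
    · exact absurd (by rw [e, k4]) r2
    · exact Or.inr (eq_inv_of_mul_eq_one_right e)
    · exact Or.inl (mul_left_cancel e)
  rcases (mem_ext (UPL.norm_of_cz cz) (z2 ▸ one_mem _)).1 m with m | m
  · rcases key u m u2 with e | e <;> simp [e]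
  · have c : z * u = u * z := by
      have := cz _ m
      rw [mul_assoc] at this
      exact mul_left_cancel this
    have e : u = z * u * z := by rw [c, mul_assoc, z2, mul_one]
    rcases key _ m (by rwa [mul_assoc, ← mul_assoc u, ← c, ← mul_assoc, sq_cancel z2]) with k | k
    · exact Or.inr (Or.inr (Or.inl (by rw [e, k])))
    · exact Or.inr (Or.inr (Or.inr (by rw [e, k])))

theorem y3_yv (h : YX S Θ a b y) (hq : DQ Θ a b n) (h2 : 2 ≤ n) {y' : G} (t : TQ S R x s Θ' a' g n')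
    (o : YO S Θ' a' g n' y') : YV S (supp R x) Θ a n y g := by
  have q := t.dq
  have gΘ := DihA.bm q
  have gS := o.le gΘ
  have ez := eq_w h hq (o.le (zm q)) ((o.z1 _ (o.le (zm q))).2 (mem_zpowers _)) q.zz_ne.1
  have jS := o.le (jm q)
  have j'S := conjS o.mem jS
  have e2 : (closure {zz a' n', jj a' n' * (y' * jj a' n' * y'⁻¹)} : Subgroup G) ≤
      closure {zz a n, y * zz a n * y⁻¹} := fun u hu => by
    have uS : u ∈ S := (closure_le S).2 (by
      rintro _ (rfl | rfl)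
      exacts [o.le (zm q), mul_mem jS j'S]) hu
    exact (h.z2 hq (Or.inl h2) uS).1 fun w hw => ez ▸ (o.z2 u uS).2 hu w hw
  have e3 : ∀ u ∈ S, u ∈ (closure {jj a' n', y' * jj a' n' * y'⁻¹} : Subgroup G) →
      u ∈ (closure {zz a n, jj a n * (y * jj a n * y⁻¹)} : Subgroup G) := fun u uS hu =>
    (h.z3 hq h2 uS).1 fun w hw => e2 ((o.z3 u uS).2 hu w hw)
  have m1 := e3 _ jS (subset_closure (by simp))
  have m2 := e3 _ j'S (subset_closure (by simp))
  have z2 := hq.zz_ne.2.1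
  have j2 := DihA.jj2 hq h2
  have j'2 : y * jj a n * y⁻¹ * (y * jj a n * y⁻¹) = y * zz a n * y⁻¹ := by rw [← conj_mul', j2]
  have c1 := h.comm _ (jm hq) _ (conj_mem_cj.2 (jm hq))
  have c2 := h.comm _ (zm hq) _ (conj_mem_cj.2 (jm hq))
  have c3 := hq.zz_ne.2.2 _ (jm hq)
  have k2 : jj a n * (y * jj a n * y⁻¹) * (jj a n * (y * jj a n * y⁻¹)) =
      zz a n * (y * zz a n * y⁻¹) := by
    rw [← j'2, ← j2]
    generalize y * jj a n * y⁻¹ = j' at *
    rw [mul_assoc, ← mul_assoc j', ← c1]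
    simp only [mul_assoc]
  have zk : zz a n * (jj a n * (y * jj a n * y⁻¹)) = jj a n * (y * jj a n * y⁻¹) * zz a n := by
    rw [← mul_assoc, c3, mul_assoc, c2, mul_assoc (jj a n)]
  have k4 := w2 h hq
  rw [← k2] at k4
  have kz : jj a n * (y * jj a n * y⁻¹)⁻¹ = (jj a n * (y * jj a n * y⁻¹))⁻¹ * zz a n := by
    rw [← j2]
    generalize y * jj a n * y⁻¹ = j' at *
    rw [mul_inv_rev, mul_assoc, inv_mul_cancel_left]
    exact (show Commute (jj a n) j' from c1).inv_right.eq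
  have sq' := DihA.jj2 q t.two
  have cases := fun u hu u2 => y3_four (u := u) z2 zk k4 hu u2
  have cc := cases _ m1 (sq' ▸ q.zz_ne.1)
  have sw : g ∉ normalizer (Θ : Set G) := fun hn => by
    have gz := (h.norm_iff hq gS).1 hn
    have gj := (q.jj_sq t.two).2.1
    have gj' : y' * jj a' n' * y'⁻¹ * g = g * (y' * jj a' n' * y'⁻¹) := by
      have m : y'⁻¹ * g * y' ∈ cj y' Θ' := by
        rw [← mem_cj, (o.toYB.cj_out o.mem o.not_norm).2]; exact gΘ
      have := conj_comm y' (o.jc _ m)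
      rwa [show y' * (y'⁻¹ * g * y') * y'⁻¹ = g by group] at this
    have ne' : y' * jj a' n' * y'⁻¹ * (y' * jj a' n' * y'⁻¹) ≠ 1 := by
      rw [← conj_mul', sq']; exact conj_ne q.zz_ne.1 _
    have c' := cases _ m2 ne'
    generalize jj a n * (y * jj a n * y⁻¹) = k at *
    generalize zz a n = z at *
    have gz' := conj_eq_of_comm gz
    have zi := inv_of_sq z2
    have zk' : z * k⁻¹ = k⁻¹ * z := (show Commute z k from zk).inv_right.eq
    have gi : g * k⁻¹ * g⁻¹ = (g * k * g⁻¹)⁻¹ := by group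
    have gk : g * k * g⁻¹ = k⁻¹ := by
      rcases cc with e | e | e | e <;> rw [e] at gj
      · exact gj
      · exact inv_injective (gi ▸ gj)
      · rw [conj_mul', gz', mul_inv_rev, zi, zk'] at gj
        exact mul_right_cancel gj
      · rw [conj_mul', gz', mul_inv_rev, zi, inv_inv, zk, gi] at gj
        exact inv_eq_iff_eq_inv.1 (mul_right_cancel gj)
    have inv : g * (y' * jj a' n' * y'⁻¹) * g⁻¹ = (y' * jj a' n' * y'⁻¹)⁻¹ := by
      rcases c' with e | e | e | e <;> rw [e]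
      · exact gk
      · rw [gi, gk]
      · rw [conj_mul', gz', gk, mul_inv_rev, zi, zk']
      · rw [conj_mul', gz', gi, gk, mul_inv_rev, zi, inv_inv, zk]
    rw [← gj', mul_inv_cancel_right] at inv
    exact ne' (mul_eq_one_iff_eq_inv.2 inv)
  refine ⟨⟨R, x, s, Θ', a', n', y', t, o, rfl, ez, ?_⟩, gS, sw, ?_⟩
  · rcases cc with e | e | e | e <;> rw [e]
    · exact Or.inl rfl
    · exact Or.inl zpowers_inv
    · refine Or.inr ?_
      rw [kz, ← zpowers_inv, mul_inv_rev, inv_of_sq z2,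
        (show Commute (zz a n) _ from zk).inv_right.eq]
    · exact Or.inr (by rw [kz])
  · have e := (h.toYB.out hq gS sw).1
    calc g * zz a n * (g * zz a n) = g * zz a n * g⁻¹ * (g * g) * zz a n := by group
      _ = 1 := by
        rw [e, t.sq, ez, ← mul_assoc, ← zz' h hq, mul_assoc, ← zz' h hq]
        exact w2 h hq

theorem Ctx.yx_good (c : Ctx G) (h : YC c.S Θ a b n y) (h' : T2 c.S R x s) (hg : El 4 (supp R x) ∨ Q8 (supp R x)) :
    YW c.S (supp R x) a n ∨ YW c.S (cj y (supp R x)) a n ∨ ∃ g, YV c.S (supp R x) Θ a n y g := by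
  have hq := h.gd.dq
  rcases hg with h4 | h8
  · obtain ⟨Θ₀, a₀, b₀, n₀, td, xt | ⟨n2, y₀, yx⟩⟩ := c.goodD h' h4
    · have q := td.dq
      rcases Nat.lt_or_ge n₀ 2 with n1 | n2
      · obtain rfl : n₀ = 1 := by have := q.pos; omega
        have e : supp R x = Θ₀ := by rw [td.eq, q.eq]; simp [zz]
        have ix : Ix c.S R s := fun w hw =>
          h'.two w ⟨hw, ((h'.good c.pS (Or.inl h4)).2 w hw).1 (e ▸ xt.norm hw)⟩
        obtain ⟨-, c1, c2⟩ := h.yx.e2 hq h.two (h'.toT1.loc c.pS c.r4 ix)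
        have ez := eq_w h.yx hq (xt.le (zm q)) (xt.comm q (one_mem _)).2 q.zz_ne.1
        refine absurd (conj_eq_of_comm ?_).symm (h'.tri.four_ne h4 (e ▸ zm q) q.zz_ne.1)
        rw [ez, ← mul_assoc, c1, mul_assoc, c2, ← mul_assoc]
      · exact (not_xt h.yx hq h.two q n2 xt).elim
    · refine or_assoc.1 (Or.inl (yw h.yx hq h.two ⟨⟨R, x, s, Or.inl td⟩, n2, yx⟩ ?_))
      rw [td.eq, closure_le]
      rintro _ (rfl | rfl)
      exacts [zm td.dq, DihA.bm td.dq]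
  · obtain ⟨Θ₀, a₀, b₀, n₀, tq, xt | ⟨y₀, yx⟩ | ⟨y₀, yo⟩⟩ := h'.goodQ c.pS c.r4 h8
    · exact (not_xt h.yx hq h.two tq.dq tq.two xt).elim
    · refine or_assoc.1 (Or.inl (yw h.yx hq h.two ⟨⟨R, x, s, Or.inr tq⟩, tq.two, yx⟩ ?_))
      rw [tq.eq, closure_le]
      rintro _ (rfl | rfl)
      exacts [jm tq.dq, DihA.bm tq.dq]
    · exact Or.inr (Or.inr ⟨b₀, y3_yv h.yx hq h.two tq yo⟩)

theorem YC.same (h : YC S Θ a b n y) {y' : G} (h' : YC S Θ' a' b' n' y') (e : zz a' n' = zz a n) :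
    n' = n ∧ (∀ g ∈ S, g ∈ normalizer (Θ' : Set G) ↔ g ∈ normalizer (Θ : Set G)) ∧ ∀ u ∈ Θ', Cz u (Inv.Fz.cj y Θ) := by
  have hq := h.gd.dq
  have q := h'.gd.dq
  have nn : ∀ g ∈ S, g ∈ normalizer (Θ' : Set G) ↔ g ∈ normalizer (Θ : Set G) := fun g hg => by
    rw [h'.yx.norm_iff q hg, h.yx.norm_iff hq hg, e]
  refine ⟨?_, nn, fun u hu v hv => ?_⟩
  · rcases h.yx.card hq with ⟨e1, -⟩ | ⟨e1, -⟩ <;> rcases h'.yx.card q with ⟨e2, -⟩ | ⟨e2, -⟩ <;>
      have := Nat.pow_right_injective le_rfl (e1.symm.trans e2) <;> omega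
  · have n1 : Θ' ≤ normalizer (Inv.Fz.cj y Θ : Set G) := fun w hw =>
      (h.yx.toYB.norm' (h'.yx.le hw)).2 ((nn w (h'.yx.le hw)).1 (le_normalizer hw))
    have vS : v ∈ S := cj_le_iff.2 (fun w hw => conjS h.yx.mem (h.yx.le hw)) hv
    have n2 : v ∈ normalizer (Θ' : Set G) :=
      (nn v vS).2 (UPL.norm_of_cz fun w hw => (h.yx.comm w hw v hv).symm)
    have d : Θ' ⊓ Inv.Fz.cj y Θ = ⊥ := by
      by_contra k
      have m := q.zz_mem_normal h'.two inf_le_left (fun w hw => mem_normalizer_of_conj_mem fun r hr =>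
        ⟨(conj_mem_norm (le_normalizer hw)).2 hr.1, (conj_mem_norm (n1 hw)).2 hr.2⟩) k
      exact hq.zz_ne.1 (mem_bot.1 (h.yx.disj ▸ mem_inf.2 ⟨zm hq, e ▸ m.2⟩))
    refine UPL.cmb.1 (d ▸ mem_inf.2 ⟨?_, mul_mem ((conj_mem_norm (n1 hu)).2 hv) (inv_mem hv)⟩)
    rw [show ⁅u, v⁆ = u * (v * u⁻¹ * v⁻¹) by rw [commutatorElement_def]; group]
    exact mul_mem hu ((conj_mem_norm n2).2 (inv_mem hu))

theorem YV.eq {V : Subgroup G} (h : YV S V Θ a n y g) : V = closure {jj a n * (y * jj a n * y⁻¹), g} ∨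
    V = closure {jj a n * (y * jj a n * y⁻¹)⁻¹, g} := by
  obtain ⟨R, x, s, Θ₀, a₀, n₀, y₀, t, -, rfl, -, k⟩ := h.ex
  have e : ∀ p : G, (closure {p, g} : Subgroup G) = zpowers p ⊔ closure {g} := fun p => by
    rw [Set.insert_eq, Subgroup.closure_union, ← zpowers_eq_closure]
  rw [t.eq, e, e, e]
  exact k.imp (fun k => by rw [k]) fun k => by rw [k]

/-- A subgroup of index two over `Y` misses a good support. -/
theorem Ctx.yx_span (c : Ctx G) (h : YC c.S Θ a b n y) {M : Subgroup G} (hY : Θ ⊔ cj y Θ ≤ M) (hi : Ix c.S M g)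
    (hne : ¬ c.S ≤ M) : (∃ Θ' a' b' y', YC c.S Θ' a' b' n y' ∧ zz a' n = zz a n ∧ ¬ Θ' ≤ M) ∨
      ∃ V g', YV c.S V Θ a n y g' ∧ g' ∉ M := by
  have hq := h.gd.dq
  obtain ⟨R, x, s, bas, nl⟩ := c.span2 hi hne fun m hm ho w hw wM => by
    rwa [conj_eq_of_comm (h.yx.odd hq h.two (od_of_odd c.pS hm ho) w hw)]
  rcases bas.kind with ix | hg
  · exact absurd ((h.yx.e2 hq h.two (bas.toT1.loc c.pS c.r4 ix)).1.trans hY) nl
  rcases c.yx_good h bas.toT2 hg with ⟨Θ₀, a₀, b₀, n₀, y₀, k, e, le⟩ | ⟨Θ₀, a₀, b₀, n₀, y₀, k, e, le⟩ | ⟨g', k⟩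
  · obtain rfl := (h.same k e).1
    exact Or.inl ⟨Θ₀, a₀, b₀, y₀, k, e, fun l => nl (le.trans l)⟩
  · obtain rfl := (h.same k e).1
    refine Or.inl ⟨Θ₀, a₀, b₀, y₀, k, e, fun l => nl fun v hv => ?_⟩
    have m := l (le (conj_mem_cj.2 hv))
    by_contra vM
    by_cases yM : y ∈ M
    · exact vM ((conj_mem_norm (le_normalizer yM)).1 m)
    · have := mul_mem (inv_mem (hi.mul_mem h.yx.mem (bas.crit.le (supp_le bas.tri.xn hv)) yM vM)) m
      rw [inv_mul_cancel_left] at this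
      exact yM (inv_mem_iff.1 this)
  · refine Or.inr ⟨_, g', k, fun gM => nl ?_⟩
    have j1 := hY (mem_sup_left (jm hq))
    have j2 := hY (mem_sup_right (conj_mem_cj.2 (jm hq)))
    rcases k.eq with e | e <;> rw [e, closure_le] <;> rintro _ (rfl | rfl)
    exacts [mul_mem j1 j2, gM, mul_mem j1 (inv_mem j2), gM]

end Cfsg.Agent.GHK
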