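import Mathlib
import Cfsg.Agent.GHK.Defs3
import Cfsg.Agent.GHK.Y3

/-! The configuration `Y×` with `|S : Y| = 4`: two classes of type `∘`. -/

set_option autoImplicit false
set_option linter.unusedSectionVars false

namespace Cfsg.Agent.GHK

open Cfsg.Agent.Inv.Fz Cfsg.Agent.NE Subgroup
open scoped commutatorElement

variable {G : Type*} [Group G] [Finite G] {S R K N Θ Θ' H : Subgroup G} {x s g v a b a' b' y : G} {n n' : ℕ}

namespace Y5a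

theorem sub (h : YC S Θ a b n y) (hc : Nat.card S = 2 ^ (2 * n + 4)) {y' : G} (h' : YC S Θ' a' b' n' y')
    (e : zz a' n' = zz a n) : Θ' ≤ Θ ⊔ cj y Θ := fun u hu => by
  obtain ⟨-, h1, h2⟩ := h.same h' e
  have uS := h'.yx.le hu
  have uN := (h1 u uS).1 (le_normalizer hu)
  have k : ⁅u, y * b * y⁻¹⁆ ∈ phi (cj y Θ) := by
    rw [commutatorElement_eq_one_iff_mul_comm.2 (h2 u hu _ (conj_mem_cj.2 (YA.bm h.gd.dq)))]
    exact one_mem _
  rcases h.yx.card h.gd.dq with c | c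
  · exact h.yx.k0 u uS uN ((c.2 u uS uN).2 k) k
  · have := Nat.pow_right_injective le_rfl (hc.symm.trans c.1)
    omega

theorem inv (h : DQ Θ a b n) (e : b * b ≠ 1) (hv : v ∈ Θ) (v2 : v * v = 1) : v ∈ zpowers (zz a n) := by
  by_cases k : v ∈ zpowers a
  · rcases DihA.two_cases h k v2 with rfl | rfl
    exacts [one_mem _, mem_zpowers _]
  · exact (e ((DihA.sq_out h hv k).symm.trans v2)).elim

theorem invY (h : YX S Θ a b y) (hq : DQ Θ a b n) (e : b * b ≠ 1) (hv : v ∈ Θ ⊔ cj y Θ) (v2 : v * v = 1) :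
    v ∈ closure ({zz a n, y * zz a n * y⁻¹} : Set G) := by
  obtain ⟨u, hu, w, hw, rfl⟩ := (h.memY hq).1 hv
  have k := YA.uniq h (mul_mem hu hu) (mul_mem hw hw) (one_mem _) (one_mem _)
    (by rw [← Commute.mul_mul_mul_comm (h.comm u hu w hw).symm, v2, one_mul])
  have e' : y * b * y⁻¹ * (y * b * y⁻¹) ≠ 1 := fun e' => e (by rwa [conj_mul, conj_eq_one_iff] at e')
  have k2 := inv (hq.cj y) e' hw k.2
  rw [zz, conj_pow] at k2
  exact mul_mem (zpowers_le.2 (subset_closure (by simp)) (inv hq e hu k.1))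
    (zpowers_le.2 (subset_closure (by simp)) k2)

theorem sq (c : Ctx G) (h : YC c.S Θ a b n y) (hc : Nat.card c.S = 2 ^ (2 * n + 4)) : b * b = 1 := by
  by_contra e
  have hq := h.gd.dq
  have wS : zz a n * (y * zz a n * y⁻¹) ∈ c.S :=
    mul_mem (h.yx.le (YA.zmem hq)) (mul_mem (mul_mem h.yx.mem (h.yx.le (YA.zmem hq))) (inv_mem h.yx.mem))
  obtain ⟨R, x, s, t, ne⟩ := c.exists_move_z wS
    (fun e => YA.zne h.yx hq ((eq_inv_of_mul_eq_one_right e).trans (inv_of_sq hq.zz_ne.2.1))) (YA.czz h.yx hq)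
    fun m hm o => h.yx.odd hq h.two (od_of_odd c.pS hm o) _ wS
  have k : ¬ Ix c.S R s := fun i => by
    obtain ⟨-, h1, h2⟩ := h.yx.e2 hq h.two (t.toT1.loc c.pS c.r4 i)
    exact ne (by rw [← mul_assoc, h1, mul_assoc, h2, ← mul_assoc])
  rcases t.kind with i | i | i
  · exact k i
  swap
  · exact ne (t.toT2.q8_central i wS (YA.czz h.yx hq))
  have hV : supp R x ≤ Θ ⊔ cj y Θ := by
    rcases c.yx_good h t.toT2 (Or.inl i) with ⟨_, _, _, _, _, h', e, l⟩ | ⟨_, _, _, _, _, h', e, l⟩ |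
      ⟨g, ⟨_, _, _, _, _, _, _, q, -, e, -⟩, -⟩
    · exact l.trans (sub h hc h' e)
    · rw [← cj_le_cj (g := y), cj_eq_iff.2 (h.yx.normY h.yx.mem)]
      exact l.trans (sub h hc h' e)
    · have := q.q8.card
      rw [← e, i.card] at this
      omega
  have hQ : ∀ u ∈ c.S, u ∈ normalizer (Θ : Set G) → u ∈ R := fun u hu hn =>
    (t.toT2.good c.pS (Or.inl i)).1 u hu fun v hv =>
      (((h.yx.centerQ hq (t.crit.le (supp_le t.tri.xn hv))).2 (invY h.yx hq e (hV hv) (i.sq v hv))) u ⟨hu, hn⟩).symm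
  exact k fun u hu => or_iff_not_imp_left.2 fun n => hQ _ (mul_mem t.mem hu)
    (h.yx.ix.mul_mem t.mem hu (fun m => t.tri.s_not (hQ s t.mem m)) fun m => n (hQ u hu m))

end Y5a

open Y5a in
theorem Ctx.y5a (c : Ctx G) (h : YC c.S Θ a b n y) (hc : Nat.card c.S = 2 ^ (2 * n + 4)) :
    b * b = 1 ∧ ∃ V₁ V₂ g₁ g₂, YV c.S V₁ Θ a n y g₁ ∧ YV c.S V₂ Θ a n y g₂ ∧ g₁ * g₂ ∉ Θ ⊔ cj y Θ := by
  have hq := h.gd.dq
  have YN : Θ ⊔ cj y Θ ≤ normalizer (Θ : Set G) := sup_le le_normalizer (YA.nn h.yx).2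
  have sp : ∀ {M : Subgroup G} {g : G}, Θ ⊔ cj y Θ ≤ M → Ix c.S M g → ¬ c.S ≤ M →
      ∃ V g', YV c.S V Θ a n y g' ∧ g' ∉ M := fun l i m =>
    (c.yx_span h l i m).resolve_left fun ⟨_, _, _, _, h', e, k⟩ => k ((sub h hc h' e).trans l)
  obtain ⟨V₁, g₁, v₁, n₁⟩ := sp YN h.yx.ix fun l => h.yx.not_norm (l h.yx.mem)
  have g2 : g₁ * g₁ ∈ Θ ⊔ cj y Θ := by
    obtain ⟨_, _, _, _, _, _, _, q, -, -, e, -⟩ := v₁.ex
    rw [q.sq, e]
    exact mul_mem_sup (YA.zmem hq) (YA.zm' h.yx hq)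
  have cM := card_ext (h.yx.normY v₁.mem) g2 fun m => n₁ (YN m)
  rw [h.yx.cardY hq] at cM
  have MS : NE.ext (Θ ⊔ cj y Θ) g₁ ≤ c.S := ext_le.2 ⟨sup_le h.yx.le (cj_le_iff.2 fun u hu =>
    mul_mem (mul_mem h.yx.mem (h.yx.le hu)) (inv_mem h.yx.mem)), v₁.mem⟩
  have c2 : Nat.card c.S = 2 * Nat.card (NE.ext (Θ ⊔ cj y Θ) g₁) := by rw [cM, hc]; ring
  have nl : ¬ c.S ≤ NE.ext (Θ ⊔ cj y Θ) g₁ := fun l => by
    have := card_le_of_le l
    have := Nat.card_pos (α := c.S)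
    omega
  obtain ⟨g, hg, gn⟩ := SetLike.not_le_iff_exists.1 nl
  obtain ⟨V₂, g₂, v₂, n₂⟩ := sp (le_ext _ _) (ix_of_card MS hg gn c2) nl
  exact ⟨sq c h hc, V₁, V₂, g₁, g₂, v₁, v₂, fun m => n₂ ((mem_ext (h.yx.normY v₁.mem) g2).2 (Or.inr m))⟩

end Cfsg.Agent.GHK
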