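import Mathlib
import Cfsg.Agent.GHK.DihA
import Cfsg.Agent.GHK.TriG
import Cfsg.Agent.GHK.TriBa
import Cfsg.Agent.GHK.UPa

/-! Sections of order 16 in a product of two quaternion groups that commute modulo the centre. -/

set_option autoImplicit false
set_option linter.unusedSectionVars false

namespace Cfsg.Agent.GHK.Y6

open Cfsg.Agent.Inv.Fz Cfsg.Agent.NE Subgroup UPL
open scoped commutatorElement

variable {G : Type*} [Group G] [Finite G] {S A B W P K : Subgroup G} {z α a β b u v w e p t : G} {n : ℕ}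

theorem card_le2 (h : ∀ y ∈ A, ∀ w ∈ A, y ∉ K → w ∉ K → y * w ∈ K) : Nat.card A ≤ 2 * Nat.card (A ⊓ K : Subgroup G) := by
  by_cases l : A ≤ K
  · rw [inf_eq_left.2 l]; omega
  obtain ⟨y, hy, n⟩ := SetLike.not_le_iff_exists.1 l
  exact Ix.card_le (S := A) (s := y) (fun w hw => (em _).imp id (h y hy w hw n)) le_rfl

/-- A quaternion group `A` with centre `z` that commutes with `B` modulo `z`. -/
structure Pr (S A B : Subgroup G) (z α a : G) (n : ℕ) : Prop where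
  dq : DQ A α a n
  two : 2 ≤ n
  ez : zz α n = z
  sq : a * a = z
  hc : ∀ u ∈ A, ∀ v ∈ B, ⁅u, v⁆ ∈ zpowers z
  d : A ⊓ B ≤ zpowers z
  zB : z ∈ B
  cz : Cz z S
  lA : A ≤ S
  lB : B ≤ S

/-- `W / ⟨z⟩` is elementary of order 16. -/
structure Sx (S W : Subgroup G) (z : G) : Prop where
  r4 : Rk 16 S
  le : W ≤ S
  zW : z ∈ W
  sq : ∀ w ∈ W, w * w ∈ zpowers z
  card : Nat.card W = 16 * Nat.card (zpowers z)

theorem Sx.five (x : Sx S W z) (hu : u ∈ S) (h2 : u * u ∈ zpowers z) (h : ∀ w ∈ W, ⁅u, w⁆ ∈ zpowers z) : u ∈ W :=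
  x.r4.five x.le (zpowers_le.2 x.zW) x.sq x.card hu h2 h

theorem Sx.comm (x : Sx S W z) (hu : u ∈ W) (hv : v ∈ W) : ⁅u, v⁆ ∈ zpowers z := phi_le_iff.2 x.sq (comm_mem_phi hu hv)

namespace Pr
variable (h : Pr S A B z α a n)
include h

theorem z1 : z ≠ 1 := h.ez ▸ h.dq.zz_ne.1
theorem z2 : z * z = 1 := h.ez ▸ h.dq.zz_ne.2.1
theorem Zα : zpowers z ≤ zpowers α := zpowers_le.2 (h.ez ▸ pow_mem (mem_zpowers _) _)
theorem αA : zpowers α ≤ A := fun _ m => h.dq.mem.2 (.inl m)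
theorem aA : a ∈ A := h.dq.mem.2 (.inr (by simp))
theorem ZB : zpowers z ≤ B := zpowers_le.2 h.zB
theorem nZ : S ≤ normalizer (zpowers z : Set G) := fun g hg =>
  cj_eq_iff.1 (by rw [cj_zpowers, conj_eq_of_comm (h.cz g hg).symm])
theorem cZ (hu : u ∈ S) : u * v * u⁻¹ ∈ zpowers z ↔ v ∈ zpowers z := conj_mem_norm (h.nZ hu)
theorem hc' (hu : u ∈ A) (hv : v ∈ B) : ⁅v, u⁆ ∈ zpowers z := by simpa using inv_mem (h.hc u hu v hv)
theorem nB : A ≤ normalizer (B : Set G) := fun u hu => BsA.norm_of_comm fun v hv => h.ZB (h.hc u hu v hv)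
theorem nA : B ≤ normalizer (A : Set G) := fun _ hv => BsA.norm_of_comm fun _ hu => h.αA (h.Zα (h.hc' hu hv))
theorem mem : w ∈ A ⊔ B ↔ ∃ u ∈ A, ∃ v ∈ B, w = u * v := mem_sup_iff_of_le_normalizer h.nB
theorem mem' : w ∈ A ⊔ B ↔ ∃ v ∈ B, ∃ u ∈ A, w = v * u := by rw [sup_comm, mem_sup_iff_of_le_normalizer h.nA]
theorem nY : A ⊔ B ≤ normalizer (A : Set G) := sup_le le_normalizer h.nA
theorem nα : A ⊔ B ≤ normalizer (zpowers α : Set G) := sup_le h.dq.le_norm_a fun _ hv =>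
  BsA.norm_of_comm fun _ hu => h.Zα (h.hc' (h.αA hu) hv)

theorem split (hu : u ∈ A) (hv : v ∈ B) (e : v * u ∈ zpowers z) : u ∈ zpowers z :=
  h.d ⟨hu, (mul_mem_cancel_left hv).1 (h.ZB e)⟩

theorem sq_out (hu : u ∈ A) (h1 : u ∉ zpowers α) : u * u = z := by
  obtain ⟨i, e⟩ := (h.dq.mem.1 hu).resolve_left h1
  rw [show u = a * α ^ i by rw [show α ^ i = _ from e, mul_inv_cancel_left], (h.dq.shift i).2, h.sq]

theorem inv_out (hu : u ∈ A) (h1 : u ∉ zpowers α) (hv : v ∈ zpowers α) : u * v * u⁻¹ = v⁻¹ := by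
  obtain ⟨i, e⟩ := (h.dq.mem.1 hu).resolve_left h1
  exact inverts_zpowers (by rw [show u = a * α ^ i by rw [show α ^ i = _ from e, mul_inv_cancel_left]]
                            exact (h.dq.shift i).1.inv) hv

theorem mul_out (hu : u ∈ A) (hv : v ∈ A) (h1 : u ∉ zpowers α) (h2 : v ∉ zpowers α) : u * v ∈ zpowers α := by
  simpa using mul_mem (inv_mem ((h.dq.mem.1 (inv_mem hu)).resolve_left (by simpa using h1)))
    ((h.dq.mem.1 hv).resolve_left h2)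

theorem inv_cyc (hu : u ∈ zpowers α) (e : u * u = 1) : u ∈ zpowers z := by
  by_cases u1 : u = 1
  · exact u1 ▸ one_mem _
  have := zz_mem h.dq.ord (zpowers_le.2 hu) (by simpa using u1)
  rw [h.ez, mem_zp2 e] at this
  exact (this.resolve_left h.z1) ▸ mem_zpowers _

theorem mul_j (hu : u ∈ zpowers α) (hv : v ∈ zpowers α) (u2 : u * u ∈ zpowers z) (v2 : v * v ∈ zpowers z)
    (u1 : u ∉ zpowers z) (v1 : v ∉ zpowers z) : u * v ∈ zpowers z := by
  refine h.inv_cyc (mul_mem hu hv) ?_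
  have c : Commute v u := comm_zpowers (comm_zpowers rfl hv).symm hu
  rw [c.mul_mul_mul_comm, ((mem_zp2 h.z2).1 u2).resolve_left fun e => u1 (h.inv_cyc hu e),
    ((mem_zp2 h.z2).1 v2).resolve_left fun e => v1 (h.inv_cyc hv e), h.z2]

theorem comm_j (hp : p ∈ normalizer (zpowers α : Set G)) (hu : u ∈ zpowers α) (u2 : u * u ∈ zpowers z) :
    ⁅p, u⁆ ∈ zpowers z := by
  obtain ⟨_, ⟨k, rfl⟩, e⟩ := act_odd h.dq.ord hp
  obtain ⟨i, rfl⟩ := hu
  have := pow_mem u2 k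
  rw [commutatorElement_def, ← conj_zpow, e]
  convert this using 1
  simp only []
  group

/-- The components of an element of `W`. -/
theorem proj (x : Sx S W z) (hW : W ≤ A ⊔ B) (hu : u ∈ A) (hv : v ∈ B) (hw : v * u ∈ W) : u ∈ W := by
  refine x.five (h.lA hu) (h.split (mul_mem hu hu) (mul_mem hv ((conj_mem_norm (h.nB hu)).2 hv)) ?_) fun w m => ?_
  · convert x.sq _ hw using 1
    group
  · have := x.comm hw m
    rw [mul_cm] at this
    have a1 : ⁅u, w⁆ ∈ A := by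
      rw [commutatorElement_def, mul_assoc, mul_assoc, ← mul_assoc w]
      exact mul_mem hu ((conj_mem_norm (h.nY (hW m))).2 (inv_mem hu))
    have a2 : ⁅v, w⁆ ∈ B := by
      rw [commutatorElement_def, mul_assoc, mul_assoc, ← mul_assoc w]
      exact mul_mem hv ((conj_mem_norm ((sup_le h.nB le_normalizer : A ⊔ B ≤ _) (hW m))).2 (inv_mem hv))
    exact (h.cZ (h.lB hv)).1 (h.d ⟨(conj_mem_norm (h.nA hv)).2 a1, (mul_mem_cancel_right a2).1 (h.ZB this)⟩)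

/-- An element of `A` lies in `W` if it centralises `W ∩ A` modulo the centre. -/
theorem loc (x : Sx S W z) (hW : W ≤ A ⊔ B) (hu : u ∈ A) (u2 : u * u ∈ zpowers z)
    (k : ∀ d ∈ W, d ∈ A → ⁅u, d⁆ ∈ zpowers z) : u ∈ W := x.five (h.lA hu) u2 fun w m => by
  obtain ⟨v, hv, d, hd, rfl⟩ := h.mem'.1 (hW m)
  rw [cm_mul]
  exact mul_mem (h.hc u hu v hv) ((h.cZ (h.lB hv)).2 (k d (h.proj x hW hd hv m) hd))

theorem exists_e (x : Sx S W z) (hW : W ≤ A ⊔ B) : ∃ e ∈ W, e ∈ A ∧ e ∉ zpowers α := by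
  by_contra! k
  exact h.dq.not_mem (k a (h.loc x hW h.aA (h.sq ▸ mem_zpowers _) fun d m hd =>
    h.comm_j (h.dq.le_norm_a h.aA) (k d m hd) (x.sq d m)) h.aA)

theorem j_mem (x : Sx S W z) (hW : W ≤ A ⊔ B) : jj α n ∈ W := by
  have m : jj α n ∈ zpowers α := pow_mem (mem_zpowers _) _
  have s : jj α n * jj α n ∈ zpowers z := by rw [(h.dq.jj_sq h.two).1, h.ez]; exact mem_zpowers _
  exact h.loc x hW (h.αA m) s fun d _ hd => by simpa using inv_mem (h.comm_j (h.dq.le_norm_a hd) m s)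

theorem of_comm (x : Sx S W z) (hW : W ≤ A ⊔ B) (he : e ∈ W) (eA : e ∈ A) (e1 : e ∉ zpowers α) (hu : u ∈ A)
    (k : ⁅e, u⁆ ∈ zpowers z) : u ∈ W := by
  refine h.loc x hW hu ?_ fun d m hd => ?_
  · by_cases c : u ∈ zpowers α
    · rw [commutatorElement_def, h.inv_out eA e1 c] at k
      simpa using inv_mem k
    · exact h.sq_out hu c ▸ mem_zpowers _
  · by_cases c : d ∈ zpowers α
    · exact h.comm_j (h.dq.le_norm_a hu) c (x.sq d m)
    · rw [show d = e⁻¹⁻¹ * (e⁻¹ * d) by group, inv_inv, cm_mul]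
      exact mul_mem (by simpa using inv_mem k) ((h.cZ (h.lA eA)).2 (h.comm_j (h.dq.le_norm_a hu)
        (h.mul_out (inv_mem eA) hd (by simpa using e1) c) (x.sq _ (mul_mem (inv_mem he) m))))

/-- The stabiliser of `e` modulo the centre has index at most two. -/
theorem stab (x : Sx S W z) (he : e ∈ W) (eA : e ∈ A) (e1 : e ∉ zpowers α) (hP : P ≤ A ⊔ B)
    (hn : P ≤ normalizer (W : Set G)) :
    ∃ K : Subgroup G, (∀ p, p ∈ K ↔ p ∈ P ∧ ⁅e, p⁆ ∈ zpowers z) ∧ Nat.card P ≤ 2 * Nat.card K := by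
  have hS : P ≤ S := hP.trans (sup_le h.lA h.lB)
  obtain ⟨K, hK⟩ := TriB.exists_fx' e (hS.trans h.nZ)
  have k : ∀ {p}, p ∈ P → ⁅e, p⁆ ∈ zpowers α ∧ ⁅e, p⁆ ∈ W := fun {p} hp => by
    rw [commutatorElement_def, mul_assoc, mul_assoc, ← mul_assoc p]
    exact ⟨h.mul_out eA ((conj_mem_norm (h.nY (hP hp))).2 (inv_mem eA)) e1
      (by rw [conj_mem_norm (h.nα (hP hp))]; simpa using e1), mul_mem he ((conj_mem_norm (hn hp)).2 (inv_mem he))⟩
  refine ⟨K, hK, (card_le2 (K := K) fun p hp q hq p1 q1 => (hK _).2 ⟨mul_mem hp hq, ?_⟩).trans (by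
    rw [inf_eq_right.2 fun p hp => ((hK p).1 hp).1])⟩
  rw [cm_mul]
  exact h.mul_j (k hp).1 ((conj_mem_norm (h.nα (hP hp))).2 (k hq).1) (x.sq _ (k hp).2)
    (x.sq _ ((conj_mem_norm (hn hp)).2 (k hq).2)) (fun m => p1 ((hK _).2 ⟨hp, m⟩))
    fun m => q1 ((hK _).2 ⟨hq, (h.cZ (hS hp)).1 m⟩)

theorem card_le (h' : Pr S B A z β b n) (x : Sx S W z) (hW : W ≤ A ⊔ B) (hP : P ≤ A ⊔ B)
    (hn : P ≤ normalizer (W : Set G)) : Nat.card P ≤ 4 * Nat.card W := by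
  have hW' : W ≤ B ⊔ A := by rwa [sup_comm]
  obtain ⟨e, he, eA, e1⟩ := h.exists_e x hW
  obtain ⟨e', he', eA', e1'⟩ := h'.exists_e x hW'
  obtain ⟨K, hK, c⟩ := h.stab x he eA e1 hP hn
  have l : K ≤ P := fun p hp => ((hK p).1 hp).1
  obtain ⟨K', hK', c'⟩ := h'.stab x he' eA' e1' (P := K) (by rw [sup_comm]; exact l.trans hP) (l.trans hn)
  have : K' ≤ W := fun p hp => by
    obtain ⟨p1, p2⟩ := (hK' p).1 hp
    obtain ⟨p0, p3⟩ := (hK p).1 p1
    obtain ⟨u, hu, v, hv, rfl⟩ := h.mem.1 (hP p0)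
    rw [cm_mul] at p2 p3
    exact mul_mem (h.of_comm x hW he eA e1 hu ((mul_mem_cancel_right ((h.cZ (h.lA hu)).2 (h.hc e eA v hv))).1 p3))
      (h'.of_comm x hW' he' eA' e1' hv ((h.cZ (h.lA hu)).1 ((mul_mem_cancel_left (h.hc' hu eA')).1 p2)))
  have := card_le_of_le this
  omega

theorem j_comm (hu : u ∈ phi A) (hv : v ∈ B) : u * v = v * u := by
  rw [h.dq.phi_eq] at hu
  refine (comm_zpowers (cm1.1 ?_).symm hu).symm
  have := h.hc α (h.αA (mem_zpowers _)) v hv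
  rw [mul_cm]
  rcases (mem_zp2 h.z2).1 this with e | e
  · simp [e]
  · rw [e, conj_eq_of_comm (h.cz _ (h.lA (h.αA (mem_zpowers _)))).symm, h.z2]

theorem j_phi (h3 : 3 ≤ n) : jj α n ∈ phi A := by
  rw [h.dq.phi_eq]
  exact ⟨(2 ^ (n - 3) : ℕ), by
    simp only [zpow_natCast, jj]
    rw [← pow_two, ← pow_mul, ← pow_succ', show n - 3 + 1 = n - 2 by omega]⟩

/-- `W` lies in the base group. -/
theorem le_base (h3 : 3 ≤ n) (x : Sx S W z) (hi : Ix S (A ⊔ B) t) (ht : cj t A = B) : W ≤ A ⊔ B := by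
  by_contra k
  obtain ⟨w, hw, w1⟩ := SetLike.not_le_iff_exists.1 k
  have nB : A ⊔ B ≤ normalizer (B : Set G) := sup_le h.nB le_normalizer
  have a1 : W ⊓ B ≤ zpowers z := fun v hv => by
    have m : t * w * v * (t * w)⁻¹ ∈ B := (conj_mem_norm (nB ((hi w (x.le hw)).resolve_left w1))).2 hv.2
    rw [← NE.conj_conj, ← ht, conj_mem_cj] at m
    refine (h.cZ (x.le hw)).1 (h.d ⟨m, ?_⟩)
    simpa [commutatorElement_def] using mul_mem (h.ZB (x.comm hw hv.1)) hv.2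
  have c1 := hi.card_le x.le
  have i2 : Ix (A ⊔ B) (centralizer {jj α n}) a := fun y hy => by
    obtain ⟨u, hu, v, hv, rfl⟩ := h.mem.1 hy
    have b1 : v ∈ centralizer {jj α n} := mem_centralizer_singleton_iff.2 (h.j_comm (h.j_phi h3) hv).symm
    have b2 : ∀ {u}, u ∈ zpowers α → u ∈ centralizer {jj α n} := fun m =>
      mem_centralizer_singleton_iff.2 ((h.dq.cen h.two (h.αA m)).1.2 m)
    by_cases c : u ∈ zpowers α
    · exact .inl (mul_mem (b2 c) b1)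
    · exact .inr (mul_assoc a u v ▸ mul_mem (b2 (h.mul_out h.aA hu h.dq.not_mem c)) b1)
  have c2 := i2.card_le (K := W ⊓ (A ⊔ B)) inf_le_right
  have dec : ∀ {y}, y ∈ W ⊓ (A ⊔ B) ⊓ centralizer {jj α n} → y ∉ B →
      ∃ v ∈ B, ∃ u ∈ zpowers α, y = v * u ∧ u * u ∈ zpowers z ∧ u ∉ zpowers z := fun {y} hy y1 => by
    obtain ⟨v, hv, u, hu, rfl⟩ := h.mem'.1 hy.1.2
    refine ⟨v, hv, u, (h.dq.cen h.two hu).1.1 (mem_centralizer_singleton_iff.1 ((mul_mem_cancel_left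
      (mem_centralizer_singleton_iff.2 (h.j_comm (h.j_phi h3) hv).symm)).1 hy.2)), rfl,
      h.split (mul_mem hu hu) (mul_mem hv ((conj_mem_norm (h.nB hu)).2 hv)) ?_, fun m => y1 (mul_mem hv (h.ZB m))⟩
    convert x.sq _ hy.1.1 using 1
    group
  have c3 := card_le2 (A := W ⊓ (A ⊔ B) ⊓ centralizer {jj α n}) (K := B) fun y hy y' hy' y1 y1' => by
    obtain ⟨v, hv, u, hu, rfl, u2, u1⟩ := dec hy y1
    obtain ⟨v', hv', u', hu', rfl, u2', u1'⟩ := dec hy' y1'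
    convert mul_mem (mul_mem hv ((conj_mem_norm (h.nB (h.αA hu))).2 hv')) (h.ZB (h.mul_j hu hu' u2 u2' u1 u1')) using 1
    group
  have c4 := card_le_of_le ((inf_le_inf_right B (inf_le_left.trans inf_le_left) :
    W ⊓ (A ⊔ B) ⊓ centralizer {jj α n} ⊓ B ≤ W ⊓ B).trans a1)
  have := x.card
  rw [card_zp2 h.z2 h.z1] at this c4
  omega

end Pr

end Cfsg.Agent.GHK.Y6
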