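import Mathlib
import Cfsg.Agent.GHK.Main

/-! Simple groups of sectional 2-rank at most four, with an isomorphism in the Hall-Janko case. -/

set_option autoImplicit false

namespace Cfsg.Agent.GHK

theorem goal_of_rank {G : Type*} [Group G] [Finite G] [IsSimpleGroup G]
    (hG : ¬ IsMulCommutative G) (h4 : Cfsg.SectionalPRankLE 2 4 G) : Goal G := by
  by_contra h
  obtain ⟨P⟩ : Nonempty (Sylow 2 G) := inferInstance
  exact GHK.Ctx.false ⟨P, Inv.Fz.isSylIn_top P, inferInstance, hG, h4, h⟩

end Cfsg.Agent.GHK
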